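import Cfsg.Agent.Lib.JankoFour.Setting
import Mathlib.GroupTheory.Transfer

/-!
# First consequences in a centralizer of Janko-four type (owner: helper14)

`H = E N_H(P)`, `C = C_H(P)` maps onto the Mathieu group with kernel `<z> × P`, lifts of elements of order
three have order three and two of them generate `P` by commutation.
-/

set_option autoImplicit false

namespace CfsgLib.JankoFour

open Cfsg CfsgLib.ThreeTrans
open CfsgLib.JankoFour.M22 (Grp)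

variable {G : Type*} [Group G]

namespace Setting

variable (S : Setting G)

/-- The map to the Mathieu group, extended by `1`. -/
noncomputable def f (x : G) : Grp :=
  @dite Grp (x ∈ S.H0) (Classical.propDecidable _) (fun h => S.φ ⟨x, h⟩) (fun _ => 1)

theorem f_eq {x : G} (h : x ∈ S.H0) : S.f x = S.φ ⟨x, h⟩ := dif_pos h

theorem f_mul {x y : G} (hx : x ∈ S.H0) (hy : y ∈ S.H0) : S.f (x * y) = S.f x * S.f y := by
  rw [S.f_eq hx, S.f_eq hy, S.f_eq (mul_mem hx hy), ← map_mul]; rfl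

theorem f_one : S.f 1 = 1 := by rw [S.f_eq (one_mem _)]; exact map_one S.φ

theorem f_inv {x : G} (hx : x ∈ S.H0) : S.f x⁻¹ = (S.f x)⁻¹ := by
  rw [S.f_eq hx, S.f_eq (inv_mem hx), ← map_inv]; rfl

theorem f_pow {x : G} (hx : x ∈ S.H0) (n : ℕ) : S.f (x ^ n) = S.f x ^ n := by
  rw [S.f_eq hx, S.f_eq (pow_mem hx n), ← map_pow]; rfl

theorem f_conj {x y : G} (hx : x ∈ S.H0) (hy : y ∈ S.H0) : S.f (x * y * x⁻¹) = S.f x * S.f y * (S.f x)⁻¹ := by
  rw [S.f_mul (mul_mem hx hy) (inv_mem hx), S.f_mul hx hy, S.f_inv hx]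

theorem EP_le_H0 : S.E ⊔ S.P ≤ S.H0 := sup_le S.hEH0 S.hPH0

theorem f_eq_one_iff {x : G} (hx : x ∈ S.H0) : S.f x = 1 ↔ x ∈ S.E ⊔ S.P := by
  rw [S.f_eq hx]; exact S.hker _

theorem exists_f (g : Grp) : ∃ x ∈ S.H0, S.f x = g := by
  obtain ⟨x, rfl⟩ := S.hφ g
  exact ⟨x, x.2, S.f_eq x.2⟩

theorem P_le_normalizer_E : S.P ≤ Subgroup.normalizer (S.E : Set G) := fun _ hp =>
  S.hE.hnorm (mem_centralizer_singleton_iff'.2 (S.P_commute_z hp).eq)

theorem mem_EP {x : G} : x ∈ S.E ⊔ S.P ↔ ∃ q ∈ S.P, ∃ e ∈ S.E, x = q * e := by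
  rw [sup_comm, CfsgLib.Core.mem_sup_iff_mul S.P_le_normalizer_E]

theorem mem_E_of_zpowers {x : G} (hx : x ∈ Subgroup.zpowers S.z) : x ∈ S.E :=
  Subgroup.zpowers_le.2 S.hE.z_mem hx

theorem z_mem_C : S.z ∈ S.C := by
  rw [S.mem_C]; exact ⟨Commute.refl _, fun p hp => (S.P_commute_z hp).symm⟩

theorem P_comm {p q : G} (hp : p ∈ S.P) (hq : q ∈ S.P) : Commute p q := by
  obtain ⟨g, -, -, h⟩ := S.exists_p
  rcases h p hp with rfl | rfl | rfl <;> rcases h q hq with rfl | rfl | rfl <;>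
    first | exact Commute.one_left _ | exact Commute.one_right _ | exact Commute.refl _ |
      exact (Commute.refl _).inv_right | exact (Commute.refl _).inv_left |
      exact ((Commute.refl _).inv_left).inv_right

theorem P_pow_three {q : G} (hq : q ∈ S.P) : q ^ 3 = 1 := by
  haveI : Finite S.P := Nat.finite_of_card_ne_zero (by rw [S.hPc]; norm_num)
  have := congrArg Subtype.val (pow_card_eq_one' (G := S.P) (x := ⟨q, hq⟩))
  rw [S.hPc] at this
  simpa using this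

theorem P_inf_E {q : G} (hq : q ∈ S.P) (hqE : q ∈ S.E) : q = 1 := by
  have hz : q ∈ Subgroup.zpowers S.z := by
    rw [← S.hCP]
    exact ⟨hqE, Subgroup.mem_centralizer_iff.2 fun p hp => (S.P_comm hp hq).eq⟩
  rcases S.hE.eq_or hz with e | e
  · exact e
  · exfalso
    have h3 := S.P_pow_three hq
    rw [e, pow_succ, pow_two, S.hE.mul_self_z, one_mul] at h3
    exact S.hE.z_ne_one h3

theorem P_le_C : S.P ≤ S.C := fun _ hp => S.mem_C.2 ⟨S.P_commute_z hp, fun _ hq => S.P_comm hp hq⟩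

theorem C_inf_EP {x : G} (hx : x ∈ S.C) (hxe : x ∈ S.E ⊔ S.P) :
    ∃ q ∈ S.P, ∃ c ∈ Subgroup.zpowers S.z, x = q * c := by
  obtain ⟨q, hq, e, he, rfl⟩ := S.mem_EP.1 hxe
  refine ⟨q, hq, e, ?_, rfl⟩
  rw [← S.hCP]
  refine ⟨he, ?_⟩
  have : e ∈ S.C := by
    have := mul_mem (inv_mem (S.P_le_C hq)) hx
    rwa [inv_mul_cancel_left] at this
  exact this.2

variable [Finite G]

theorem two_mem_E {x : G} (hx : x ∈ S.E ⊔ S.P) {n : ℕ} (h2 : x ^ 2 ^ n = 1) : x ∈ S.E := by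
  obtain ⟨q, hq, e, he, rfl⟩ := S.mem_EP.1 hx
  haveI hEn : (S.E.subgroupOf (S.E ⊔ S.P)).Normal :=
    Subgroup.normal_subgroupOf_of_le_normalizer (sup_le (Subgroup.le_normalizer) S.P_le_normalizer_E)
  let π := QuotientGroup.mk' (S.E.subgroupOf (S.E ⊔ S.P))
  have hqm : q ∈ S.E ⊔ S.P := Subgroup.mem_sup_right hq
  have hem : e ∈ S.E ⊔ S.P := Subgroup.mem_sup_left he
  have h1 : π ⟨q * e, hx⟩ = π ⟨q, hqm⟩ := by
    rw [show (⟨q * e, hx⟩ : ↥(S.E ⊔ S.P)) = ⟨q, hqm⟩ * ⟨e, hem⟩ from rfl, map_mul,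
      show π ⟨e, hem⟩ = 1 from (QuotientGroup.eq_one_iff _).2 (Subgroup.mem_subgroupOf.2 he), mul_one]
  have h2' : π ⟨q, hqm⟩ ^ 2 ^ n = 1 := by
    rw [← h1, ← map_pow, show (⟨q * e, hx⟩ : ↥(S.E ⊔ S.P)) ^ 2 ^ n = 1 from Subtype.ext h2, map_one]
  have h3 : π ⟨q, hqm⟩ ^ 3 = 1 := by
    rw [← map_pow, show (⟨q, hqm⟩ : ↥(S.E ⊔ S.P)) ^ 3 = 1 from Subtype.ext (S.P_pow_three hq), map_one]
  have h4 : π ⟨q, hqm⟩ = 1 := by
    have := pow_gcd_eq_one.2 (And.intro h2' h3)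
    rwa [Nat.Coprime.pow_left n (by norm_num : Nat.Coprime 2 3), pow_one] at this
  have h5 : q ∈ S.E := Subgroup.mem_subgroupOf.1 ((QuotientGroup.eq_one_iff _).1 h4)
  exact mul_mem h5 he

theorem EP_card : Nat.card ↥(S.E ⊔ S.P) = 3 * 2 ^ 13 := by
  have hbij : Function.Bijective (fun x : ↥S.P × ↥S.E =>
      (⟨x.1 * x.2, mul_mem (Subgroup.mem_sup_right x.1.2) (Subgroup.mem_sup_left x.2.2)⟩ : ↥(S.E ⊔ S.P))) := by
    constructor
    · rintro ⟨q, e⟩ ⟨q', e'⟩ h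
      have h' : (q : G) * e = q' * e' := congrArg Subtype.val h
      have hq : (q' : G)⁻¹ * q = e' * (e : G)⁻¹ := by
        calc (q' : G)⁻¹ * q = (q' : G)⁻¹ * (q * e) * (e : G)⁻¹ := by group
          _ = _ := by rw [h']; group
      have h1 := S.P_inf_E (mul_mem (inv_mem q'.2) q.2) (hq ▸ mul_mem e'.2 (inv_mem e.2))
      have hqq : (q : G) = q' := (inv_mul_eq_one.1 h1).symm
      rw [hqq] at h'
      exact Prod.ext (Subtype.ext hqq) (Subtype.ext (mul_left_cancel h'))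
    · rintro ⟨x, hx⟩
      obtain ⟨q, hq, e, he, rfl⟩ := S.mem_EP.1 hx
      exact ⟨(⟨q, hq⟩, ⟨e, he⟩), rfl⟩
  rw [← Nat.card_congr (Equiv.ofBijective _ hbij), Nat.card_prod, S.hPc, S.hcard]

theorem three_conj {x : G} (hx : x ∈ S.E ⊔ S.P) (hx3 : x ^ 3 = 1) :
    ∃ e ∈ S.E, e * x * e⁻¹ ∈ S.P := by
  by_cases hx1 : x = 1
  · exact ⟨1, one_mem _, by simp [hx1]⟩
  haveI : Fact (Nat.Prime 3) := ⟨Nat.prime_three⟩
  set K := S.E ⊔ S.P with hK
  have hf : (Nat.card K).factorization 3 = 1 := by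
    rw [S.EP_card, Nat.factorization_mul (by norm_num) (by norm_num), Finsupp.add_apply,
      Nat.Prime.factorization_self Nat.prime_three, Nat.factorization_eq_zero_of_not_dvd (by norm_num)]
  have hxo : orderOf x = 3 := orderOf_eq_prime hx3 hx1
  let P₀ : Sylow 3 K := Sylow.ofCard (S.P.subgroupOf K) (by
    rw [Nat.card_congr (Subgroup.subgroupOfEquivOfLe (le_sup_right : S.P ≤ K)).toEquiv, S.hPc, hf, pow_one])
  obtain ⟨k, hk, he⟩ := CfsgLib.Core.exists_conj_of_card_eq P₀ (Q := Subgroup.zpowers x) (Subgroup.zpowers_le.2 hx)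
    (by rw [Nat.card_zpowers, hxo, Sylow.coe_ofCard, Subgroup.map_subgroupOf_eq_of_le le_sup_right, S.hPc])
  rw [Sylow.coe_ofCard, Subgroup.map_subgroupOf_eq_of_le le_sup_right, CfsgLib.Core.conj_smul_eq_map] at he
  obtain ⟨q0, hq0, hq0x⟩ : x ∈ S.P.map (MulAut.conj k).toMonoidHom := he ▸ Subgroup.mem_zpowers x
  obtain ⟨q, hq, e, he', hke⟩ := S.mem_EP.1 (inv_mem hk)
  refine ⟨e, he', ?_⟩
  rw [← hq0x, show (MulAut.conj k).toMonoidHom q0 = k * q0 * k⁻¹ from rfl,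
    show k = e⁻¹ * q⁻¹ by rw [← inv_inv k, hke]; group,
    show e * (e⁻¹ * q⁻¹ * q0 * (e⁻¹ * q⁻¹)⁻¹) * e⁻¹ = q⁻¹ * q0 * q by group]
  exact mul_mem (mul_mem (inv_mem hq) hq0) hq

/-- Membership in `N_H(P)`, element form. -/
def Norm (n : G) : Prop := Commute n S.z ∧ ∀ q ∈ S.P, n * q * n⁻¹ ∈ S.P

theorem norm_iff {n : G} : S.Norm n ↔ n ∈ S.H ⊓ Subgroup.normalizer (S.P : Set G) := by
  rw [Subgroup.mem_inf, S.mem_H]
  refine and_congr_right fun _ => ⟨fun h => ?_, fun h q hq => (Subgroup.mem_normalizer_iff.1 h q).1 hq⟩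
  rw [CfsgLib.Core.mem_normalizer_iff_conj_smul_eq, CfsgLib.Core.conj_smul_eq_map]
  refine Subgroup.eq_of_le_of_card_ge ?_ (by rw [Subgroup.card_map_of_injective (MulAut.conj n).injective])
  rintro _ ⟨q, hq, rfl⟩
  exact h q hq

theorem Norm.mul {m n : G} (hm : S.Norm m) (hn : S.Norm n) : S.Norm (m * n) := by
  rw [norm_iff] at hm hn ⊢; exact mul_mem hm hn

theorem Norm.inv {m : G} (hm : S.Norm m) : S.Norm m⁻¹ := by
  rw [norm_iff] at hm ⊢; exact inv_mem hm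

theorem norm_of_mem_C {c : G} (hc : c ∈ S.C) : S.Norm c := by
  obtain ⟨hz, h⟩ := S.mem_C.1 hc
  exact ⟨hz, fun q hq => by rwa [(h q hq).eq, mul_inv_cancel_right]⟩

theorem C_pair {h : G} (hh : Commute h S.z) : ∃ e ∈ S.E, ∃ n, S.Norm n ∧ h = e * n := by
  obtain ⟨p, hp, hp3, hP⟩ := S.exists_p
  have hx : h * p * h⁻¹ ∈ S.E ⊔ S.P := S.hEPn h hh p (Subgroup.mem_sup_right hp)
  have hx3 : (h * p * h⁻¹) ^ 3 = 1 := by rw [conj_pow, S.P_pow_three hp]; simp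
  obtain ⟨e, he, hep⟩ := S.three_conj hx hx3
  refine ⟨e⁻¹, inv_mem he, e * h, ⟨(S.hE.commute_z he).mul_left hh, fun q hq => ?_⟩, by group⟩
  have h1 : e * h * p * (e * h)⁻¹ ∈ S.P := by
    rw [show e * h * p * (e * h)⁻¹ = e * (h * p * h⁻¹) * e⁻¹ by group]; exact hep
  rcases hP q hq with rfl | rfl | rfl
  · simp
  · exact h1
  · rw [show e * h * p⁻¹ * (e * h)⁻¹ = (e * h * p * (e * h)⁻¹)⁻¹ by group]; exact inv_mem h1

theorem exists_C (g : Grp) : ∃ c ∈ S.C, S.f c = g := by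
  classical
  have hsurj : ∀ g : Grp, ∃ n, S.Norm n ∧ n ∈ S.H0 ∧ S.f n = g := by
    intro g
    obtain ⟨x, hx, rfl⟩ := S.exists_f g
    obtain ⟨e, he, n, hn, rfl⟩ := S.C_pair (mem_centralizer_singleton_iff'.1 (S.hH0 hx))
    have hn0 : n ∈ S.H0 := by
      have := mul_mem (inv_mem (S.hEH0 he)) hx
      rwa [inv_mul_cancel_left] at this
    exact ⟨n, hn, hn0, by rw [S.f_mul (S.hEH0 he) hn0, (S.f_eq_one_iff (S.hEH0 he)).2 (Subgroup.mem_sup_left he),
      one_mul]⟩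
  obtain ⟨n, hn, hn0, hng⟩ := hsurj g
  refine ⟨n, ?_, hng⟩
  -- a character on `N_H(P) ∩ H0` trivial on the kernel factors through a simple group
  obtain ⟨p, hp, hp3, hP⟩ := S.exists_p
  let K : Subgroup G := S.H0 ⊓ (S.H ⊓ Subgroup.normalizer (S.P : Set G))
  have hp1 : p ≠ 1 := fun e => by rw [e, orderOf_one] at hp3; norm_num at hp3
  let χ : ↥K →* Equiv.Perm ↥S.P :=
    { toFun := fun k => ⟨fun q => ⟨(k : G) * q * (k : G)⁻¹, (S.norm_iff.2 k.2.2).2 q q.2⟩,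
        fun q => ⟨(k : G)⁻¹ * q * k, by
          have := ((S.norm_iff.2 k.2.2).inv S).2 q q.2
          simpa using this⟩,
        fun q => Subtype.ext (show (k : G)⁻¹ * ((k : G) * q * (k : G)⁻¹) * k = q by group),
        fun q => Subtype.ext (show (k : G) * ((k : G)⁻¹ * q * k) * (k : G)⁻¹ = q by group)⟩
      map_one' := Equiv.ext fun q => Subtype.ext (show (1 : G) * q * (1 : G)⁻¹ = q by group)
      map_mul' := fun a b => Equiv.ext fun q => Subtype.ext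
        (show ((a : G) * b) * q * ((a : G) * b)⁻¹ = (a : G) * ((b : G) * q * (b : G)⁻¹) * (a : G)⁻¹ by group) }
  let fK : ↥K →* Grp := MonoidHom.mk' (fun k => S.f k) fun a b => S.f_mul a.2.1 b.2.1
  have hfK : Function.Surjective fK := fun g => by
    obtain ⟨m, hm, hm0, hmg⟩ := hsurj g
    exact ⟨⟨m, hm0, S.norm_iff.1 hm⟩, hmg⟩
  have hle : fK.ker ≤ χ.ker := by
    intro k hk
    have hkE : (k : G) ∈ S.E ⊔ S.P := (S.f_eq_one_iff k.2.1).1 hk
    obtain ⟨q, hq, e, he, hke⟩ := S.mem_EP.1 hkE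
    have heN : S.Norm e := by
      have := ((S.norm_of_mem_C (S.P_le_C (inv_mem hq)))).mul S (S.norm_iff.2 k.2.2)
      rwa [hke, inv_mul_cancel_left] at this
    refine Equiv.ext fun r => Subtype.ext ?_
    show (k : G) * r * (k : G)⁻¹ = r
    have h1 : e * r * e⁻¹ * (r : G)⁻¹ ∈ S.P := mul_mem (heN.2 r r.2) (inv_mem r.2)
    have h2 : e * r * e⁻¹ * (r : G)⁻¹ ∈ S.E := by
      rw [show e * r * e⁻¹ * (r : G)⁻¹ = e * ((r : G) * e⁻¹ * (r : G)⁻¹) by group]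
      exact mul_mem he (S.hE.conj_mem (S.P_commute_z r.2) (inv_mem he))
    have h3 := mul_inv_eq_one.1 (S.P_inf_E h1 h2)
    rw [hke, show q * e * r * (q * e)⁻¹ = q * (e * r * e⁻¹) * q⁻¹ by group, h3, (S.P_comm hq r.2).eq,
      mul_inv_cancel_right]
  let χ' : Grp →* Equiv.Perm ↥S.P := fK.liftOfSurjective hfK ⟨χ, hle⟩
  have hχ' : ∀ k, χ' (fK k) = χ k := fK.liftOfRightInverse_comp_apply _ (Function.rightInverse_surjInv hfK) ⟨χ, hle⟩
  haveI := CfsgLib.Sporadic.sporM22_isSimple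
  have htriv : ∀ g, χ' g = 1 := by
    rcases (inferInstance : χ'.ker.Normal).eq_bot_or_eq_top with h | h
    · exfalso
      have h1 := Nat.card_le_card_of_injective χ' ((χ'.ker_eq_bot_iff).1 h)
      haveI : Fintype ↥S.P := Fintype.ofFinite _
      rw [CfsgLib.Sporadic.card_sporM22, Nat.card_eq_fintype_card, Fintype.card_perm,
        ← Nat.card_eq_fintype_card, S.hPc] at h1
      norm_num [Nat.factorial] at h1
    · intro g
      exact MonoidHom.mem_ker.1 (h ▸ Subgroup.mem_top g)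
  rw [S.mem_C]
  refine ⟨hn.1, fun q hq => ?_⟩
  have := congrArg (fun e : Equiv.Perm ↥S.P => ((e ⟨q, hq⟩ : ↥S.P) : G))
    ((hχ' ⟨n, hn0, S.norm_iff.1 hn⟩).symm.trans (htriv _))
  exact mul_inv_eq_iff_eq_mul.1 this

theorem C_le_H0 : S.C ≤ S.H0 := by
  by_contra hcon
  obtain ⟨c, hc, hc0⟩ := SetLike.not_le_iff_exists.1 hcon
  refine S.hne (le_antisymm (fun n hn => ?_) fun x hx => S.norm_iff.1 (S.norm_of_mem_C hx))
  have hnn := S.norm_iff.2 hn
  -- move `n` into the inner part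
  have key : ∀ m, S.Norm m → m ∈ S.H0 → m ∈ S.C := by
    intro m hm hm0
    obtain ⟨c', hc', hfc⟩ := S.exists_C (S.f m)
    by_cases hc'0 : c' ∈ S.H0
    · have hk : c'⁻¹ * m ∈ S.E ⊔ S.P := (S.f_eq_one_iff (mul_mem (inv_mem hc'0) hm0)).1 (by
        rw [S.f_mul (inv_mem hc'0) hm0, S.f_inv hc'0, hfc, inv_mul_cancel])
      obtain ⟨q, hq, e, he, hke⟩ := S.mem_EP.1 hk
      have heN : S.Norm e := by
        have := (S.norm_of_mem_C (S.P_le_C (inv_mem hq))).mul S (((S.norm_of_mem_C hc').inv S).mul S hm)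
        rwa [hke, inv_mul_cancel_left] at this
      have heC : e ∈ S.C := by
        rw [S.mem_C]
        refine ⟨S.hE.commute_z he, fun r hr => ?_⟩
        have h1 : e * r * e⁻¹ * r⁻¹ ∈ S.E := by
          rw [show e * r * e⁻¹ * r⁻¹ = e * (r * e⁻¹ * r⁻¹) by group]
          exact mul_mem he (S.hE.conj_mem (S.P_commute_z hr) (inv_mem he))
        exact mul_inv_eq_iff_eq_mul.1
          (mul_inv_eq_one.1 (S.P_inf_E (mul_mem (heN.2 r hr) (inv_mem hr)) h1))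
      rw [show m = c' * (q * e) by rw [← hke]; group]
      exact mul_mem hc' (mul_mem (S.P_le_C hq) heC)
    · have h1 : S.f c' = 1 := dif_neg hc'0
      rw [h1] at hfc
      obtain ⟨q, hq, e, he, rfl⟩ := S.mem_EP.1 ((S.f_eq_one_iff hm0).1 hfc.symm)
      have heN : S.Norm e := by
        have := (S.norm_of_mem_C (S.P_le_C (inv_mem hq))).mul S hm
        rwa [inv_mul_cancel_left] at this
      have heC : e ∈ S.C := by
        rw [S.mem_C]
        refine ⟨S.hE.commute_z he, fun r hr => ?_⟩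
        have h1 : e * r * e⁻¹ * r⁻¹ ∈ S.E := by
          rw [show e * r * e⁻¹ * r⁻¹ = e * (r * e⁻¹ * r⁻¹) by group]
          exact mul_mem he (S.hE.conj_mem (S.P_commute_z hr) (inv_mem he))
        exact mul_inv_eq_iff_eq_mul.1
          (mul_inv_eq_one.1 (S.P_inf_E (mul_mem (heN.2 r hr) (inv_mem hr)) h1))
      exact mul_mem (S.P_le_C hq) heC
  by_cases hn0 : n ∈ S.H0
  · exact key n hnn hn0
  · have := key (n * c) (hnn.mul S (S.norm_of_mem_C hc)) (S.hidx n c hnn.1 (S.mem_C.1 hc).1 hn0 hc0)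
    have := mul_mem this (inv_mem hc)
    rwa [mul_inv_cancel_right] at this

theorem norm_inner_mem_C {n : G} (hn : S.Norm n) (hn0 : n ∈ S.H0) : n ∈ S.C := by
  obtain ⟨c, hc, hfc⟩ := S.exists_C (S.f n)
  have hc0 := S.C_le_H0 hc
  have hk : c⁻¹ * n ∈ S.E ⊔ S.P := (S.f_eq_one_iff (mul_mem (inv_mem hc0) hn0)).1 (by
    rw [S.f_mul (inv_mem hc0) hn0, S.f_inv hc0, hfc, inv_mul_cancel])
  obtain ⟨q, hq, e, he, hke⟩ := S.mem_EP.1 hk
  have heN : S.Norm e := by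
    have := (S.norm_of_mem_C (S.P_le_C (inv_mem hq))).mul S (((S.norm_of_mem_C hc).inv S).mul S hn)
    rwa [hke, inv_mul_cancel_left] at this
  have heC : e ∈ S.C := by
    rw [S.mem_C]
    refine ⟨S.hE.commute_z he, fun r hr => ?_⟩
    have h1 : e * r * e⁻¹ * r⁻¹ ∈ S.E := by
      rw [show e * r * e⁻¹ * r⁻¹ = e * (r * e⁻¹ * r⁻¹) by group]
      exact mul_mem he (S.hE.conj_mem (S.P_commute_z hr) (inv_mem he))
    exact mul_inv_eq_iff_eq_mul.1 (mul_inv_eq_one.1 (S.P_inf_E (mul_mem (heN.2 r hr) (inv_mem hr)) h1))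
  rw [show n = c * (q * e) by rw [← hke]; group]
  exact mul_mem hc (mul_mem (S.P_le_C hq) heC)

theorem outer_inverts {n : G} (hn : S.Norm n) (hn0 : n ∉ S.H0) {q : G} (hq : q ∈ S.P) :
    n * q * n⁻¹ = q⁻¹ := by
  obtain ⟨p, hp, hp3, hP⟩ := S.exists_p
  have hp' : n * p * n⁻¹ = p⁻¹ := by
    rcases hP _ (hn.2 p hp) with e | e | e
    · rw [conj_eq_one_iff] at e
      rw [e, orderOf_one] at hp3; norm_num at hp3
    · exfalso
      refine hn0 (S.C_le_H0 (S.mem_C.2 ⟨hn.1, fun r hr => ?_⟩))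
      have hc : Commute n p := mul_inv_eq_iff_eq_mul.1 e
      rcases hP r hr with rfl | rfl | rfl
      exacts [Commute.one_right n, hc, hc.inv_right]
    · exact e
  rcases hP q hq with rfl | rfl | rfl
  · simp
  · exact hp'
  · rw [show n * p⁻¹ * n⁻¹ = (n * p * n⁻¹)⁻¹ by group, hp']

theorem exists_outer : ∃ n, S.Norm n ∧ n ∉ S.H0 := by
  by_contra h
  simp only [not_exists, not_and, not_not] at h
  refine S.hne (le_antisymm (fun n hn => S.norm_inner_mem_C (S.norm_iff.2 hn) (h n (S.norm_iff.2 hn)))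
    fun x hx => S.norm_iff.1 (S.norm_of_mem_C hx))

/-- Kernel of the map on `C`. -/
theorem C_ker {x : G} (hx : x ∈ S.C) (h1 : S.f x = 1) :
    ∃ q ∈ S.P, ∃ c ∈ Subgroup.zpowers S.z, x = q * c :=
  S.C_inf_EP hx ((S.f_eq_one_iff (S.C_le_H0 hx)).1 h1)

theorem ker_central {x : G} (hx : x ∈ S.C) (h1 : S.f x = 1) {y : G} (hy : y ∈ S.C) : Commute x y := by
  obtain ⟨q, hq, c, hc, rfl⟩ := S.C_ker hx h1
  refine ((S.mem_C.1 hy).2 q hq).symm.mul_left ?_
  rcases S.hE.eq_or hc with rfl | rfl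
  exacts [Commute.one_left y, (S.mem_C.1 hy).1.symm]

theorem ker_pow_six {x : G} (hx : x ∈ S.C) (h1 : S.f x = 1) : x ^ 6 = 1 := by
  obtain ⟨q, hq, c, hc, rfl⟩ := S.C_ker hx h1
  have hc2 : c ^ 2 = 1 := by
    rcases S.hE.eq_or hc with rfl | rfl
    · simp
    · rw [pow_two]; exact S.hE.mul_self_z
  have hqc : Commute q c := by
    rcases S.hE.eq_or hc with rfl | rfl
    exacts [Commute.one_right q, S.P_commute_z hq]
  rw [hqc.mul_pow, show q ^ 6 = (q ^ 3) ^ 2 from by rw [← pow_mul], S.P_pow_three hq,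
    show c ^ 6 = (c ^ 2) ^ 3 from by rw [← pow_mul], hc2]
  simp

theorem ker_two {x : G} (hx : x ∈ S.C) (h1 : S.f x = 1) {n : ℕ} (h2 : x ^ 2 ^ n = 1) :
    x = 1 ∨ x = S.z := by
  obtain ⟨q, hq, c, hc, e⟩ := S.C_ker hx h1
  have hxE := S.two_mem_E ((S.f_eq_one_iff (S.C_le_H0 hx)).1 h1) h2
  have : x ∈ Subgroup.zpowers S.z := by rw [← S.hCP]; exact ⟨hxE, hx.2⟩
  exact S.hE.eq_or this

theorem ker_three {x : G} (hx : x ∈ S.C) (h1 : S.f x = 1) {n : ℕ} (h3 : x ^ 3 ^ n = 1) : x ∈ S.P := by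
  obtain ⟨q, hq, c, hc, rfl⟩ := S.C_ker hx h1
  rcases S.hE.eq_or hc with rfl | rfl
  · rwa [mul_one]
  · exfalso
    rw [(S.P_commute_z hq).mul_pow] at h3
    have hodd : S.z ^ 3 ^ n = S.z := by
      obtain ⟨k, hk⟩ : Odd (3 ^ n) := Odd.pow (by decide)
      rw [hk, pow_succ, pow_mul, pow_two, S.hE.mul_self_z, one_pow, one_mul]
    rw [hodd] at h3
    have hz : S.z ∈ S.P := by
      rw [eq_inv_of_mul_eq_one_right h3]
      exact inv_mem (pow_mem hq _)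
    exact S.hE.z_ne_one (S.P_inf_E hz S.hE.z_mem)

end Setting

end CfsgLib.JankoFour
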