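import Cfsg.Agent.Lib.JankoFour.PairLocal

/-!
# A central involution `u` common to `C(a) ∩ C(z)` and its conjugates (owner: helper14)
-/

set_option autoImplicit false

namespace CfsgLib.JankoFour

open Cfsg CfsgLib.ThreeTrans
open CfsgLib.JankoFour.M22 (Grp)

variable {G : Type*} [Group G] [Finite G]

namespace Frame

variable {S : Setting G} (F : Frame S)
include F

omit [Finite G] F in
theorem pow_four_conj {x h : G} :
    (x * h) ^ 4 = x * (h * x * h⁻¹) * (h * h * x * (h * h)⁻¹) * (h * h * h * x * (h * h * h)⁻¹) * h ^ 4 := by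
  simp only [pow_succ, pow_zero, one_mul]; group

/-- The first statement about the conjugate of the kernel. -/
theorem conj_t0 {c : G} (hc : F.Pr c) :
    ∃ x ∈ F.W 0, ∃ q, F.IsQ q ∧ S.f q = S.f F.t0 ∧ c * F.t0 * c⁻¹ = x * q ∧
      Commute x (c * S.z * c⁻¹) ∧ Commute x (pc F.p (c * S.z * c⁻¹)) := by
  haveI : Fact (Nat.Prime 2) := ⟨Nat.prime_two⟩
  set e := c * S.z * c⁻¹ with he
  set s0 := c * F.t0 * c⁻¹ with hs0
  obtain ⟨-, heW, hne⟩ := id hc
  obtain ⟨hpL, -⟩ := F.pc_mem_line hc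
  have hz'W : c⁻¹ * S.z * c ∈ F.W 0 := by have := hc.symm.2.1; rwa [inv_inv] at this
  have hsz : Commute s0 S.z := Pr.back (F := F) (F.t0_W hz'W)
  have hsa : Commute s0 F.a := F.conj_a hc.1 F.t0_q.2.1
  have hse : Commute s0 e := (LargeData.commute_conj_iff' (g := c)).2 (F.q_z F.t0_q)
  have hsp : Commute s0 (pc F.p e) := by
    obtain ⟨h1, h2⟩ := (Line.mem (F := F)).1 hpL
    have h3 : c⁻¹ * pc F.p e * c ∈ F.W 0 := F.mem_W0.2 ⟨h2, by
      have := F.conj_a hc.1.inv_left (F.mem_W0.1 h1).2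
      rwa [inv_inv] at this⟩
    have := (LargeData.commute_conj_iff' (g := c)).2 (F.t0_W h3)
    rwa [show c * (c⁻¹ * pc F.p e * c) * c⁻¹ = pc F.p e by simp only [pc]; group] at this
  have hs4 : s0 ^ 4 = 1 := by rw [hs0, conj_pow, F.t0_q.2.2]; simp
  have he1 : e ≠ 1 := fun r => S.hE.z_ne_one (conj_eq_one_iff.1 r)
  have hP := F.plane 0
  have heE := (F.mem_W0.1 heW).1
  -- `s0` is inner
  have hs0in : s0 ∈ S.H0 := by
    by_contra hout
    obtain ⟨w, hw, m, hm, -, hwm⟩ := F.cent_a_decomp hsz hsa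
    have hwE := (F.mem_W0.1 hw).1
    have hm0 : m ∉ S.H0 := fun h' => hout (hwm ▸ mul_mem (S.hEH0 hwE) h')
    have hinv : m * F.p * m⁻¹ = F.p⁻¹ := S.outer_inverts hm hm0 F.hpP
    have hwinv : ∀ v ∈ S.E, w⁻¹ * v * w = v ∨ w⁻¹ * v * w = S.z * v := fun v hv => by
      have := S.hE.conj_eq_or (inv_mem hwE) hv
      rwa [inv_inv] at this
    have hme : ∀ v ∈ S.E, Commute s0 v → m * v * m⁻¹ = v ∨ m * v * m⁻¹ = S.z * v := fun v hv hcv => by
      have e2 : m * v * m⁻¹ = w⁻¹ * v * w := by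
        rw [show m * v * m⁻¹ = w⁻¹ * (w * m * v * (w * m)⁻¹) * w by group, ← hwm, hcv.eq, mul_inv_cancel_right]
      rw [e2]; exact hwinv v hv
    have hm1 := hme e heE hse
    have hm2 := hme _ (S.hE.conj_mem (S.P_commute_z F.hpP) heE) hsp
    have e3 : m * pc F.p e * m⁻¹ = F.p⁻¹ * (m * e * m⁻¹) * F.p := by
      show m * (F.p * e * F.p⁻¹) * m⁻¹ = _
      rw [show m * (F.p * e * F.p⁻¹) * m⁻¹ = (m * F.p * m⁻¹) * (m * e * m⁻¹) * (m * F.p * m⁻¹)⁻¹ by group, hinv]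
      group
    have hpz : F.p⁻¹ * S.z * F.p = S.z := by rw [mul_assoc, ← (S.P_commute_z F.hpP).eq, inv_mul_cancel_left]
    have hp3 : F.p⁻¹ = F.p * F.p := inv_eq_of_mul_eq_one_left (by
      have := F.p_pow; rwa [pow_succ, pow_two] at this)
    have hpp : F.p⁻¹ * e * F.p = pc F.p (pc F.p e) := by
      show F.p⁻¹ * e * F.p = F.p * (F.p * e * F.p⁻¹) * F.p⁻¹
      conv_lhs => rw [show F.p⁻¹ * e * F.p = F.p⁻¹ * e * (F.p⁻¹)⁻¹ by rw [inv_inv], hp3]
      group
    obtain ⟨k, hk, ek⟩ : ∃ k, (k = 1 ∨ k = S.z) ∧ pc F.p e = k * pc F.p (pc F.p e) := by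
      rcases hm1 with r | r <;> rcases hm2 with r' | r' <;> rw [e3, r] at r'
      · exact ⟨1, Or.inl rfl, by rw [one_mul, ← hpp, r']⟩
      · exact ⟨S.z, Or.inr rfl, by rw [← hpp, r', ← mul_assoc, S.hE.mul_self_z, one_mul]⟩
      · refine ⟨S.z, Or.inr rfl, r'.symm.trans ?_⟩
        rw [← hpp, show F.p⁻¹ * (S.z * e) * F.p = (F.p⁻¹ * S.z * F.p) * (F.p⁻¹ * e * F.p) by group, hpz]
      · refine ⟨1, Or.inl rfl, ?_⟩
        rw [one_mul, ← hpp]
        rw [show F.p⁻¹ * (S.z * e) * F.p = (F.p⁻¹ * S.z * F.p) * (F.p⁻¹ * e * F.p) by group, hpz] at r'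
        exact (mul_left_cancel r').symm
    have hpW := hP.hpW e heW
    have n1 : pc F.p e ≠ 1 := fun r => he1 (conj_eq_one_iff.1 r)
    have n2 : pc F.p e ≠ S.z := fun r => hne (by
      rw [← he]; rw [← hP.pc_three e, r, hP.pc_z, hP.pc_z])
    obtain ⟨q1, q2⟩ := hP.pc_ne hpW n1 n2
    rcases hk with rfl | rfl
    · exact q1 ((one_mul _).symm.trans ek.symm)
    · refine q2 ?_
      show pc F.p (pc F.p e) = S.z * pc F.p e
      have e4 : S.z * pc F.p e = S.z * (S.z * pc F.p (pc F.p e)) := congrArg (S.z * ·) ek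
      rw [← mul_assoc S.z S.z, S.hE.mul_self_z, one_mul] at e4
      exact e4.symm
  obtain ⟨x, hx, q, hq, y, hy, hxqy, hf⟩ := F.image_q hs0in hsa hs4
  -- the `P` part is trivial
  have hy1 : y = 1 := by
    have hqy : Commute q y := (S.mem_C.1 hq.1).2 y hy
    have hxE := (F.mem_W0.1 hx).1
    have hqyz : Commute (q * y) S.z := (F.q_z hq).mul_left (S.P_commute_z hy)
    have e1 := pow_four_conj (x := x) (h := q * y)
    rw [← mul_assoc x, ← hxqy, hs4, hqy.mul_pow, hq.2.2, one_mul] at e1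
    have hm : y ^ 4 ∈ S.E := by
      have hX : x * (q * y * x * (q * y)⁻¹) * (q * y * (q * y) * x * (q * y * (q * y))⁻¹) *
          (q * y * (q * y) * (q * y) * x * (q * y * (q * y) * (q * y))⁻¹) ∈ S.E :=
        mul_mem (mul_mem (mul_mem hxE (S.hE.conj_mem hqyz hxE)) (S.hE.conj_mem (hqyz.mul_left hqyz) hxE))
          (S.hE.conj_mem ((hqyz.mul_left hqyz).mul_left hqyz) hxE)
      rw [eq_inv_of_mul_eq_one_right e1.symm]
      exact inv_mem hX
    have h3 := S.P_pow_three hy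
    have : y ^ 4 = y := by rw [pow_succ, h3, one_mul]
    exact S.P_inf_E hy (this ▸ hm)
  rw [hy1, mul_one] at hxqy
  have hxE := (F.mem_W0.1 hx).1
  have hq' : ∀ v ∈ F.W 0, Commute s0 v → Commute q v := fun v hv hcv => by
    refine hP.op_fix_exact (F.q_op hq 0) hv ?_
    have e2 : q * v * q⁻¹ = x⁻¹ * v * x := by
      rw [show q * v * q⁻¹ = x⁻¹ * (x * q * v * (x * q)⁻¹) * x by group, ← hxqy, hcv.eq, mul_inv_cancel_right]
    rw [e2]
    have := S.hE.conj_eq_or (inv_mem hxE) (F.mem_W0.1 hv).1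
    rwa [inv_inv] at this
  have hqe := hq' e heW hse
  have hqp := hq' _ (hP.hpW e heW) hsp
  have hxc : ∀ v, Commute s0 v → Commute q v → Commute x v := fun v h1 h2 => by
    rw [show x = s0 * q⁻¹ by rw [hxqy, mul_inv_cancel_right]]
    exact h1.mul_left h2.inv_left
  refine ⟨x, hx, q, hq, ?_, hxqy, hxc e hse hqe, hxc _ hsp hqp⟩
  -- the kernel part
  have hkill : F.Kills q 0 := by
    rw [kills_iff_not_moving]
    intro hm
    have heq := hP.op_same (F.q_op F.t1_q 0) (F.q_op hq 0) F.t1_moves hm (F.q_op (F.q_mul F.t1_q hq) 0) heW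
    refine F.moved hc (mul_inv_eq_iff_eq_mul.1 ?_)
    rw [← he, heq, hqe.eq, mul_inv_cancel_right]
  refine (F.t0_unique hq hkill).resolve_left fun h1 => ?_
  have hqz : q = 1 ∨ q = S.z := S.ker_two hq.1 h1 (n := 2) hq.2.2
  have hsW : s0 ∈ F.W 0 := by
    rw [hxqy]
    rcases hqz with r | r <;> rw [r]
    · rwa [mul_one]
    · exact mul_mem hx (F.z_mem 0)
  have hin : c⁻¹ * s0 * c⁻¹⁻¹ ∈ S.H0 := by
    rw [hs0, show c⁻¹ * (c * F.t0 * c⁻¹) * c⁻¹⁻¹ = F.t0 by group]; exact S.C_le_H0 F.t0_q.1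
  have hE' := F.inner_W hc.symm hsW (by rw [inv_inv]; exact hse) hin
  rw [hs0, show c⁻¹ * (c * F.t0 * c⁻¹) * c⁻¹⁻¹ = F.t0 by group] at hE'
  exact F.t0_ne ((S.f_eq_one_iff (S.C_le_H0 F.t0_q.1)).2 (Subgroup.mem_sup_left hE'))

omit F in
theorem z_pair {c : G} (hne : c * S.z * c⁻¹ ≠ S.z) : c⁻¹ * S.z * c ∉ Subgroup.zpowers S.z := by
  intro h
  rcases S.hE.eq_or h with r | r
  · exact S.hE.z_ne_one (by rw [show S.z = c * (c⁻¹ * S.z * c) * c⁻¹ by group, r]; group)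
  · refine hne ?_
    conv_lhs => rw [← r]
    group

/-- Elements `x` commuting with `e` and its conjugate lie in the line. -/
theorem mem_line {c x : G} (hc : F.Pr c) (hx : x ∈ F.W 0) (h1 : Commute x (c * S.z * c⁻¹))
    (h2 : Commute x (pc F.p (c * S.z * c⁻¹))) : x ∈ F.Line c := by
  obtain ⟨hzL, heL⟩ := F.z_mem_line hc
  obtain ⟨p1, p2⟩ := F.pc_mem_line hc
  rcases (F.plane 0).line_centralizer (F.q_op F.t1_q 0) F.t1_moves hc.2.1 (conj_sq S.hE.mul_self_z) (F.moved hc)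
      hx h1 h2 with (r | r) | r
  · rw [r]; exact one_mem _
  · rw [r]; exact hzL
  · exact near_mem (F.Line c) hzL heL p1 p2 r

theorem t0_sq {c : G} (hc : F.Pr c) : F.t0 * F.t0 = 1 := by
  obtain ⟨x, hx, q, hq, hfq, e, h1, h2⟩ := F.conj_t0 hc
  have hxx := (F.line_elementary hc (F.mem_line hc hx h1 h2) (F.mem_line hc hx h1 h2)).2
  have hqq : q * q = F.t0 * F.t0 := by
    rcases F.q_eq F.t0_q hq hfq.symm with r | r <;> rw [r]
    rw [show F.t0 * S.z * (F.t0 * S.z) = F.t0 * (S.z * F.t0) * S.z by group, ← (F.q_z F.t0_q).eq,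
      show F.t0 * (F.t0 * S.z) * S.z = F.t0 * F.t0 * (S.z * S.z) by group, S.hE.mul_self_z, mul_one]
  have hqx : Commute q x := by
    rcases F.q_eq F.t0_q hq hfq.symm with r | r <;> rw [r]
    exacts [F.t0_W hx, (F.t0_W hx).mul_left (S.hE.commute_z (F.mem_W0.1 hx).1).symm]
  rcases F.q_sq F.t0_q with r | r
  · exact r
  · exfalso
    refine hc.2.2 ?_
    have e2 : c * (F.t0 * F.t0) * c⁻¹ = x * x * (q * q) := by
      rw [show c * (F.t0 * F.t0) * c⁻¹ = (c * F.t0 * c⁻¹) * (c * F.t0 * c⁻¹) by group, e,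
        show x * q * (x * q) = x * (q * x) * q by group, hqx.eq]
      group
    rw [r, hxx, one_mul, hqq, r] at e2
    exact e2

/-- Elements with image that of `t0`. -/
def T0 (u : G) : Prop := u = F.t0 ∨ u = F.t0 * S.z

theorem T0_cases {q : G} (hq : F.IsQ q) (hf : S.f q = S.f F.t0) : F.T0 q := F.q_eq F.t0_q hq hf.symm

/-- **The key statement**: some `u` of the class of `t0` is sent to the same class. -/
theorem exists_central {c : G} (hc : F.Pr c) : ∃ u, F.T0 u ∧ F.T0 (c⁻¹ * u * c) := by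
  obtain ⟨x, hx, q, hq, hfq, e, h1, h2⟩ := F.conj_t0 hc
  obtain ⟨x0, hx0, hx0z, hx0o⟩ := F.exists_outer_W hc
  set y := c * x0 * c⁻¹ with hy
  have hyz : Commute y S.z := Pr.back (F := F) hx0z
  have hya : Commute y F.a := F.conj_a hc.1 (F.mem_W0.1 hx0).2
  have hys : Commute y (c * F.t0 * c⁻¹) := (LargeData.commute_conj_iff' (g := c)).2 (F.t0_W hx0).symm
  have hxL := F.mem_line hc hx h1 h2
  set x' := c⁻¹ * x * c with hx'
  have hx'W : x' ∈ F.W 0 := F.mem_W0.2 ⟨hxL.2, by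
    have := F.conj_a hc.1.inv_left (F.mem_W0.1 hx).2
    rwa [inv_inv] at this⟩
  obtain ⟨w, hw, m, hm, hma, hwm⟩ := F.cent_a_decomp hyz hya
  have hm0 : m ∉ S.H0 := fun h => hx0o (hwm ▸ mul_mem (S.hEH0 (F.mem_W0.1 hw).1) h)
  have hmq : F.T0 (m * q * m⁻¹) := by
    refine F.T0_cases ⟨S.conj_C hm hq.1, ?_, by rw [conj_pow, hq.2.2]; simp⟩ ?_
    · exact (hma.mul_left hq.2.1).mul_left hma.inv_left
    · rcases F.q_eq F.t0_q hq hfq.symm with r | r <;> rw [r]
      · exact (F.outer_action hm hm0 hma).1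
      · rw [show m * (F.t0 * S.z) * m⁻¹ = (m * F.t0 * m⁻¹) * (m * S.z * m⁻¹) by group, hm.1.eq, mul_inv_cancel_right,
          S.f_mul (S.C_le_H0 (S.conj_C hm F.t0_q.1)) S.z_mem_H0,
          (S.f_eq_one_iff S.z_mem_H0).2 (Subgroup.mem_sup_left S.hE.z_mem), mul_one]
        exact (F.outer_action hm hm0 hma).1
  have hTW : ∀ {u}, F.T0 u → ∀ {v}, v ∈ F.W 0 → Commute u v := fun {u} hu {v} hv => by
    rcases hu with r | r <;> rw [r]
    exacts [F.t0_W hv, (F.t0_W hv).mul_left (S.hE.commute_z (F.mem_W0.1 hv).1).symm]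
  -- `y` commutes with both factors
  have hyq : y * q * y⁻¹ = m * q * m⁻¹ := by
    rw [hwm, show w * m * q * (w * m)⁻¹ = w * (m * q * m⁻¹) * w⁻¹ by group, ← (hTW hmq hw).eq, mul_inv_cancel_right]
  have hyx : Commute y x := by
    rcases (F.plane 0).hcomm x0 hx0 x' hx'W with r | r
    · have := (LargeData.commute_conj_iff' (g := c)).2 (show Commute x0 x' from mul_inv_eq_iff_eq_mul.1 r)
      rwa [hx', show c * (c⁻¹ * x * c) * c⁻¹ = x by group] at this
    · exfalso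
      have e1 : y * x * y⁻¹ = c * S.z * c⁻¹ * x := by
        rw [hy, show c * x0 * c⁻¹ * x * (c * x0 * c⁻¹)⁻¹ = c * (x0 * (c⁻¹ * x * c) * x0⁻¹) * c⁻¹ by group, ← hx', r, hx']
        group
      have e2 : x * q = c * S.z * c⁻¹ * x * (m * q * m⁻¹) := by
        rw [← e1, ← hyq, ← e, show y * x * y⁻¹ * (y * q * y⁻¹) = y * (x * q) * y⁻¹ by group, ← e, hys.eq,
          mul_inv_cancel_right]
      rw [← h1.eq, mul_assoc] at e2
      have e3 := mul_left_cancel e2
      rcases F.q_eq F.t0_q hq hfq.symm with s | s <;> rcases hmq with s' | s' <;> rw [s'] at e3 <;> rw [s] at e3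
      · exact S.hE.z_ne_one (conj_eq_one_iff.1 (mul_eq_right.1 e3.symm))
      · rw [← (F.q_z F.t0_q).symm.eq, ← mul_assoc, eq_comm, mul_eq_right] at e3
        exact hc.2.2 ((eq_inv_of_mul_eq_one_left e3).trans S.hE.inv_z)
      · rw [(F.q_z F.t0_q).eq, mul_left_inj] at e3
        exact hc.2.2 e3.symm
      · exact S.hE.z_ne_one (conj_eq_one_iff.1 (mul_eq_right.1 e3.symm))
  -- so `x` is in the four group
  have hz'W : c⁻¹ * S.z * c ∈ F.W 0 := by have := hc.symm.2.1; rwa [inv_inv] at this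
  have hzL' : c⁻¹ * S.z * c⁻¹⁻¹ = c⁻¹ * S.z * c := by rw [inv_inv]
  have hx'e : Commute x' (c⁻¹ * S.z * c) := by
    have := (LargeData.commute_conj_iff' (g := c⁻¹)).2 (S.hE.commute_z (F.mem_W0.1 hx).1)
    rwa [inv_inv] at this
  have hy0' : Commute x0 x' := by
    have := (LargeData.commute_conj_iff' (g := c⁻¹)).2 hyx
    rwa [inv_inv, hy, show c⁻¹ * (c * x0 * c⁻¹) * c = x0 by group] at this
  have hx'L : x' ∈ F.Line c⁻¹ := ⟨hx'W, by
    rw [inv_inv, hx', show c * (c⁻¹ * x * c) * c⁻¹ = x by group]; exact (F.mem_W0.1 hx).1⟩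
  have hcase : x = 1 ∨ x = S.z ∨ x = c * S.z * c⁻¹ ∨ x = c * S.z * c⁻¹ * S.z := by
    by_contra hcon
    simp only [not_or] at hcon
    obtain ⟨hx1, hxz, hxe, hxez⟩ := hcon
    obtain ⟨hzL, heL⟩ := F.z_mem_line hc.symm
    obtain ⟨p1, p2⟩ := F.pc_mem_line hc.symm
    rw [hzL'] at heL p1 p2
    set e' := c⁻¹ * S.z * c with he'
    have hP := F.plane 0
    have hxe' : Commute x' (pc F.p e') := (F.line_elementary hc.symm hx'L p1).1
    -- `x0` commutes with the line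
    have hx0p : Commute x0 (pc F.p e') := by
      rcases hP.line_centralizer (F.q_op F.t1_q 0) F.t1_moves hz'W
          (by rw [← hzL']; exact conj_sq S.hE.mul_self_z) (by rw [← hzL']; exact F.moved hc.symm) hx'W hx'e hxe' with
        (r | r) | r
      · exact absurd (by rw [show x = c * x' * c⁻¹ by rw [hx']; group, r]; group : x = 1) hx1
      · exact absurd (show x = c * S.z * c⁻¹ by rw [show x = c * x' * c⁻¹ by rw [hx']; group, r]) hxe
      rcases r with r | r | r | r | r | r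
      · exact absurd (show x = S.z by rw [show x = c * x' * c⁻¹ by rw [hx']; group, r, he']; group) hxz
      · exact absurd (show x = c * S.z * c⁻¹ * S.z by
          rw [show x = c * x' * c⁻¹ by rw [hx']; group, r, he']; group) hxez
      · exact r ▸ hy0'
      · have := (hP.hzc x0 hx0).inv_right.mul_right (r ▸ hy0' : Commute x0 (S.z * pc F.p e'))
        rwa [inv_mul_cancel_left] at this
      all_goals
        have hpp : Commute x0 (pc F.p (pc F.p e')) := by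
          first
          | exact r ▸ hy0'
          | (have := (hP.hzc x0 hx0).inv_right.mul_right (r ▸ hy0' : Commute x0 (S.z * pc F.p (pc F.p e')))
             rwa [inv_mul_cancel_left] at this)
        have hprod : Commute x0 (e' * pc F.p e' * pc F.p (pc F.p e')) := by
          rcases hP.orbit_fix hz'W with s | s <;> rw [s]
          exacts [Commute.one_right _, hP.hzc x0 hx0]
        have := (hx0z.inv_right).mul_right (hprod.mul_right hpp.inv_right)
        rwa [show e'⁻¹ * (e' * pc F.p e' * pc F.p (pc F.p e') * (pc F.p (pc F.p e'))⁻¹) = pc F.p e' by simp only [pc]; group] at this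
    have hx0L : x0 ∈ F.Line c⁻¹ := F.mem_line hc.symm hx0 (by rw [hzL']; exact hx0z) (by rw [hzL']; exact hx0p)
    have := hx0L.2
    rw [inv_inv] at this
    exact hx0o (S.hEH0 this)
  have hqT := F.T0_cases hq hfq
  have hcq : c⁻¹ * (x * q) * c = F.t0 := by rw [← e]; group
  have hzq : F.T0 (q * S.z) := by
    rcases hqT with r | r <;> rw [r]
    · exact Or.inr rfl
    · exact Or.inl (by rw [mul_assoc, S.hE.mul_self_z, mul_one])
  have cqe : Commute q (c * S.z * c⁻¹) := hTW hqT hc.2.1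
  have hee := conj_sq (g := c) S.hE.mul_self_z
  have hTz : F.T0 (F.t0 * S.z) := Or.inr rfl
  have hconje : c⁻¹ * (c * S.z * c⁻¹) * c = S.z := by group
  rcases hcase with r | r | r | r <;> rw [r] at hcq
  · exact ⟨q, hqT, by rw [one_mul] at hcq; exact hcq ▸ Or.inl rfl⟩
  · exact ⟨q * S.z, hzq, by rw [(F.q_z hq).eq]; exact hcq ▸ Or.inl rfl⟩
  · refine ⟨q, hqT, ?_⟩
    have e5 : c⁻¹ * q * c = c⁻¹ * (c * S.z * c⁻¹) * c * (c⁻¹ * (c * S.z * c⁻¹ * q) * c) := by
      rw [show c⁻¹ * (c * S.z * c⁻¹) * c * (c⁻¹ * (c * S.z * c⁻¹ * q) * c) =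
        c⁻¹ * ((c * S.z * c⁻¹) * (c * S.z * c⁻¹)) * q * c by group, hee, mul_one]
    rw [e5, hcq, hconje, ← (F.q_z F.t0_q).eq]
    exact hTz
  · refine ⟨q * S.z, hzq, ?_⟩
    have e5 : c⁻¹ * (q * S.z) * c = c⁻¹ * (c * S.z * c⁻¹) * c * (c⁻¹ * (c * S.z * c⁻¹ * S.z * q) * c) := by
      rw [show c⁻¹ * (c * S.z * c⁻¹) * c * (c⁻¹ * (c * S.z * c⁻¹ * S.z * q) * c) =
        c⁻¹ * ((c * S.z * c⁻¹) * (c * S.z * c⁻¹)) * (S.z * q) * c by group, hee, mul_one, (F.q_z hq).eq]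
    rw [e5, hcq, hconje, ← (F.q_z F.t0_q).eq]
    exact hTz

/-- **The central involution.** -/
theorem exists_u {c0 : G} (hc0 : F.Pr c0) :
    ∃ u, F.T0 u ∧ u * u = 1 ∧ (∀ c, F.Pr c → Commute c u) ∧
      (∀ h, Commute h S.z → Commute h F.a → Commute h u) ∧ F.t0 * F.t0 = 1 ∧ F.t1 * F.t1 = 1 ∧
      F.t1 * F.t0 = F.t0 * F.t1 := by
  have ht0 := F.t0_sq hc0
  have ht1 : F.t1 * F.t1 = 1 := by
    rw [show F.t1 = F.b * F.t0 * F.b⁻¹ from rfl, conj_mul, ht0]; simp
  have hcomm : F.t1 * F.t0 = F.t0 * F.t1 := by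
    have h01 := F.q_mul F.t0_q F.t1_q
    have hsq : F.t0 * F.t1 * (F.t0 * F.t1) = 1 := by
      have hQ := F.q_conj_b F.t1_q
      rcases F.q_eq hQ h01 (by rw [F.four.2.2.1, S.f_mul_C F.t0_q.1 F.t1_q.1]) with r | r <;> rw [r]
      · rw [conj_mul, ht1]; simp
      · rw [show F.b * F.t1 * F.b⁻¹ * S.z * (F.b * F.t1 * F.b⁻¹ * S.z) =
          F.b * F.t1 * F.b⁻¹ * (S.z * (F.b * F.t1 * F.b⁻¹)) * S.z by group, ← (F.q_z hQ).eq,
          show F.b * F.t1 * F.b⁻¹ * (F.b * F.t1 * F.b⁻¹ * S.z) * S.z =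
          F.b * (F.t1 * F.t1) * F.b⁻¹ * (S.z * S.z) by group, ht1, S.hE.mul_self_z]
        simp
    have := eq_inv_of_mul_eq_one_left hsq
    rw [mul_inv_rev, inv_eq_of_mul_eq_one_left ht0, inv_eq_of_mul_eq_one_left ht1] at this
    exact this.symm
  have hTW : ∀ {u}, F.T0 u → ∀ {v}, v ∈ F.W 0 → Commute u v := fun {u} hu {v} hv => by
    rcases hu with r | r <;> rw [r]
    exacts [F.t0_W hv, (F.t0_W hv).mul_left (S.hE.commute_z (F.mem_W0.1 hv).1).symm]
  have hTz : ∀ {u}, F.T0 u → F.T0 (u * S.z) := fun {u} hu => by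
    rcases hu with r | r <;> rw [r]
    · exact Or.inr rfl
    · exact Or.inl (by rw [mul_assoc, S.hE.mul_self_z, mul_one])
  -- elements of `H` centralizing `a` preserve the class
  have hact : ∀ {h u}, Commute h S.z → Commute h F.a → F.T0 u → F.T0 (h * u * h⁻¹) := by
    intro h u hhz hha hu
    obtain ⟨w, hw, m, hm, hma, rfl⟩ := F.cent_a_decomp hhz hha
    have hmt : F.T0 (m * F.t0 * m⁻¹) := by
      by_cases hm0 : m ∈ S.H0
      · obtain ⟨x, hx, q, hq, v, hv, rfl⟩ := F.cent_a_inner hm0 hma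
        obtain ⟨i, j, rfl⟩ := F.mem_A.1 hv
        have hv' : Commute (F.a ^ i * F.p ^ j) F.t0 :=
          (F.t0_q.2.1.symm.pow_left i).mul_left ((F.commute_p F.t0_q.1).symm.pow_left j)
        refine F.T0_cases ⟨S.conj_C hm F.t0_q.1, (hma.mul_left F.t0_q.2.1).mul_left hma.inv_left,
          by rw [conj_pow, F.t0_q.2.2, mul_one, mul_inv_cancel]⟩ ?_
        have hq0 := S.C_le_H0 hq.1
        have hx0 := S.hEH0 (F.mem_W0.1 hx).1
        have ht := S.C_le_H0 F.t0_q.1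
        rw [show x * q * (F.a ^ i * F.p ^ j) * F.t0 * (x * q * (F.a ^ i * F.p ^ j))⁻¹ =
          x * q * ((F.a ^ i * F.p ^ j) * F.t0 * (F.a ^ i * F.p ^ j)⁻¹) * q⁻¹ * x⁻¹ by group,
          show (F.a ^ i * F.p ^ j) * F.t0 * (F.a ^ i * F.p ^ j)⁻¹ = F.t0 by rw [hv'.eq, mul_inv_cancel_right], show x * q * F.t0 * q⁻¹ * x⁻¹ = x * (q * F.t0 * q⁻¹) * x⁻¹ by group,
          S.f_conj hx0 (S.C_le_H0 (S.conj_C (S.norm_of_mem_C hq.1) F.t0_q.1)), S.f_conj hq0 ht,
          (S.f_eq_one_iff hx0).2 (Subgroup.mem_sup_left (F.mem_W0.1 hx).1), (F.q_fcomm hq F.t0_q).eq,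
          mul_inv_cancel_right, one_mul, inv_one, mul_one]
      · exact F.T0_cases ⟨S.conj_C hm F.t0_q.1, (hma.mul_left F.t0_q.2.1).mul_left hma.inv_left,
          by rw [conj_pow, F.t0_q.2.2, mul_one, mul_inv_cancel]⟩ (F.outer_action hm hm0 hma).1
    have hmu : F.T0 (m * u * m⁻¹) := by
      rcases hu with r | r <;> rw [r]
      · exact hmt
      · rw [show m * (F.t0 * S.z) * m⁻¹ = (m * F.t0 * m⁻¹) * (m * S.z * m⁻¹) by group, hm.1.eq, mul_inv_cancel_right]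
        exact hTz hmt
    rw [show w * m * u * (w * m)⁻¹ = w * (m * u * m⁻¹) * w⁻¹ by group, ← (hTW hmu hw).eq, mul_inv_cancel_right]
    exact hmu
  -- uniqueness
  have huniq : ∀ {c u u'}, F.Pr c → F.T0 u → F.T0 (c⁻¹ * u * c) → F.T0 u' → F.T0 (c⁻¹ * u' * c) → u' = u := by
    intro c u u' hc h1 h2 h3 h4
    have hz : ∀ {v v'}, F.T0 v → F.T0 v' → v' = v ∨ v' = v * S.z := fun {v v'} a b => by
      rcases a with r | r <;> rcases b with r' | r' <;> rw [r, r']
      · exact Or.inl rfl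
      · exact Or.inr rfl
      · exact Or.inr (by rw [mul_assoc, S.hE.mul_self_z, mul_one])
      · exact Or.inl rfl
    rcases hz h1 h3 with r | r
    · exact r
    · exfalso
      refine z_pair hc.2.2 ?_
      rw [r] at h4
      rcases hz h2 h4 with s | s <;> rw [show c⁻¹ * (u * S.z) * c = c⁻¹ * u * c * (c⁻¹ * S.z * c) by group] at s
      · rw [mul_eq_left.1 s]; exact one_mem _
      · rw [mul_left_cancel s]; exact Subgroup.mem_zpowers _
  obtain ⟨u, hu, huc⟩ := F.exists_central hc0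
  have hPrh : ∀ {c h}, F.Pr c → Commute h S.z → Commute h F.a → F.Pr (c * h) := fun {c h} hc hz ha => by
    have e : c * h * S.z * (c * h)⁻¹ = c * S.z * c⁻¹ := by
      rw [show c * h * S.z * (c * h)⁻¹ = c * (h * S.z * h⁻¹) * c⁻¹ by group, hz.eq, mul_inv_cancel_right]
    exact ⟨hc.1.mul_left ha, e ▸ hc.2.1, e ▸ hc.2.2⟩
  -- every pair gives the same element
  have hall : ∀ c, F.Pr c → F.T0 (c⁻¹ * u * c) := by
    intro c hc
    obtain ⟨k, hkz, hka, hke, hkt⟩ := F.orbit hc0 hc.2.1 (conj_sq S.hE.mul_self_z) (F.moved hc)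
    have hku : Commute k u := by
      rcases hu with r | r <;> rw [r]
      exacts [hkt hcomm, (hkt hcomm).mul_right hkz]
    set h := c0⁻¹ * k⁻¹ * c with hh
    have hhz : Commute h S.z := by
      refine mul_inv_eq_iff_eq_mul.1 ?_
      rw [hh, show c0⁻¹ * k⁻¹ * c * S.z * (c0⁻¹ * k⁻¹ * c)⁻¹ = c0⁻¹ * k⁻¹ * (c * S.z * c⁻¹) * k * c0 by group, ← hke]
      group
    have hha : Commute h F.a := (hc0.1.inv_left.mul_left hka.inv_left).mul_left hc.1
    have := hact hhz.inv_left hha.inv_left huc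
    rw [inv_inv] at this
    rwa [show h⁻¹ * (c0⁻¹ * u * c0) * h = c⁻¹ * (k * u * k⁻¹) * c by rw [hh]; group, hku.eq, mul_inv_cancel_right] at this
  have hfix : ∀ c, F.Pr c → Commute c u := by
    intro c hc
    set v := c⁻¹ * u * c with hv
    have h1 := hall c hc
    have h2 := hall c⁻¹ hc.symm
    rw [inv_inv] at h2
    have huv : F.T0 (c⁻¹⁻¹ * v * c⁻¹) := by
      rw [inv_inv, hv, show c * (c⁻¹ * u * c) * c⁻¹ = u by group]; exact hu
    have huu : F.T0 (c⁻¹⁻¹ * u * c⁻¹) := by rw [inv_inv]; exact h2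
    have e := huniq hc.symm h1 huv hu huu
    refine mul_inv_eq_iff_eq_mul.1 ?_
    rw [show c * u * c⁻¹ = u ↔ c * (c⁻¹ * u * c) * c⁻¹ = u by rw [← e]]
    group
  refine ⟨u, hu, ?_, hfix, fun h hz ha => ?_, ht0, ht1, hcomm⟩
  · rcases hu with r | r <;> rw [r]
    · exact ht0
    · rw [show F.t0 * S.z * (F.t0 * S.z) = F.t0 * (S.z * F.t0) * S.z by group, ← (F.q_z F.t0_q).eq,
        show F.t0 * (F.t0 * S.z) * S.z = F.t0 * F.t0 * (S.z * S.z) by group, ht0, S.hE.mul_self_z, one_mul]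
  · have := (hfix _ hc0).inv_left.mul_left (hfix _ (hPrh hc0 hz ha))
    rwa [inv_mul_cancel_left] at this

end Frame

end CfsgLib.JankoFour
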