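import Cfsg.Agent.Lib.JankoFour.Main
import Cfsg.Agent.Lib.Transfer.ThompsonTransfer
import Cfsg.Agent.Lib.ThreeTrans.LargeSetting

/-!
# The classes of involutions (owner: helper14)

A Sylow 2-subgroup lies in `C(z)`; by Thompson transfer every involution is conjugate to an inner one, so
to an element of `E`, to `t0` or to `t0 * z`.
-/

set_option autoImplicit false

namespace CfsgLib.JankoFour

open Cfsg CfsgLib.ThreeTrans

variable {G : Type*} [Group G] [Finite G]

namespace Setting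

variable (S : Setting G)

/-- A Sylow 2-subgroup between `E` and `C(z)`. -/
theorem exists_sylow_H : ∃ T : Sylow 2 G, S.E ≤ T ∧ (T : Subgroup G) ≤ S.H := by
  refine CfsgLib.ThreeTrans.exists_sylow_between S.orderOf_z S.hE.le_centralizer
    (IsPGroup.of_card (n := 13) S.hcard) S.hE.z_mem (le_of_eq S.hE.hcent)

/-- The inner part of such a Sylow subgroup has index two. -/
theorem relIndex_inner (T : Sylow 2 G) (hT : (T : Subgroup G) ≤ S.H) :
    (S.H0 ⊓ (T : Subgroup G)).relIndex (T : Subgroup G) = 2 := by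
  haveI : Fact (Nat.Prime 2) := ⟨Nat.prime_two⟩
  obtain ⟨o, ho, ho0⟩ := S.exists_outer
  have hoH : o ∈ S.H := S.mem_H.2 ho.1
  have hidx : (S.H0.subgroupOf S.H).index = 2 := by
    refine Subgroup.index_eq_two_iff.2 ⟨⟨o, hoH⟩, fun b => ?_⟩
    have hb : Commute (b : G) S.z := S.mem_H.1 b.2
    show Xor' ((b : G) * o ∈ S.H0) ((b : G) ∈ S.H0)
    by_cases h : (b : G) ∈ S.H0
    · exact Or.inr ⟨h, fun h' => ho0 ((S.inner_mul_iff hb ho.1).1 h' |>.1 h)⟩
    · exact Or.inl ⟨S.hidx _ _ hb ho.1 h ho0, h⟩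
  obtain ⟨t, ht, ht0⟩ : ∃ t ∈ (T : Subgroup G), t ∉ S.H0 := by
    by_contra hno
    simp only [not_exists, not_and, not_not] at hno
    have h1 : Nat.card (T : Subgroup G) ∣ Nat.card ↥S.H0 := Subgroup.card_dvd_of_le hno
    have h2 := (S.H0.subgroupOf S.H).card_mul_index
    rw [hidx, Nat.card_congr (Subgroup.subgroupOfEquivOfLe S.hH0).toEquiv] at h2
    have h3 : Nat.card ↥S.H0 * 2 ∣ Nat.card G := h2 ▸ Subgroup.card_subgroup_dvd_card S.H
    have h4 : Nat.card (T : Subgroup G) * 2 ∣ Nat.card G := (Nat.mul_dvd_mul_right h1 2).trans h3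
    obtain ⟨n, hn⟩ := IsPGroup.iff_card.1 T.isPGroup'
    rw [hn, ← pow_succ] at h4
    have := T.pow_dvd_card_of_pow_dvd_card h4
    rw [hn] at this
    exact absurd ((Nat.pow_dvd_pow_iff_le_right (by norm_num)).1 this) (by omega)
  rw [Subgroup.inf_relIndex_right, Subgroup.relIndex]
  refine Subgroup.index_eq_two_iff.2 ⟨⟨t, ht⟩, fun b => ?_⟩
  have hb : Commute (b : G) S.z := S.mem_H.1 (hT b.2)
  have htz : Commute t S.z := S.mem_H.1 (hT ht)
  show Xor' ((b : G) * t ∈ S.H0) ((b : G) ∈ S.H0)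
  by_cases h : (b : G) ∈ S.H0
  · exact Or.inr ⟨h, fun h' => ht0 ((S.inner_mul_iff hb htz).1 h' |>.1 h)⟩
  · exact Or.inl ⟨S.hidx _ _ hb htz h ht0, h⟩

end Setting

namespace Frame

variable {S : Setting G} (F : Frame S)
include F

/-- An involution centralizing an element of order three conjugate to `p` is `z`, `t0` or `t0 * z` up to
conjugacy. -/
theorem inv_of_comm_a [IsSimpleGroup G] (hG : ¬ IsMulCommutative G) {t : G} (ht : t * t = 1) (ht1 : t ≠ 1)
    (hta : Commute t F.a) : IsConj t S.z ∨ IsConj t F.t0 ∨ IsConj t (F.t0 * S.z) := by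
  obtain ⟨h, hh⟩ := F.exists_conj_p hG
  set s := h⁻¹ * t * h with hs
  have hsp : Commute s F.p := by
    have := (LargeData.commute_conj_iff' (g := h⁻¹)).2 hta
    rwa [inv_inv, show h⁻¹ * F.a * h = F.p by rw [← hh]; group] at this
  have hsC : s ∈ S.C := F.centralizer_le hG (F.mem_cent_p.2 hsp)
  have hs2 : s * s = 1 := by rw [hs, ← back_mul, ht]; group
  have hts : IsConj t s := isConj_iff.2 ⟨h⁻¹, by rw [hs]; group⟩
  by_cases hf : S.f s = 1
  · rcases S.ker_two hsC hf (n := 1) (by rw [pow_one, pow_two, hs2]) with e | e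
    · exact absurd (by rw [show t = h * s * h⁻¹ by rw [hs]; group, e]; group) ht1
    · exact Or.inl (e ▸ hts)
  · obtain ⟨c, -, e⟩ := F.inv_C hsC hs2 hf
    rcases e with e | e
    · exact Or.inr (Or.inl (hts.trans (isConj_iff.2 ⟨c, e⟩)))
    · exact Or.inr (Or.inr (hts.trans (isConj_iff.2 ⟨c, e⟩)))

/-- **Every involution is conjugate into `E` or to `t0` or `t0 * z`.** -/
theorem involution_classes [IsSimpleGroup G] (hG : ¬ IsMulCommutative G) {t : G} (ht : orderOf t = 2) :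
    (∃ x ∈ S.E, x * x = 1 ∧ IsConj t x) ∨ IsConj t F.t0 ∨ IsConj t (F.t0 * S.z) := by
  haveI : Fact (Nat.Prime 2) := ⟨Nat.prime_two⟩
  obtain ⟨T, -, hT⟩ := S.exists_sylow_H
  rcases CfsgLib.Transfer.thompson_transfer T (S.H0 ⊓ (T : Subgroup G)) (S.relIndex_inner T hT) ht with
    ⟨M, hM, hi, -⟩ | ⟨g, hg⟩
  · exfalso
    rcases hM.eq_bot_or_eq_top with h | h
    · rw [h, Subgroup.index_bot] at hi
      haveI := isCyclic_of_prime_card hi
      exact hG ⟨⟨fun a b => IsCyclic.commGroup.mul_comm a b⟩⟩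
    · rw [h, Subgroup.index_top] at hi; omega
  · set t' := g * t * g⁻¹ with ht'
    have htt : IsConj t t' := isConj_iff.2 ⟨g, rfl⟩
    have hsq : t * t = 1 := by rw [← pow_two, ← ht, pow_orderOf_eq_one]
    have h2 : t' * t' = 1 := by rw [ht', conj_mul, hsq]; simp
    by_cases hE : t' ∈ S.E
    · exact Or.inl ⟨t', hE, h2, htt⟩
    obtain ⟨h, -, x, hx, e⟩ := F.inner_involution hg.1 h2 hE
    have htx : IsConj t (x * F.t0) := htt.trans (isConj_iff.2 ⟨h, e⟩)
    have h1 : x * F.t0 ≠ 1 := fun r => by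
      rw [r, isConj_one_left] at htx
      rw [htx, orderOf_one] at ht
      omega
    rcases F.inv_of_comm_a hG (show x * F.t0 * (x * F.t0) = 1 by rw [← e, conj_mul, h2]; simp) h1
      ((F.mem_W0.1 hx).2.mul_left F.t0_q.2.1) with r | r | r
    · exact Or.inl ⟨S.z, S.hE.z_mem, S.hE.mul_self_z, htx.trans r⟩
    · exact Or.inr (Or.inl (htx.trans r))
    · exact Or.inr (Or.inr (htx.trans r))

end Frame

end CfsgLib.JankoFour
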