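import Cfsg.Agent.Lib.JankoFour.Classes
import Cfsg.Agent.Lib.JankoFourHexad.Stabilizer

/-!
# Every involution is conjugate into the elementary subgroup of order 2^11 (owner: helper14)
-/

set_option autoImplicit false
set_option linter.unusedSectionVars false

namespace CfsgLib.JankoFour

open Cfsg CfsgLib.ThreeTrans
open CfsgLib.JankoFourHexad

variable {G : Type*} [Group G] [Finite G]

namespace HexBase

variable {S : Setting G} (B : HexBase S)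

/-- **Every involution is conjugate into `V`.** -/
theorem involution_conj_V [IsSimpleGroup G] (hG : ¬ IsMulCommutative G) {t : G} (ht : orderOf t = 2) :
    ∃ x ∈ B.V, x ≠ 1 ∧ IsConj t x := by
  have hne : ∀ {x}, IsConj t x → x ≠ 1 := fun {x} h r => by
    rw [r, isConj_one_left] at h
    rw [h, orderOf_one] at ht
    omega
  have hk : B.X.kl 0 ∈ B.V := B.vel_kl (i := 0) (by norm_num) ▸ B.vel_mem (by norm_num)
  have hkC := B.X.kl_mem 0
  have hk2 := B.X.kl_sq 0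
  have hkf : S.f (B.X.kl 0) ≠ 1 := B.X.F.hcfg.hv1
  obtain ⟨c, hc, hck⟩ := B.X.F.inv_C hkC hk2 hkf
  have hzc : c * S.z * c⁻¹ = S.z := by rw [(Frame.commute_z (S := S) hc).eq, mul_inv_cancel_right]
  have hkz : c * (B.X.kl 0 * S.z) * c⁻¹ = c * B.X.kl 0 * c⁻¹ * S.z := by
    rw [show c * (B.X.kl 0 * S.z) * c⁻¹ = c * B.X.kl 0 * c⁻¹ * (c * S.z * c⁻¹) by group, hzc]
  have hkzV : B.X.kl 0 * S.z ∈ B.V := mul_mem hk B.z_mem_V
  have hT : ∀ {y}, y = B.X.F.t0 ∨ y = B.X.F.t0 * S.z → ∃ x ∈ B.V, IsConj x y := by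
    rintro y (rfl | rfl) <;> rcases hck with r | r
    · exact ⟨_, hk, isConj_iff.2 ⟨c, r⟩⟩
    · exact ⟨_, hkzV, isConj_iff.2 ⟨c, by rw [hkz, r, mul_assoc, S.z_sq, mul_one]⟩⟩
    · exact ⟨_, hkzV, isConj_iff.2 ⟨c, by rw [hkz, r]⟩⟩
    · exact ⟨_, hk, isConj_iff.2 ⟨c, r⟩⟩
  rcases B.X.F.involution_classes hG ht with ⟨x, hx, hxx, h⟩ | h | h
  · obtain ⟨t', -, ht'⟩ := B.exists_conj_F1 hx hxx
    have h' := h.trans (isConj_iff.2 ⟨t', rfl⟩)
    exact ⟨_, B.F1_le_V ht', hne h', h'⟩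
  · obtain ⟨x, hx, hxy⟩ := hT (Or.inl rfl)
    exact ⟨x, hx, hne (h.trans hxy.symm), h.trans hxy.symm⟩
  · obtain ⟨x, hx, hxy⟩ := hT (Or.inr rfl)
    exact ⟨x, hx, hne (h.trans hxy.symm), h.trans hxy.symm⟩

end HexBase

end CfsgLib.JankoFour
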