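import Mathlib

/-!
# The model of the extraspecial group of plus type of order 32 (owner: helper14)

Five bits `(a, b, c, d, e)` stand for `z^a y^b y₁^c f^d f₁^e`; all finite facts used later are decided here.
-/

set_option autoImplicit false
set_option synthInstance.maxSize 20000
set_option synthInstance.maxHeartbeats 2000000

namespace CfsgLib.JankoFour.PlaneCode

/-- Codes. -/
abbrev Code : Type := Bool × Bool × Bool × Bool × Bool

/-- Product of codes. -/
def mul : Code → Code → Code
  | (a, b, c, d, e), (a', b', c', d', e') =>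
    (xor (xor a a') (xor (d && c') (e && b')), xor b b', xor c c', xor d d', xor e e')

/-- The unit. -/
def one : Code := (false, false, false, false, false)

/-- The centre. -/
def zc : Code := (true, false, false, false, false)

/-- First generator. -/
def gy : Code := (false, true, false, false, false)

/-- Conjugate of the first generator. -/
def gy1 : Code := (false, false, true, false, false)

/-- Second generator. -/
def gf : Code := (false, false, false, true, false)

/-- Conjugate of the second generator. -/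
def gf1 : Code := (false, false, false, false, true)

/-- A power with exponent `0` or `1`. -/
def pw : Bool → Code → Code
  | true, x => x
  | false, _ => one

/-- The linear map with given images of the generators. -/
def lin (Y Y1 F F1 : Code) : Code → Code
  | (a, b, c, d, e) => mul (mul (mul (mul (pw a zc) (pw b Y)) (pw c Y1)) (pw d F)) (pw e F1)

/-- The automorphism of order three. -/
def pcc : Code → Code := lin gy1 (mul gy gy1) gf1 (mul gf gf1)

/-- An automorphism commuting with `pcc`. -/
def op (Y F : Code) : Code → Code := lin Y (pcc Y) F (pcc F)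

/-- Two codes commute. -/
abbrev Com (x y : Code) : Prop := mul x y = mul y x

/-- Conditions on the images of the generators. -/
abbrev Valid (Y F : Code) : Prop :=
  mul Y Y = one ∧ mul F F = one ∧ pcc (pcc Y) = mul Y (pcc Y) ∧ pcc (pcc F) = mul F (pcc F) ∧
    Com Y (pcc Y) ∧ Com F (pcc F) ∧ Com Y F ∧ ¬ Com Y (pcc F)

/-- The four possible operators. -/
abbrev IsOp (Y F : Code) : Prop :=
  (Y, F) = (gy, gf) ∨ (Y, F) = (gf, gy) ∨ (Y, F) = (gy, (true, true, false, true, false)) ∨
    (Y, F) = ((true, true, false, true, false), gf)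

theorem classify : ∀ Y F : Code, Valid Y F → op Y F (op Y F (op Y F (op Y F gy))) = gy →
    op Y F (op Y F (op Y F (op Y F gf))) = gf → IsOp Y F := by
  decide +kernel

/-- Non-trivial modulo the centre. -/
abbrev Moves (Y F : Code) : Prop := IsOp Y F ∧ (Y, F) ≠ (gy, gf)

theorem op_id : ∀ x : Code, op gy gf x = x := by decide +kernel

theorem op_fix : ∀ Y F : Code, IsOp Y F → ∀ x : Code,
    (op Y F x = x ∨ op Y F x = mul zc x) → op Y F x = x := by
  unfold IsOp; decide +kernel

/-- A product of two different operators has no 2-power order. -/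
theorem op_pair : ∀ Y F : Code, IsOp Y F → (Y, F) ≠ (gy, gf) → ∀ Y' F' : Code, IsOp Y' F' →
    (Y', F') ≠ (gy, gf) → (∀ x, op Y F (op Y' F' (op Y F (op Y' F' (op Y F (op Y' F' (op Y F (op Y' F' x))))))) = x) →
    (Y, F) = (Y', F') := by
  unfold IsOp; decide +kernel

/-- Properties of the fixed points of a moving operator. -/
theorem op_facts : ∀ Y F : Code, IsOp Y F → (Y, F) ≠ (gy, gf) →
    (∀ x, op Y F (op Y F x) = x) ∧
    (∀ x, op Y F x = x → mul x x = one) ∧
    (∀ x y, op Y F x = x → op Y F y = y → Com x y) ∧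
    (∀ x, op Y F x = x → ∃ r, x = mul r (op Y F r) ∨ x = mul zc (mul r (op Y F r))) ∧
    (∀ r, op Y F (mul r (op Y F r)) = mul r (op Y F r)) ∧
    (∃ x, op Y F x = x ∧ x ≠ one ∧ x ≠ zc) ∧
    (∃ x, mul x x = one ∧ op Y F x ≠ x) ∧
    (∀ x y, op Y F x = x → x ≠ one → x ≠ zc → op Y F y = y → y ≠ one → y ≠ zc →
      y = x ∨ y = mul zc x ∨ y = pcc x ∨ y = mul zc (pcc x) ∨ y = pcc (pcc x) ∨ y = mul zc (pcc (pcc x))) := by
  unfold IsOp; decide +kernel

theorem op_moved : ∀ Y F : Code, IsOp Y F → (Y, F) ≠ (gy, gf) →
    ∀ x y, mul x x = one → op Y F x ≠ x → mul y y = one → op Y F y ≠ y →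
      ∃ u : Code, (u = x ∨ u = op Y F x) ∧
        (y = u ∨ y = mul zc u ∨ y = pcc u ∨ y = mul zc (pcc u) ∨ y = pcc (pcc u) ∨ y = mul zc (pcc (pcc u))) := by
  unfold IsOp; decide +kernel

theorem op_eight : ∀ Y F : Code, IsOp Y F → (Y, F) ≠ (gy, gf) →
    ∀ e x, mul e e = one → op Y F e ≠ e → mul x x = one → Com x e → x ≠ one → x ≠ zc → x ≠ e → x ≠ mul zc e →
      (x = pcc e ∨ x = mul zc (pcc e) ∨ x = pcc (pcc e) ∨ x = mul zc (pcc (pcc e))) ∨
      (op Y F x = x ∧ mul (mul e x) (mul e x) = one ∧ op Y F (mul e x) ≠ mul e x) ∨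
      (op Y F (mul e x) = mul e x ∧ op Y F x ≠ x) := by
  unfold IsOp; decide +kernel

/-- A code with the inverse of a bit. -/
theorem mul_zc : ∀ a b c d e, mul zc (a, b, c, d, e) = (!a, b, c, d, e) := by decide +kernel

theorem centralizer_nonabelian : ∀ w : Code, w ≠ one → w ≠ zc →
    ∃ x y, Com x w ∧ Com y w ∧ ¬ Com x y := by
  decide +kernel

/-- Generators detect the centre. -/
theorem com_gens : ∀ x : Code, Com x gy → Com x gy1 → Com x gf → Com x gf1 → x = one ∨ x = zc := by
  decide +kernel

/-- A line is its own centralizer. -/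
theorem line_centralizer : ∀ Y F : Code, IsOp Y F → (Y, F) ≠ (gy, gf) →
    ∀ e x, mul e e = one → op Y F e ≠ e → Com x e → Com x (pcc e) →
      x = one ∨ x = zc ∨ x = e ∨ x = mul zc e ∨ x = pcc e ∨ x = mul zc (pcc e) ∨ x = pcc (pcc e) ∨
        x = mul zc (pcc (pcc e)) := by
  unfold IsOp; decide +kernel

theorem count_inv : (Finset.univ.filter fun x : Code => mul x x = one).card = 20 := by decide +kernel

end CfsgLib.JankoFour.PlaneCode
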