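import Cfsg.Agent.Lib.JankoFour.Plane
import Cfsg.Agent.Lib.JankoFour.PlaneCode

/-!
# Coordinates on a plane (owner: helper14)

A plane is identified with the model, and conjugation by an element of 2-power order commuting with the
element of order three is one of the four operators of the model.
-/

set_option autoImplicit false

namespace CfsgLib.JankoFour

open PlaneCode

variable {G : Type*} [Group G] {z p : G} {W : Subgroup G}

/-- `x` or `1`. -/
def bb : G → Bool → G
  | x, true => x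
  | _, false => 1

/-- A basis. -/
structure Coords (z : G) (W : Subgroup G) (p : G) where
  /-- first generator -/
  y : G
  /-- second generator -/
  f : G
  hyW : y ∈ W
  hfW : f ∈ W
  hy : y * y = 1
  hf : f * f = 1
  hy2 : pc p (pc p y) = y * pc p y
  hf2 : pc p (pc p f) = f * pc p f
  hyy : Commute y (pc p y)
  hff : Commute f (pc p f)
  hyf : Commute y f
  hnc : pc p f * y = z * (y * pc p f)
  hnc' : f * pc p y = z * (pc p y * f)

namespace Coords

variable (B : Coords z W p)

/-- The element of a code. -/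
def val : Code → G
  | (a, b, c, d, e) => bb z a * bb B.y b * bb (pc p B.y) c * bb B.f d * bb (pc p B.f) e

variable (h : Plane z W p)
include h

theorem val_mem (x : Code) : B.val x ∈ W := by
  have key : ∀ {g : G}, g ∈ W → ∀ b, bb g b ∈ W := fun hg b => by cases b; exacts [one_mem _, hg]
  obtain ⟨a, b, c, d, e⟩ := x
  exact mul_mem (mul_mem (mul_mem (mul_mem (key h.hzW a) (key B.hyW b)) (key (h.hpW _ B.hyW) c))
    (key B.hfW d)) (key (h.hpW _ B.hfW) e)

theorem val_z_mul (a b c d e : Bool) : B.val (!a, b, c, d, e) = z * B.val (a, b, c, d, e) := by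
  cases a <;> simp [val, bb, mul_assoc]
  rw [← mul_assoc z z, h.hz, one_mul]

theorem val_mul (s t : Code) : B.val (mul s t) = B.val s * B.val t := by
  have hy1 : pc p B.y * pc p B.y = 1 := by rw [← pc_mul, B.hy]; simp [pc]
  have hf1 : pc p B.f * pc p B.f = 1 := by rw [← pc_mul, B.hf]; simp [pc]
  have hcz : ∀ {g : G}, g ∈ W → ∀ u, g * (z * u) = z * (g * u) := fun hg u => by
    rw [← mul_assoc, (h.hzc _ hg).eq, mul_assoc]
  have czy := hcz B.hyW
  have czy1 : ∀ u, pc p B.y * (z * u) = z * (pc p B.y * u) := hcz (h.hpW _ B.hyW)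
  have czf := hcz B.hfW
  have czf1 : ∀ u, pc p B.f * (z * u) = z * (pc p B.f * u) := hcz (h.hpW _ B.hfW)
  have zz : ∀ u, z * (z * u) = u := fun u => by rw [← mul_assoc, h.hz, one_mul]
  have yy : ∀ u, B.y * (B.y * u) = u := fun u => by rw [← mul_assoc, B.hy, one_mul]
  have y1y1 : ∀ u, pc p B.y * (pc p B.y * u) = u := fun u => by rw [← mul_assoc, hy1, one_mul]
  have ff : ∀ u, B.f * (B.f * u) = u := fun u => by rw [← mul_assoc, B.hf, one_mul]
  have f1f1 : ∀ u, pc p B.f * (pc p B.f * u) = u := fun u => by rw [← mul_assoc, hf1, one_mul]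
  have y1y : ∀ u, pc p B.y * (B.y * u) = B.y * (pc p B.y * u) := fun u => by
    rw [← mul_assoc, ← B.hyy.eq, mul_assoc]
  have f1f : ∀ u, pc p B.f * (B.f * u) = B.f * (pc p B.f * u) := fun u => by
    rw [← mul_assoc, ← B.hff.eq, mul_assoc]
  have fy : ∀ u, B.f * (B.y * u) = B.y * (B.f * u) := fun u => by rw [← mul_assoc, ← B.hyf.eq, mul_assoc]
  have cyf1 : Commute (pc p B.y) (pc p B.f) := by
    show pc p B.y * pc p B.f = pc p B.f * pc p B.y
    rw [← pc_mul, B.hyf.eq, pc_mul]
  have f1y1 : ∀ u, pc p B.f * (pc p B.y * u) = pc p B.y * (pc p B.f * u) := fun u => by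
    rw [← mul_assoc, ← cyf1.eq, mul_assoc]
  have f1y : ∀ u, pc p B.f * (B.y * u) = z * (B.y * (pc p B.f * u)) := fun u => by
    rw [← mul_assoc, B.hnc, mul_assoc, mul_assoc]
  have fy1 : ∀ u, B.f * (pc p B.y * u) = z * (pc p B.y * (B.f * u)) := fun u => by
    rw [← mul_assoc, B.hnc', mul_assoc, mul_assoc]
  obtain ⟨a, b, c, d, e⟩ := s
  obtain ⟨a', b', c', d', e'⟩ := t
  show bb z _ * bb B.y _ * bb (pc p B.y) _ * bb B.f _ * bb (pc p B.f) _ =
    bb z a * bb B.y b * bb (pc p B.y) c * bb B.f d * bb (pc p B.f) e *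
      (bb z a' * bb B.y b' * bb (pc p B.y) c' * bb B.f d' * bb (pc p B.f) e')
  have hyy' := B.hyy
  have hff' := B.hff
  generalize hY1 : pc p B.y = Y1 at *
  generalize hF1 : pc p B.f = F1 at *
  have hZ : ∀ {g : G}, (∀ u, g * (z * u) = z * (g * u)) → ∀ s u, g * (bb z s * u) = bb z s * (g * u) :=
    fun {g} hg s u => by cases s <;> simp [bb, hg]
  have hzz : ∀ s t u, bb z s * (bb z t * u) = bb z (xor s t) * u := fun s t u => by
    cases s <;> cases t <;> simp [bb, zz]
  have hYY : ∀ b c b' c' u, bb B.y b * (bb Y1 c * (bb B.y b' * (bb Y1 c' * u))) =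
      bb B.y (xor b b') * (bb Y1 (xor c c') * u) := fun b c b' c' u => by
    cases b <;> cases c <;> cases b' <;> cases c' <;> simp [bb, yy, y1y1, y1y]
  have hFF : ∀ d e d' e', bb B.f d * (bb F1 e * (bb B.f d' * bb F1 e')) =
      bb B.f (xor d d') * bb F1 (xor e e') := fun d e d' e' => by
    have g1 : F1 * B.f = B.f * F1 := hff'.eq.symm
    cases d <;> cases e <;> cases d' <;> cases e' <;> simp [bb, ff, f1f1, f1f, g1, B.hf, hf1]
  have hFY : ∀ d e b c u, bb B.f d * (bb F1 e * (bb B.y b * (bb Y1 c * u))) =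
      bb z (xor (d && c) (e && b)) * (bb B.y b * (bb Y1 c * (bb B.f d * (bb F1 e * u)))) := fun d e b c u => by
    cases d <;> cases e <;> cases b <;> cases c <;>
      simp [bb, fy, f1y1, f1y, fy1, zz, czy, czy1, czf, czf1]
  have zy : ∀ b s u, bb B.y b * (bb z s * u) = bb z s * (bb B.y b * u) := fun b s u => by
    cases b
    · simp [bb]
    · exact hZ czy s u
  have zy1 : ∀ b s u, bb Y1 b * (bb z s * u) = bb z s * (bb Y1 b * u) := fun b s u => by
    cases b
    · simp [bb]
    · exact hZ czy1 s u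
  have zf : ∀ b s u, bb B.f b * (bb z s * u) = bb z s * (bb B.f b * u) := fun b s u => by
    cases b
    · simp [bb]
    · exact hZ czf s u
  have zf1 : ∀ b s u, bb F1 b * (bb z s * u) = bb z s * (bb F1 b * u) := fun b s u => by
    cases b
    · simp [bb]
    · exact hZ czf1 s u
  simp only [mul_assoc]
  rw [zf1, zf, zy1, zy, hzz, hFY, zy1, zy, hzz, hYY, hFF]

theorem val_one : B.val one = 1 := by simp [val, one, bb]

theorem val_injective [Finite G] : Function.Injective B.val := by
  have key : ∀ x : Code, B.val x = 1 → ∀ g : Code, Com x g := by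
    intro x hx g
    by_contra hne
    have e1 : B.val (mul x g) = B.val (mul g x) := by rw [B.val_mul h, B.val_mul h, hx, one_mul, mul_one]
    have e2 : ∀ x g : Code, mul x g ≠ mul g x → mul x g = (fun q : Code => (!q.1, q.2)) (mul g x) := by
      decide +kernel
    obtain ⟨⟨a, b, c, d, e⟩, hq⟩ : ∃ q, mul g x = q := ⟨_, rfl⟩
    rw [e2 x g hne, hq, B.val_z_mul h] at e1
    exact h.hz1 (mul_eq_right.1 e1)
  intro s t e
  have hinv : ∀ t : Code, ∃ t' : Code, mul t t' = one := by decide +kernel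
  obtain ⟨t', ht'⟩ := hinv t
  have h1 : B.val (mul s t') = 1 := by rw [B.val_mul h, e, ← B.val_mul h, ht', B.val_one h]
  rcases com_gens _ (key _ h1 gy) (key _ h1 gy1) (key _ h1 gf) (key _ h1 gf1) with r | r
  · have huniq : ∀ s t t' : Code, mul t t' = one → mul s t' = one → s = t := by
      intro s t t' a b
      have hr : ∀ t t' : Code, mul t t' = one → mul t' t = one ∧ ∀ q, mul (mul q t') t = q := by
        decide +kernel
      obtain ⟨-, hq⟩ := hr t t' a
      have := hq s
      rw [b] at this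
      rw [← this]
      exact (by decide +kernel : ∀ t : Code, mul one t = t) t
    exact huniq s t t' ht' r
  · rw [r] at h1
    exact absurd (by simpa [val, zc, bb] using h1) h.hz1

theorem val_surj [Finite G] {x : G} (hx : x ∈ W) : ∃ s, B.val s = x := by
  let F : Code → ↥W := fun s => ⟨B.val s, B.val_mem h s⟩
  have hF : Function.Bijective F := by
    rw [Nat.bijective_iff_injective_and_card]
    exact ⟨fun s t e => B.val_injective h (congrArg Subtype.val e), by rw [h.hcard]; simp⟩
  obtain ⟨s, hs⟩ := hF.2 ⟨x, hx⟩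
  exact ⟨s, congrArg Subtype.val hs⟩

theorem val_pc (s : Code) : pc p (B.val s) = B.val (pcc s) := by
  obtain ⟨a, b, c, d, e⟩ := s
  have hone : pc p (1 : G) = 1 := by simp [pc]
  have hbb : ∀ (g : G) (t : Bool), pc p (bb g t) = bb (pc p g) t := fun g t => by cases t; exacts [hone, rfl]
  show pc p (bb z a * bb B.y b * bb (pc p B.y) c * bb B.f d * bb (pc p B.f) e) = _
  rw [pc_mul, pc_mul, pc_mul, pc_mul, hbb, hbb, hbb, hbb, hbb, h.pc_z, B.hy2, B.hf2]
  simp only [pcc, lin, B.val_mul h]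
  cases a <;> cases b <;> cases c <;> cases d <;> cases e <;>
    simp [val, bb, pw, zc, gy, gy1, gf, gf1, one, mul]

/-- Conjugation by an element of 2-power order is one of the four operators. -/
theorem exists_op [Finite G] {g : G} (hgz : Commute g z) (hgp : Commute g p)
    (hgW : ∀ x ∈ W, g * x * g⁻¹ ∈ W) (hg4 : ∀ x ∈ W, g ^ 4 * x * (g ^ 4)⁻¹ = x) :
    ∃ Y F : Code, IsOp Y F ∧ ∀ s, g * B.val s * g⁻¹ = B.val (op Y F s) := by
  obtain ⟨Y, hY⟩ := B.val_surj h (hgW _ B.hyW)
  obtain ⟨F, hF⟩ := B.val_surj h (hgW _ B.hfW)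
  have hgpc : ∀ x, g * pc p x * g⁻¹ = pc p (g * x * g⁻¹) := fun x => by
    show g * (p * x * p⁻¹) * g⁻¹ = p * (g * x * g⁻¹) * p⁻¹
    rw [show g * (p * x * p⁻¹) * g⁻¹ = (g * p) * x * (g * p)⁻¹ by group, hgp.eq]; group
  have hform : ∀ s, g * B.val s * g⁻¹ = B.val (op Y F s) := by
    intro s
    obtain ⟨a, b, c, d, e⟩ := s
    have hone : g * (1 : G) * g⁻¹ = 1 := by simp
    have hbb : ∀ (x : G) (t : Bool), g * bb x t * g⁻¹ = bb (g * x * g⁻¹) t := fun x t => by
      cases t; exacts [hone, rfl]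
    show g * (bb z a * bb B.y b * bb (pc p B.y) c * bb B.f d * bb (pc p B.f) e) * g⁻¹ = _
    rw [show g * (bb z a * bb B.y b * bb (pc p B.y) c * bb B.f d * bb (pc p B.f) e) * g⁻¹ =
      (g * bb z a * g⁻¹) * (g * bb B.y b * g⁻¹) * (g * bb (pc p B.y) c * g⁻¹) * (g * bb B.f d * g⁻¹) *
        (g * bb (pc p B.f) e * g⁻¹) by group, hbb, hbb, hbb, hbb, hbb, hgpc, hgpc, ← hY, ← hF,
      hgz.eq, mul_inv_cancel_right, B.val_pc h, B.val_pc h]
    simp only [op, lin, B.val_mul h]
    have hpw : ∀ (t : Bool) (q : Code), B.val (pw t q) = bb (B.val q) t := fun t q => by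
      cases t; exacts [B.val_one h, rfl]
    rw [hpw, hpw, hpw, hpw, hpw, show B.val zc = z by simp [val, zc, bb]]
  have inj := B.val_injective h
  have hy0 : B.val gy = B.y := by simp [val, gy, bb]
  have hf0 : B.val gf = B.f := by simp [val, gf, bb]
  have hconj2 : ∀ {x : G}, x * x = 1 → (g * x * g⁻¹) * (g * x * g⁻¹) = 1 := fun {x} hx => by
    rw [show g * x * g⁻¹ * (g * x * g⁻¹) = g * (x * x) * g⁻¹ by group, hx]; simp
  have horb : ∀ {x : G}, pc p (pc p x) = x * pc p x →
      pc p (pc p (g * x * g⁻¹)) = g * x * g⁻¹ * pc p (g * x * g⁻¹) := fun {x} hx => by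
    rw [← hgpc, ← hgpc, hx]; group
  have hcc : ∀ {x u : G}, Commute x u → Commute (g * x * g⁻¹) (g * u * g⁻¹) := fun hxu =>
    (commute_iff_eq _ _).2 (by simp [mul_assoc]; rw [← mul_assoc _ _ g⁻¹, hxu.eq, mul_assoc])
  have hcom : ∀ {s t : Code}, Commute (B.val s) (B.val t) ↔ Com s t := fun {s t} => by
    rw [commute_iff_eq, ← B.val_mul h, ← B.val_mul h]
    exact ⟨fun e => inj e, fun e => congrArg B.val e⟩
  have hvalid : Valid Y F := by
    refine ⟨inj ?_, inj ?_, inj ?_, inj ?_, hcom.1 ?_, hcom.1 ?_, hcom.1 ?_, fun hc => ?_⟩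
    · rw [B.val_mul h, hY, B.val_one h]; exact hconj2 B.hy
    · rw [B.val_mul h, hF, B.val_one h]; exact hconj2 B.hf
    · rw [← B.val_pc h, ← B.val_pc h, B.val_mul h, ← B.val_pc h, hY]; exact horb B.hy2
    · rw [← B.val_pc h, ← B.val_pc h, B.val_mul h, ← B.val_pc h, hF]; exact horb B.hf2
    · rw [← B.val_pc h, hY, ← hgpc]; exact hcc B.hyy
    · rw [← B.val_pc h, hF, ← hgpc]; exact hcc B.hff
    · rw [hY, hF]; exact hcc B.hyf
    · have h1 : Commute (g * B.y * g⁻¹) (g * pc p B.f * g⁻¹) := by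
        rw [hgpc, ← hF, B.val_pc h, ← hY]; exact hcom.2 hc
      have h2 : Commute B.y (pc p B.f) := by
        have e := h1.eq
        simp only [mul_assoc, inv_mul_cancel_left] at e
        exact mul_right_cancel (b := g⁻¹) (by simpa [mul_assoc] using mul_left_cancel e)
      have e := B.hnc
      rw [← h2.eq] at e
      exact h.hz1 (mul_eq_right.1 e.symm)
  have hiter : ∀ s, B.val (op Y F (op Y F (op Y F (op Y F s)))) = g ^ 4 * B.val s * (g ^ 4)⁻¹ := fun s => by
    rw [← hform, ← hform, ← hform, ← hform, show g ^ 4 = g * g * g * g by simp [pow_succ]]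
    group
  refine ⟨Y, F, classify Y F hvalid (inj ?_) (inj ?_), hform⟩
  · rw [hiter]; exact hg4 _ (B.val_mem h _)
  · rw [hiter]; exact hg4 _ (B.val_mem h _)

end Coords

namespace Plane

variable (h : Plane z W p) [Finite G]
include h

theorem orbit_fix {x : G} (hx : x ∈ W) : x * pc p x * pc p (pc p x) = 1 ∨ x * pc p x * pc p (pc p x) = z := by
  set x1 := pc p x with hx1
  set x2 := pc p x1 with hx2
  have h1 : x1 ∈ W := h.hpW x hx
  have h2 : x2 ∈ W := h.hpW x1 h1
  set c := x * x1 * x2 with hc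
  have hcW : c ∈ W := mul_mem (mul_mem hx h1) h2
  have e : pc p c = x⁻¹ * c * x := by
    rw [hc, pc_mul, pc_mul, ← hx1, ← hx2, show pc p x2 = x by rw [hx2, hx1]; exact h.pc_three x]; group
  rcases h.hcomm x⁻¹ (inv_mem hx) c hcW with r | r <;> rw [inv_inv] at r
  · exact h.hfix c hcW (e.trans r)
  · by_cases h0 : c = 1 ∨ c = z
    · exact h0
    · rw [not_or] at h0
      exact absurd (e.trans r) (h.pc_ne hcW h0.1 h0.2).2

omit [Finite G] in
theorem pc_comm {x u : G} (c : Commute x u) : Commute (pc p x) (pc p u) := by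
  show _ = _; rw [← pc_mul, c.eq, pc_mul]

omit [Finite G] in
theorem noncomm {x u : G} (hx : x ∈ W) (hu : u ∈ W) (hc : ¬ Commute x u) : x * u = z * (u * x) := by
  have e := (h.hcomm x hx u hu).resolve_left fun e => hc (mul_inv_eq_iff_eq_mul.1 e)
  rw [mul_inv_eq_iff_eq_mul.1 e, mul_assoc]

theorem sing_comm {x : G} (hx : x ∈ W) (x2 : x * x = 1) : Commute x (pc p x) := by
  by_contra hc
  have hx' := h.hpW x hx
  have hx'2 : pc p x * pc p x = 1 := by rw [← pc_mul, x2]; simp [pc]
  have e1 := h.sq_of_not_comm hx hx' hc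
  rw [x2, hx'2, mul_one, mul_one] at e1
  set t := pc p (pc p x) with ht
  have ht2 : t * t = 1 := by rw [ht, ← pc_mul, hx'2]; simp [pc]
  have hit : t⁻¹ = t := inv_eq_of_mul_eq_one_left ht2
  rcases h.orbit_fix hx with r | r
  · rw [eq_inv_of_mul_eq_one_left r, hit, ht2] at e1
    exact h.hz1 e1.symm
  · rw [eq_mul_inv_of_mul_eq r, hit, show z * t * (z * t) = z * (t * z) * t by group,
      (h.hzc t (h.hpW _ hx')).eq, show z * (z * t) * t = (z * z) * (t * t) by group, ht2, h.hz, one_mul] at e1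
    exact h.hz1 e1.symm

/-- The orbit product is normalized by a change by the centre. -/
theorem exists_normal {x : G} (hx : x ∈ W) (x2 : x * x = 1) :
    ∃ y ∈ W, (y = x ∨ y = x * z) ∧ y * y = 1 ∧ Commute y (pc p y) ∧ pc p (pc p y) = y * pc p y := by
  have hx1 := h.hpW x hx
  have hc := h.sing_comm hx x2
  have x12 : pc p x * pc p x = 1 := by rw [← pc_mul, x2]; simp [pc]
  have inv1 : (pc p x)⁻¹ = pc p x := inv_eq_of_mul_eq_one_left x12
  have inv0 : x⁻¹ = x := inv_eq_of_mul_eq_one_left x2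
  rcases h.orbit_fix hx with r | r
  · exact ⟨x, hx, Or.inl rfl, x2, hc, by rw [eq_inv_of_mul_eq_one_right r, mul_inv_rev, inv1, inv0, hc.eq]⟩
  · have hxz : Commute x z := h.hzc x hx
    have hzx : pc p (x * z) = pc p x * z := by rw [pc_mul, h.pc_z]
    have hsq : x * z * (x * z) = 1 := by
      rw [show x * z * (x * z) = x * (z * x) * z by group, ← hxz.eq,
        show x * (x * z) * z = (x * x) * (z * z) by group, x2, h.hz, one_mul]
    refine ⟨x * z, mul_mem hx h.hzW, Or.inr rfl, hsq, h.sing_comm (mul_mem hx h.hzW) hsq, ?_⟩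
    have e3 : pc p (pc p x) = x * pc p x * z := by
      rw [← inv_mul_cancel_left (x * pc p x) (pc p (pc p x)), r, mul_inv_rev, inv1, inv0, hc.eq]
    rw [hzx, pc_mul, h.pc_z, e3, show x * z * (pc p x * z) = x * (z * pc p x) * z by group,
      ← (h.hzc _ hx1).eq]
    group

theorem exists_coords : Nonempty (Coords z W p) := by
  obtain ⟨x, hxW, hx2, hx1, hxz⟩ := h.exists_sing
  obtain ⟨y, hyW, hyx, hy, hyy, hy2⟩ := h.exists_normal hxW hx2
  have hyc : ¬ (y = 1 ∨ y = z) := by
    rcases hyx with rfl | rfl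
    · exact not_or.2 ⟨hx1, hxz⟩
    · rintro (e | e)
      · exact hxz ((eq_inv_of_mul_eq_one_left e).trans (inv_eq_of_mul_eq_one_left h.hz))
      · exact hx1 (mul_eq_right.1 e)
  obtain ⟨u, hu, huy⟩ : ∃ u ∈ W, ¬ Commute u y := by
    by_contra hno
    simp only [not_exists, not_and, not_not] at hno
    exact hyc (h.hcenter y hyW hno)
  obtain ⟨s, hs, hs2, hsy⟩ : ∃ s ∈ W, s * s = 1 ∧ ¬ Commute s y := by
    rcases h.hsq u hu with r | r
    · exact ⟨u, hu, r, huy⟩
    · refine ⟨u * y, mul_mem hu hyW, by rw [h.sq_of_not_comm hu hyW huy, r, hy, h.hz, one_mul], fun hc => huy ?_⟩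
      have := hc.mul_left (Commute.refl y).inv_left
      rwa [mul_inv_cancel_right] at this
  obtain ⟨t, htW, hts, ht, htt, ht2⟩ := h.exists_normal hs hs2
  have hty : ¬ Commute t y := by
    rcases hts with rfl | rfl
    · exact hsy
    · intro hc
      have := hc.mul_left (h.hzc y hyW).symm.inv_left
      rw [mul_inv_cancel_right] at this
      exact hsy this
  have ht1W := h.hpW t htW
  have hy1W := h.hpW y hyW
  -- the conjugate of `t` commuting with `y`
  have hbuild : ∀ f ∈ W, f * f = 1 → Commute f (pc p f) → pc p (pc p f) = f * pc p f → Commute y f →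
      ¬ Commute (pc p f) y → Nonempty (Coords z W p) := by
    intro f hfW hf hff hf2 hyf hnc
    refine ⟨⟨y, f, hyW, hfW, hy, hf, hy2, hf2, hyy, hff, hyf, h.noncomm (h.hpW f hfW) hyW hnc,
      h.noncomm hfW hy1W fun hc => hnc ?_⟩⟩
    have a1 : Commute (pc p f) (y * pc p y) := hy2 ▸ h.pc_comm hc
    have a2 : Commute (pc p f) (pc p y)⁻¹ := (h.pc_comm hyf.symm).inv_right
    have := a1.mul_right a2
    rwa [mul_inv_cancel_right] at this
  have ht12 : pc p t * pc p t = 1 := by rw [← pc_mul, ht]; simp [pc]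
  by_cases hc1 : Commute (pc p t) y
  · refine hbuild _ ht1W ht12 (h.pc_comm htt) (by conv_lhs => rw [ht2, pc_mul]) hc1.symm fun hc2 => hty ?_
    rw [ht2] at hc2
    have := hc2.mul_left hc1.inv_left
    rwa [mul_inv_cancel_right] at this
  · set w := pc p (pc p t) with hw
    have hw2 : w * w = 1 := by rw [hw, ← pc_mul, ht12]; simp [pc]
    have hcw : Commute y w := by
      have e1 := (h.hcomm t htW y hyW).resolve_left fun e => hty (mul_inv_eq_iff_eq_mul.1 e)
      have e2 := (h.hcomm _ ht1W y hyW).resolve_left fun e => hc1 (mul_inv_eq_iff_eq_mul.1 e)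
      rw [ht2]
      refine (mul_inv_eq_iff_eq_mul.1 ?_ : Commute (t * pc p t) y).symm
      calc t * pc p t * y * (t * pc p t)⁻¹ = t * (pc p t * y * (pc p t)⁻¹) * t⁻¹ := by group
        _ = (t * z) * y * t⁻¹ := by rw [e2]; group
        _ = z * (t * y * t⁻¹) := by rw [(h.hzc t htW).eq]; group
        _ = y := by rw [e1, ← mul_assoc, h.hz, one_mul]
    refine hbuild w (h.hpW _ ht1W) hw2 (h.pc_comm (h.pc_comm htt)) ?_ hcw ?_
    · rw [show pc p w = t from h.pc_three t, ht2]
      calc pc p t = (t * t) * pc p t := by rw [ht, one_mul]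
        _ = t * (t * pc p t) := mul_assoc _ _ _
        _ = (t * pc p t) * t := ((Commute.refl t).mul_right htt).eq
    · rw [show pc p w = t from h.pc_three t]; exact hty

end Plane

end CfsgLib.JankoFour
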