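import Cfsg.Agent.Lib.JankoFour.DuadMembers

/-!
# The centralizer of a duad lies in `N(V)` (owner: helper14)

If two members existed, take conjugates `u`, `v` of `z` in them of different kinds and a largest subgroup
normalizing both members and normalized by `u` and `v`: the dihedral group they span modulo this subgroup
either fuses the two kinds or enlarges the subgroup.
-/

set_option autoImplicit false
set_option linter.unusedSectionVars false

namespace CfsgLib.JankoFour

open Cfsg CfsgLib.ThreeTrans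
open CfsgLib.JankoFourHexad
open CfsgLib.Sporadic (forallLt forallLt_elim forallLt_iff)

/-- Two involutions are conjugate under a power of their product, or a power of the product is a central
involution. -/
theorem dihedral_cases {Q : Type*} [Group Q] [Finite Q] {a b : Q} (ha : a * a = 1) (hb : b * b = 1) :
    (∃ k : ℕ, (a * b) ^ k * a * ((a * b) ^ k)⁻¹ = b) ∨
    ∃ k : ℕ, (a * b) ^ k ≠ 1 ∧ (a * b) ^ k * (a * b) ^ k = 1 ∧
      a * (a * b) ^ k * a⁻¹ = (a * b) ^ k ∧ b * (a * b) ^ k * b⁻¹ = (a * b) ^ k := by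
  set g := a * b with hg
  have hai : a⁻¹ = a := inv_eq_of_mul_eq_one_right ha
  have hbi : b⁻¹ = b := inv_eq_of_mul_eq_one_right hb
  have hga : a * g * a⁻¹ = g⁻¹ := by
    rw [hg, hai, mul_inv_rev, hai, hbi, ← mul_assoc a a b, ha, one_mul]
  have hgb : b * g * b⁻¹ = g⁻¹ := by
    rw [hg, hbi, mul_inv_rev, hai, hbi, mul_assoc b (a * b) b, mul_assoc a b b, hb, mul_one]
  have hpow : ∀ j : ℕ, a * g ^ j * a⁻¹ = (g ^ j)⁻¹ ∧ b * g ^ j * b⁻¹ = (g ^ j)⁻¹ := fun j =>
    ⟨by rw [← inv_pow, ← hga, conj_pow], by rw [← inv_pow, ← hgb, conj_pow]⟩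
  obtain ⟨k, hk | hk⟩ : ∃ k, orderOf g = 2 * k ∨ orderOf g = 2 * k + 1 :=
    ⟨orderOf g / 2, by omega⟩
  · right
    have hpos := orderOf_pos g
    have hne : g ^ k ≠ 1 := pow_ne_one_of_lt_orderOf (by omega) (by omega)
    have hsq : g ^ k * g ^ k = 1 := by rw [← pow_add, ← two_mul, ← hk, pow_orderOf_eq_one]
    have hinv : (g ^ k)⁻¹ = g ^ k := inv_eq_of_mul_eq_one_right hsq
    exact ⟨k, hne, hsq, (hpow k).1.trans hinv, (hpow k).2.trans hinv⟩
  · left
    refine ⟨k, ?_⟩
    have h1 : g * (g ^ k * g ^ k) = 1 := by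
      rw [← pow_add, ← pow_succ', show k + k + 1 = 2 * k + 1 by omega, ← hk, pow_orderOf_eq_one]
    have h2 : a * (g ^ k)⁻¹ = g ^ k * a := by
      rw [← (hpow k).1, show a * (a * g ^ k * a⁻¹) = (a * a) * g ^ k * a⁻¹ by group, ha, one_mul, hai]
    rw [mul_assoc, h2, ← mul_assoc, eq_inv_of_mul_eq_one_right h1, hg, mul_inv_rev, hai, hbi, mul_assoc, ha,
      mul_one]

variable {G : Type*} [Group G] [Finite G]

namespace HexBase

variable {S : Setting G} (B : HexBase S)

/-- A conjugate of `z` in `V` of the other kind than `v`, robustly for a set of overlapping duads. -/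
theorem exists_other_kind [IsSimpleGroup G] (hG : ¬ IsMulCommutative G) (hJ : IsOfJankoFourType G)
    {A : Subgroup G} (hA : A ≤ B.V) (ht : B.duadRep ∈ A) (hz : ∀ x ∈ A, ¬ IsConj S.z x) (v : G) :
    ∃ u ∈ B.V, IsConj S.z u ∧ ∀ r ∈ A, IsConj S.z (u * r) →
      ¬ (IsConj S.z (v * B.duadRep) ↔ IsConj S.z (u * r * B.duadRep)) := by
  obtain ⟨n, hn, hn1, hn2, hA4⟩ := B.no_z_codes hG hJ hA ht hz
  have hchk := forallLt_elim both_kinds hn
  rw [hn1, hn2] at hchk
  simp only [Bool.and_self, Bool.not_true, Bool.false_or, Bool.and_eq_true] at hchk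
  have ht0 : t0Code < 2048 := by rw [t0_code]; exact pairCode_lt _ _
  have hdr : B.vel t0Code = B.duadRep := by rw [t0_code]; rfl
  have hlt : Nat.xor n t0Code < 2048 := Nat.xor_lt_two_pow (n := 11) hn ht0
  have hval : ∀ u < 2048, ∀ r ∈ A, ∃ c, (c = 0 ∨ c = t0Code ∨ c = n ∨ c = Nat.xor n t0Code) ∧
      Nat.xor u c < 2048 ∧ Nat.xor (Nat.xor u c) t0Code < 2048 ∧
      B.vel u * r = B.vel (Nat.xor u c) ∧ B.vel u * r * B.duadRep = B.vel (Nat.xor (Nat.xor u c) t0Code) := by
    intro u hu r hr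
    obtain ⟨hc, hrc⟩ := B.code_spec (hA hr)
    have h1 : Nat.xor u (B.code r) < 2048 := Nat.xor_lt_two_pow (n := 11) hu hc
    have e : B.vel u * r = B.vel (Nat.xor u (B.code r)) := by rw [← B.vel_xor, hrc]
    exact ⟨B.code r, hA4 r hr, h1, Nat.xor_lt_two_pow (n := 11) h1 ht0, e, by rw [e, ← hdr, B.vel_xor]⟩
  have hx : ∀ a b c, Nat.xor (Nat.xor a b) c = Nat.xor a (Nat.xor b c) := Nat.xor_assoc
  have hxx : ∀ a, Nat.xor a a = 0 := Nat.xor_self
  have hx0 : ∀ a, Nat.xor a 0 = a := Nat.xor_zero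
  by_cases hv : IsConj S.z (v * B.duadRep)
  · -- avoid the kind with both translates conjugate to `z`
    obtain ⟨u, hu, hb⟩ := exists_of_forallLt_not hchk.1
    simp only [Bool.and_eq_true, Bool.or_eq_true, Bool.not_eq_true'] at hb
    obtain ⟨⟨b1, b2⟩, b3⟩ := hb
    refine ⟨B.vel u, B.vel_mem hu, (B.zBit_iff hG hJ hu).1 b1, fun r hr hzr hiff => ?_⟩
    have hz2 := hiff.1 hv
    obtain ⟨c, hc, l1, l2, e1, e2⟩ := hval u hu r hr
    rw [e1, ← B.zBit_iff hG hJ l1] at hzr
    rw [e2, ← B.zBit_iff hG hJ l2] at hz2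
    rcases hc with rfl | rfl | rfl | rfl
    · rw [hx0] at hzr hz2
      rcases b2 with h | h
      · rw [hzr] at h; exact Bool.noConfusion h
      · rw [hz2] at h; exact Bool.noConfusion h
    · rw [hx u t0Code t0Code, hxx, hx0] at hz2
      rcases b2 with h | h
      · rw [hz2] at h; exact Bool.noConfusion h
      · rw [hzr] at h; exact Bool.noConfusion h
    · rcases b3 with h | h
      · rw [hzr] at h; exact Bool.noConfusion h
      · rw [hz2] at h; exact Bool.noConfusion h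
    · rw [← hx u n t0Code] at hzr hz2
      rw [hx (Nat.xor u n) t0Code t0Code, hxx, hx0] at hz2
      rcases b3 with h | h
      · rw [hz2] at h; exact Bool.noConfusion h
      · rw [hzr] at h; exact Bool.noConfusion h
  · -- all translates are conjugate to `z`
    obtain ⟨u, hu, hb⟩ := exists_of_forallLt_not hchk.2
    simp only [Bool.and_eq_true] at hb
    obtain ⟨⟨⟨b1, b2⟩, b3⟩, b4⟩ := hb
    refine ⟨B.vel u, B.vel_mem hu, (B.zBit_iff hG hJ hu).1 b1, fun r hr hzr hiff => hv (hiff.2 ?_)⟩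
    obtain ⟨c, hc, l1, l2, e1, e2⟩ := hval u hu r hr
    rw [e2, ← B.zBit_iff hG hJ l2]
    rcases hc with rfl | rfl | rfl | rfl
    · rw [hx0]; exact b2
    · rw [hx u t0Code t0Code, hxx, hx0]; exact b1
    · exact b4
    · rw [← hx u n t0Code, hx (Nat.xor u n) t0Code t0Code, hxx, hx0]; exact b3

/-- Only `V` passes through the duad. -/
theorem member_eq_V [IsSimpleGroup G] (hG : ¬ IsMulCommutative G) (hJ : IsOfJankoFourType G) {W : Subgroup G}
    (hW : B.Member W) : W = B.V := by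
  classical
  by_contra hne
  set t := B.duadRep with ht
  obtain ⟨v, hv, hvz⟩ : ∃ v ∈ W, IsConj S.z v := by
    by_contra h
    push Not at h
    have := B.no_z_card hG hJ hW le_rfl hW.2.2 h
    rw [hW.2.1] at this
    norm_num at this
  set D0 := B.V ⊓ Subgroup.normalizer (W : Set G)
  have hD0z : ∀ x ∈ D0, ¬ IsConj S.z x := fun x hx h => hne (B.good_V hG hJ hW hx.1 h hx.2)
  obtain ⟨u, hu, huz, hkind⟩ := B.exists_other_kind hG hJ (A := D0) inf_le_left
    ⟨B.duadRep_mem, Subgroup.le_normalizer hW.2.2⟩ hD0z v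
  have htu : Commute u t := B.member_commute B.member_V hu
  have htv : Commute v t := B.member_commute hW hv
  set M := B.NV ⊓ Subgroup.normalizer (W : Set G) ⊓ Subgroup.centralizer ({t} : Set G)
  let F : Set (Subgroup G) := {R | R ≤ M ∧ u ∈ Subgroup.normalizer (R : Set G) ∧ v ∈ Subgroup.normalizer (R : Set G)}
  have hbot : ∀ w : G, w ∈ Subgroup.normalizer ((⊥ : Subgroup G) : Set G) := fun w =>
    Subgroup.mem_normalizer_iff.2 fun h => by rw [Subgroup.mem_bot, Subgroup.mem_bot, conj_eq_one_iff]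
  have hF : F.Nonempty := ⟨⊥, bot_le, hbot u, hbot v⟩
  obtain ⟨R, ⟨hRM, huR, hvR⟩, hmax⟩ := Set.Finite.exists_maximalFor (fun R : Subgroup G => Nat.card R) F
    (Set.toFinite _) hF
  set Y := Subgroup.normalizer (R : Set G)
  haveI : (R.subgroupOf Y).Normal := Subgroup.normal_in_normalizer
  let q : ↥Y →* ↥Y ⧸ R.subgroupOf Y := QuotientGroup.mk' _
  set u' : ↥Y := ⟨u, huR⟩
  set v' : ↥Y := ⟨v, hvR⟩
  have hq : ∀ {y : ↥Y}, q y = 1 ↔ (y : G) ∈ R := fun {y} => by
    rw [QuotientGroup.mk'_apply, QuotientGroup.eq_one_iff, Subgroup.mem_subgroupOf]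
  have hu2 : q u' * q u' = 1 := by
    rw [← map_mul, show u' * u' = 1 from Subtype.ext (by
      show u * u = 1
      rw [← pow_two]; exact B.V_elementary.2 u hu), map_one]
  have hv2 : q v' * q v' = 1 := by
    rw [← map_mul, show v' * v' = 1 from Subtype.ext (by
      show v * v = 1
      rw [← pow_two]; exact hW.1.2 v hv), map_one]
  have hRC : ∀ {r}, r ∈ R → r ∈ B.NV ∧ r ∈ Subgroup.normalizer (W : Set G) ∧ Commute r t := fun {r} hr =>
    ⟨(hRM hr).1.1, (hRM hr).1.2, Subgroup.mem_centralizer_singleton_iff.1 (hRM hr).2⟩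
  have hxc : ∀ k : ℕ, Commute (((u' * v') ^ k : ↥Y) : G) t := fun k => by
    rw [Subgroup.coe_pow]; exact (htu.mul_left htv).pow_left k
  rcases dihedral_cases hu2 hv2 with ⟨k, hk⟩ | ⟨k, hk1, hk2, hku, hkv⟩
  · -- the two kinds would be fused
    set x : ↥Y := (u' * v') ^ k with hx
    have hk' : q (x * u' * x⁻¹) = q v' := by
      rw [map_mul, map_mul, map_inv, hx, map_pow, map_mul]; exact hk
    set r : G := u⁻¹ * ((x : G)⁻¹ * v * x) with hr
    have hrR : r ∈ R := by
      have h : q (u'⁻¹ * (x⁻¹ * v' * x)) = 1 := by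
        rw [map_mul, map_mul, map_mul, map_inv, map_inv, ← hk', map_mul, map_mul, map_inv]
        group
      exact hq.1 h
    have hxt : Commute (x : G) t := hxc k
    have hur : u * r = (x : G)⁻¹ * v * x := by rw [hr, mul_inv_cancel_left]
    have hW' := B.member_map hW (c := (x : G)⁻¹) hxt.inv_left
    have hmem : u * r ∈ W.map (MulAut.conj (x : G)⁻¹).toMonoidHom := mem_map_conj.2 (by
      rw [hur, show (x : G)⁻¹⁻¹ * ((x : G)⁻¹ * v * x) * (x : G)⁻¹ = v by group]
      exact hv)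
    have hzur : IsConj S.z (u * r) := hvz.trans (isConj_iff.2 ⟨(x : G)⁻¹, by rw [hur, inv_inv]⟩)
    have hNV : u * r ∈ B.NV := mul_mem (Subgroup.le_normalizer hu) (hRC hrR).1
    have e := B.good hG hJ hW' B.member_V hmem hzur hNV
    rw [e] at hmem
    have hrV : r ∈ B.V := by simpa using mul_mem (inv_mem hu) hmem
    refine hkind r ⟨hrV, (hRC hrR).2.1⟩ hzur ?_
    have hconj : IsConj (v * t) (u * r * t) := isConj_iff.2 ⟨(x : G)⁻¹, by
      rw [hur, inv_inv, show (x : G)⁻¹ * (v * t) * x = (x : G)⁻¹ * v * (t * x) by group, ← hxt.eq]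
      group⟩
    exact ⟨fun h => h.trans hconj, fun h => h.trans hconj.symm⟩
  · -- a larger subgroup
    set x : ↥Y := (u' * v') ^ k with hx
    have hqx : q x = (q u' * q v') ^ k := by rw [hx, map_pow, map_mul]
    rw [← hqx] at hk1 hku hkv
    have hxR : (x : G) ∉ R := fun h => hk1 (hq.2 h)
    have hxt : Commute (x : G) t := hxc k
    have hcu : (x : G) * u * (x : G)⁻¹ * u⁻¹ ∈ R := by
      have h : q (x * u' * x⁻¹ * u'⁻¹) = 1 := by
        rw [map_mul, map_mul, map_mul, map_inv, map_inv,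
          show q x * q u' * (q x)⁻¹ * (q u')⁻¹ = q x * (q u' * q x * (q u')⁻¹)⁻¹ by group, hku, mul_inv_cancel]
      exact hq.1 h
    have hcv : (x : G) * v * (x : G)⁻¹ * v⁻¹ ∈ R := by
      have h : q (x * v' * x⁻¹ * v'⁻¹) = 1 := by
        rw [map_mul, map_mul, map_mul, map_inv, map_inv,
          show q x * q v' * (q x)⁻¹ * (q v')⁻¹ = q x * (q v' * q x * (q v')⁻¹)⁻¹ by group, hkv, mul_inv_cancel]
      exact hq.1 h
    have hxfix : ∀ {W' : Subgroup G} {w : G}, B.Member W' → w ∈ W' → IsConj S.z w →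
        (x : G) * w * (x : G)⁻¹ ∈ Subgroup.normalizer (W' : Set G) →
        (x : G) ∈ Subgroup.normalizer (W' : Set G) := fun {W' w} hW' hw hwz hn =>
      norm_of_map (B.good hG hJ (B.member_map hW' hxt) hW' ⟨w, hw, rfl⟩
        (hwz.trans (isConj_iff.2 ⟨(x : G), rfl⟩)) hn)
    have hxV : (x : G) ∈ B.NV := hxfix B.member_V hu huz (by
      rw [show (x : G) * u * (x : G)⁻¹ = (x : G) * u * (x : G)⁻¹ * u⁻¹ * u by group]
      exact mul_mem (hRC hcu).1 (Subgroup.le_normalizer hu))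
    have hxW : (x : G) ∈ Subgroup.normalizer (W : Set G) := hxfix hW hv hvz (by
      rw [show (x : G) * v * (x : G)⁻¹ = (x : G) * v * (x : G)⁻¹ * v⁻¹ * v by group]
      exact mul_mem (hRC hcv).2.1 (Subgroup.le_normalizer hv))
    set R' := R ⊔ Subgroup.zpowers (x : G)
    have hR'M : R' ≤ M := sup_le hRM (Subgroup.zpowers_le.2
      ⟨⟨hxV, hxW⟩, Subgroup.mem_centralizer_singleton_iff.2 hxt.eq⟩)
    have hnorm : ∀ (w : G) (hw : w ∈ Y), q ⟨w, hw⟩ * q x * (q ⟨w, hw⟩)⁻¹ = q x →
        w ∈ Subgroup.normalizer (R' : Set G) := by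
      intro w hw hwx
      refine norm_of_map (Subgroup.eq_of_le_of_card_ge ?_
        (by rw [Subgroup.card_map_of_injective (MulAut.conj w).injective]))
      rw [Subgroup.map_sup, sup_le_iff, MonoidHom.map_zpowers, Subgroup.zpowers_le]
      refine ⟨?_, ?_⟩
      · rintro _ ⟨r, hr, rfl⟩
        exact Subgroup.mem_sup_left ((Subgroup.mem_normalizer_iff.1 hw r).1 hr)
      · show w * (x : G) * w⁻¹ ∈ R'
        have h : q (⟨w, hw⟩ * x * ⟨w, hw⟩⁻¹ * x⁻¹) = 1 := by
          rw [map_mul, map_mul, map_mul, map_inv, map_inv, hwx, mul_inv_cancel]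
        rw [show w * (x : G) * w⁻¹ = w * (x : G) * w⁻¹ * (x : G)⁻¹ * x by group]
        exact mul_mem (Subgroup.mem_sup_left (hq.1 h)) (Subgroup.mem_sup_right (Subgroup.mem_zpowers _))
    have hR'F : R' ∈ F := ⟨hR'M, hnorm u huR hku, hnorm v hvR hkv⟩
    have hle : Nat.card R ≤ Nat.card R' := Subgroup.card_le_of_le le_sup_left
    have e : R = R' := Subgroup.eq_of_le_of_card_ge le_sup_left (hmax hR'F hle)
    exact hxR (e ▸ Subgroup.mem_sup_right (Subgroup.mem_zpowers _))

/-- **The centralizer of the standard duad lies in `N(V)`.** -/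
theorem centralizer_duadRep_le [IsSimpleGroup G] (hG : ¬ IsMulCommutative G) (hJ : IsOfJankoFourType G) :
    Subgroup.centralizer ({B.duadRep} : Set G) ≤ B.NV := fun g hg =>
  norm_of_map (B.member_eq_V hG hJ (B.member_map B.member_V (Subgroup.mem_centralizer_singleton_iff.1 hg)))

end HexBase

end CfsgLib.JankoFour
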