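import Cfsg.Agent.Lib.JankoFourHexad.InvolChecks
import Cfsg.Agent.Lib.JankoFourHexad.OrbitChecks

/-!
# Checks on duad codes for the centralizer of the second involution (owner: helper14)
-/

set_option autoImplicit false
set_option maxRecDepth 100000

namespace CfsgLib.JankoFourHexad

open Cfsg CfsgLib.Sporadic
open CfsgLib.ThreeTrans.LargeFischer

/-- The code of the standard pair of points. -/
noncomputable def t0Code : ℕ := lamI (Nat.xor (vI (ix (none : GolayPt))) (vI (ix (some 0 : GolayPt))))

/-- A nonidentity code that is not of duad type. -/
noncomputable def zBit (n : ℕ) : Bool := !Nat.beq n 0 && !Nat.testBit dMask n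

/-- The low part of a code moves only within the centre. -/
theorem low_comm : forallLt 128 (fun a => forallLt 6 fun i =>
    Nat.beq (Nat.shiftRight (Nat.xor a (tMap (2 ^ i) a)) 1) 0) = true := by decide +kernel

/-- A commutator with the high part leaves the first fixed space under a nontrivial word. -/
theorem high_comm : forallLt 77 (fun j => forallLt 16 fun k => Nat.beq j 0 || Nat.beq k 0 ||
    !forallLt 6 (fun i => Nat.blt (qWord (wordData.getD j [])
      (Nat.shiftRight (Nat.xor (Nat.shiftLeft k 7) (tMap (2 ^ i) (Nat.shiftLeft k 7))) 1)) 64)) = true := by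
  decide +kernel

/-- A duad code in the first fixed space leaves it under a nontrivial word. -/
theorem low_duad : forallLt 77 (fun j => forallLt 128 fun n => Nat.beq j 0 || !Nat.testBit dMask n ||
    !Nat.blt (qWord (wordData.getD j []) (eU n)) 64) = true := by decide +kernel

/-- A set of duad codes closed under sums together with the standard one has at most four elements. -/
theorem duad_span : forallLt 2048 (fun n => !(Nat.testBit dMask n && Nat.testBit dMask (Nat.xor n t0Code)) ||
    forallLt 2048 (fun m => !(Nat.testBit dMask m && Nat.testBit dMask (Nat.xor m t0Code) &&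
      Nat.testBit dMask (Nat.xor m n) && Nat.testBit dMask (Nat.xor m (Nat.xor n t0Code))))) = true := by
  decide +kernel

/-- A duad overlapping the standard one shares a point with it. -/
theorem duad_overlap : forallLt 24 (fun i => forallLt 24 fun j =>
    Nat.beq i j || !Nat.testBit dMask (Nat.xor (lamI (Nat.xor (vI i) (vI j))) t0Code) ||
      Nat.beq i (ix (none : GolayPt)) || Nat.beq j (ix (none : GolayPt)) ||
      Nat.beq i (ix (some 0 : GolayPt)) || Nat.beq j (ix (some 0 : GolayPt))) = true := by decide +kernel

/-- Elements of both kinds, uniformly for a set of overlapping duads. -/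
theorem both_kinds : forallLt 2048 (fun n => !(Nat.testBit dMask n && Nat.testBit dMask (Nat.xor n t0Code)) ||
    (!forallLt 2048 (fun u => !(zBit u &&
      (!zBit u || !zBit (Nat.xor u t0Code)) &&
      (!zBit (Nat.xor u n) || !zBit (Nat.xor (Nat.xor u n) t0Code)))) &&
    !forallLt 2048 (fun u => !(zBit u && zBit (Nat.xor u t0Code) &&
      zBit (Nat.xor u n) && zBit (Nat.xor (Nat.xor u n) t0Code))))) = true := by decide +kernel

theorem overlap_exists : (!forallLt 2048 fun n =>
    !(Nat.testBit dMask n && Nat.testBit dMask (Nat.xor n t0Code))) = true := by decide +kernel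

/-- The fixed space of an involution with fixed points. -/
theorem fixed_one : Nat.ble 128 (countLt 2048 fun n => Nat.beq (tMap 1 n) n) = true := by decide +kernel

end CfsgLib.JankoFourHexad
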