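import Cfsg.Agent.Lib.JankoFour.DuadCentralizer
import Cfsg.Agent.Lib.JankoFourHexad.Split

/-!
# Centralizers of the involutions not conjugate to the central one (owner: helper14)
-/

set_option autoImplicit false
set_option linter.unusedSectionVars false

namespace CfsgLib.JankoFour

open Cfsg CfsgLib.JankoFourHexad

variable {G : Type*} [Group G] [Finite G]

namespace HexBase

variable {S : Setting G} (B : HexBase S)

/-- The centralizer of any duad element of `V` lies in `N(V)`. -/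
theorem centralizer_duad_le [IsSimpleGroup G] (hG : ¬ IsMulCommutative G) (hJ : IsOfJankoFourType G) {x : G}
    (hx : x ∈ B.V) (hx1 : x ≠ 1) (hxz : ¬ IsConj S.z x) :
    Subgroup.centralizer ({x} : Set G) ≤ B.NV := by
  obtain ⟨g, hg⟩ := isConj_iff.1 (B.isConj_duadRep hG hJ
    (orderOf_eq_prime (B.V_elementary.2 x hx) hx1) hxz)
  have hmem : B.Member (B.V.map (MulAut.conj g⁻¹).toMonoidHom) :=
    ⟨elementary_map B.V_elementary _, by rw [Subgroup.card_map_of_injective (MulAut.conj g⁻¹).injective, B.card_V],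
      mem_map_conj.2 (by rwa [inv_inv, hg])⟩
  have hgN : g⁻¹ ∈ B.NV := norm_of_map (B.member_eq_V hG hJ hmem)
  intro y hy
  rw [Subgroup.mem_centralizer_singleton_iff, ← hg] at hy
  have h1 : g⁻¹ * y * g ∈ B.NV := B.centralizer_duadRep_le hG hJ (Subgroup.mem_centralizer_singleton_iff.2 (by
    calc g⁻¹ * y * g * B.duadRep = g⁻¹ * (y * (g * B.duadRep * g⁻¹)) * g := by group
      _ = _ := by rw [hy]; group))
  rw [show y = g⁻¹⁻¹ * (g⁻¹ * y * g) * g⁻¹ by group]
  exact mul_mem (mul_mem (inv_mem hgN) h1) hgN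

end HexBase

/-- **The centralizer of an involution outside the class of `z` is `2 ^ 11 : Aut M22`.** -/
theorem centralizer_second_class [IsSimpleGroup G] (hG : ¬ IsMulCommutative G) {z : G}
    (hJ : IsOfJankoFourTypeAt z) {t : G} (ht : orderOf t = 2) (hnc : ¬ IsConj z t) :
    ∃ V K : Subgroup G, V ≤ Subgroup.centralizer ({t} : Set G) ∧ K ≤ Subgroup.centralizer ({t} : Set G) ∧
      Subgroup.centralizer ({t} : Set G) ≤ Subgroup.normalizer (V : Set G) ∧ IsElementaryAbelian 2 V ∧
      Nat.card ↥V = 2 ^ 11 ∧ K ⊓ V = ⊥ ∧ K ⊔ V = Subgroup.centralizer ({t} : Set G) ∧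
      Nonempty (↥K ≃* MulAut ↥Spor.M22) := by
  have hJ' : IsOfJankoFourType G := ⟨z, hJ⟩
  obtain ⟨P, hP⟩ := hJ
  obtain ⟨S, rfl, rfl⟩ := exists_setting hP
  obtain ⟨B⟩ := S.exists_hexBase
  obtain ⟨K, hK, hKV, hKV', -⟩ := B.exists_complement hG hJ'
  exact B.second_centralizer hG hJ' (B.centralizer_duadRep_le hG hJ') hK hKV hKV' ht hnc

end CfsgLib.JankoFour
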