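import Cfsg.Agent.Lib.JankoFour.DuadChecks
import Cfsg.Agent.Lib.JankoFourHexad.Fixer

/-!
# A duad of `V` and a conjugate of `z` in `V` are centralized only inside `N(V)` (owner: helper14)
-/

set_option autoImplicit false
set_option linter.unusedSectionVars false
set_option maxRecDepth 100000

namespace CfsgLib.JankoFour

open Cfsg CfsgLib.ThreeTrans
open CfsgLib.JankoFourHexad
open CfsgLib.Sporadic (forallLt forallLt_elim forallLt_iff)

variable {G : Type*} [Group G] [Finite G]

namespace HexBase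

variable {S : Setting G} (B : HexBase S)

/-- The shift by one step removes the central bit. -/
theorem shr_xor (a b : ℕ) : Nat.shiftRight (Nat.xor a b) 1 = Nat.xor (Nat.shiftRight a 1) (Nat.shiftRight b 1) :=
  Nat.shiftRight_xor_distrib ..

/-- An element of the first fixed space in codes. -/
theorem q_code_lt {m : ℕ} (hm : m < 4096) (h : B.q m ∈ B.X.F1) : m < 64 := by
  obtain ⟨u, hu, c, hc, e⟩ := B.mem_F1_code h
  have hq : B.q u = B.U u := by rw [q, Nat.mod_eq_of_lt hu, Nat.div_eq_of_lt hu, W_zero, mul_one]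
  have := B.q_inj (n := u) hm (by omega) (by rw [hq, e, mul_inv_cancel_right]; exact hc)
  omega

/-- Where a representative sends an element of `V ∩ E`. -/
theorem word_code_lt {t : G} {f : ℕ → ℕ} (ht : B.ActsQ t f) (htC : t ∈ S.C) {e : ℕ} (he : e < 128)
    (h : t * B.vel e * t⁻¹ ∈ B.V) : f (eU e) < 64 := by
  have hu : eU e < 64 := eU_lt e
  have hq : B.q (eU e) = B.U (eU e) := by rw [q, Nat.mod_eq_of_lt hu, Nat.div_eq_of_lt hu, W_zero, mul_one]
  have hel : B.vel e = zpar S.z e * B.q (eU e) := by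
    rw [hq, ← B.el_vel he, el, show eW e = 0 by
      show e >>> 7 = 0
      rw [Nat.shiftRight_eq_div_pow]; omega, W_zero, mul_one]
  have hz : zpar S.z e ∈ Subgroup.zpowers S.z := by
    rcases zpar_mem (c := S.z) e with e' | e' <;> rw [e']
    exacts [one_mem _, Subgroup.mem_zpowers _]
  have hzt : Commute t S.z := Frame.commute_z htC
  have hE : t * B.vel e * t⁻¹ ∈ S.E :=
    S.hE.conj_mem hzt (by rw [hel]; exact mul_mem (zpar_E e) (B.q_mem _))
  obtain ⟨h1, h2⟩ := ht (eU e) (by omega)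
  have hF : t * B.q (eU e) * t⁻¹ ∈ B.X.F1 := by
    have h3 := B.mem_F1_of_V h hE
    rw [hel, show t * (zpar S.z e * B.q (eU e)) * t⁻¹ =
      (t * zpar S.z e * t⁻¹) * (t * B.q (eU e) * t⁻¹) by group, z_pow_comm hzt hz] at h3
    simpa using mul_mem (inv_mem (B.zpowers_le_F1 hz)) h3
  refine B.q_code_lt h1 ?_
  have := mul_mem (inv_mem (B.zpowers_le_F1 h2)) hF
  simpa [mul_assoc] using this

/-- A representative mapping a duad of `V` into `V` is trivial. -/
theorem word_index_zero {j : Fin 77} {t : G} (htC : t ∈ S.C) (ht : B.ActsQ t (qWord (wordData.getD j.1 [])))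
    {n : ℕ} (hn : n < 2048) (hd : dMask.testBit n = true) (h : t * B.vel n * t⁻¹ ∈ B.V) : j.1 = 0 := by
  by_contra hj
  have hj' : Nat.beq j.1 0 = false := Bool.eq_false_iff.2 fun h => hj (Nat.eq_of_beq_eq_true h)
  by_cases h128 : n < 128
  · have hc := forallLt_elim (forallLt_elim low_duad j.2) h128
    rw [hj', hd] at hc
    simp only [Bool.false_or, Bool.not_true, Bool.not_eq_true'] at hc
    have h1 := B.word_code_lt ht htC h128 h
    rw [← Nat.blt_eq, hc] at h1
    exact Bool.noConfusion h1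
  · set k := Nat.shiftRight n 7 with hk
    have hk16 : k < 16 := by
      show n >>> 7 < 16
      rw [Nat.shiftRight_eq_div_pow]; omega
    have hk0 : Nat.beq k 0 = false := by
      have : k ≠ 0 := fun e => h128 <| by
        have e' : n >>> 7 = 0 := e
        rw [Nat.shiftRight_eq_div_pow] at e'
        omega
      exact Bool.eq_false_iff.2 fun h => this (Nat.eq_of_beq_eq_true h)
    have hc := forallLt_elim (forallLt_elim high_comm j.2) hk16
    rw [hj', hk0] at hc
    simp only [Bool.false_or, Bool.not_eq_true'] at hc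
    have hc' : forallLt 6 (fun i => Nat.blt (qWord (wordData.getD j.1 [])
        (Nat.shiftRight (Nat.xor (Nat.shiftLeft k 7) (tMap (2 ^ i) (Nat.shiftLeft k 7))) 1)) 64) = true := by
      rw [forallLt_iff]
      intro i hi
      set w := 2 ^ i with hw
      have hw64 : w < 64 := by
        rw [hw, show (64 : ℕ) = 2 ^ 6 from rfl]; exact Nat.pow_lt_pow_right (by norm_num) hi
      set b := Nat.shiftLeft k 7 with hb
      set a := n % 128 with ha
      have hab : n = Nat.xor a b := by
        refine Nat.eq_of_testBit_eq fun m => ?_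
        show n.testBit m = (a ^^^ b).testBit m
        rw [Nat.testBit_xor, ha, show (128 : ℕ) = 2 ^ 7 from rfl, Nat.testBit_mod_two_pow,
          show b = (n >>> 7) <<< 7 from rfl, Nat.testBit_shiftLeft, Nat.testBit_shiftRight]
        by_cases hm : m < 7
        · simp [hm, not_le.2 hm]
        · simp [hm, not_lt.1 hm, show 7 + (m - 7) = m by omega]
      have hb2 : b < 2048 := by
        show k <<< 7 < 2048
        rw [Nat.shiftLeft_eq]; omega
      have ha2 : a < 128 := Nat.mod_lt _ (by norm_num)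
      have hlow := Nat.eq_of_beq_eq_true (forallLt_elim (forallLt_elim low_comm ha2) hi)
      have hWN := B.actsV_norm (B.t_actsV hw64)
      have hact : ∀ {m}, m < 2048 → B.act (B.W w) m = tMap w m := fun {m} hm => B.act_of_actsV (B.t_actsV hw64) hm
      set e := Nat.xor n (tMap w n) with he
      have he1 : Nat.shiftRight e 1 = Nat.shiftRight (Nat.xor b (tMap w b)) 1 := by
        have hx : tMap w n = Nat.xor (tMap w a) (tMap w b) := by
          rw [← hact hn, ← hact hb2, ← hact (lt_trans ha2 (by norm_num)), hab]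
          exact B.act_xor hWN a b
        have e2 : e = Nat.xor (Nat.xor a (tMap w a)) (Nat.xor b (tMap w b)) := by
          rw [he, hx]
          conv_lhs => rw [hab]
          show (a ^^^ b) ^^^ (tMap w a ^^^ tMap w b) = (a ^^^ tMap w a) ^^^ (b ^^^ tMap w b)
          rw [Nat.xor_assoc, Nat.xor_assoc, ← Nat.xor_assoc b, Nat.xor_comm b, Nat.xor_assoc]
        rw [e2, shr_xor, hlow]
        exact Nat.zero_xor _
      have htw : tMap w n < 2048 := hact hn ▸ B.act_lt _ _
      have hev : B.vel e = B.vel n * (B.W w * B.vel n * (B.W w)⁻¹) := by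
        rw [he, ← B.vel_xor, ← hact hn, B.vel_act hWN hn]
      have hinE : B.W w ∈ S.E := B.X.F2_le_E (B.W_mem w)
      have hn0 : B.vel n ∈ S.H0 := B.V_le_H0 (B.vel_mem hn)
      have heE : B.vel e ∈ S.E := by
        rw [hev, show B.vel n * (B.W w * B.vel n * (B.W w)⁻¹) =
          (B.vel n * B.W w * (B.vel n)⁻¹) * (B.W w)⁻¹ by
            rw [show (B.vel n)⁻¹ = B.vel n from inv_eq_of_mul_eq_one_right
              (by rw [← pow_two]; exact B.V_elementary.2 _ (B.vel_mem hn))]
            group]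
        exact mul_mem (S.hE.conj_mem (mem_centralizer_singleton_iff'.1 (S.hH0 hn0)) hinE) (inv_mem hinE)
      have he2048 : e < 2048 := Nat.xor_lt_two_pow (n := 11) hn htw
      have he128 : e < 128 := by
        obtain ⟨u, hu, c, hc, e'⟩ := B.mem_F1_code (B.mem_F1_of_V (B.vel_mem he2048) heE)
        have hk' : B.Pk (Nat.shiftRight e 7) = B.Pk 0 := by
          rw [← B.f_vel he2048, (S.f_eq_one_iff (S.hEH0 heE)).2 (Subgroup.mem_sup_left heE),
            B.Pk_eq (by norm_num)]
          simp [prod4]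
        have h0 := B.Pk_inj (by show e >>> 7 < 16; rw [Nat.shiftRight_eq_div_pow]; omega) (by norm_num) hk'
        have h0' : e >>> 7 = 0 := h0
        rw [Nat.shiftRight_eq_div_pow] at h0'
        omega
      have hmem : t * B.vel e * t⁻¹ ∈ B.V := by
        set e' := t * B.W w * t⁻¹ with he'
        have he'N : e' ∈ B.NV :=
          B.EP_norm (Subgroup.mem_sup_left (S.hE.conj_mem (Frame.commute_z htC) hinE))
        rw [show t * B.vel e * t⁻¹ = t * B.vel n * t⁻¹ * (e' * (t * B.vel n * t⁻¹) * e'⁻¹) by rw [hev, he']; group]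
        exact mul_mem h (B.conj_mem he'N h)
      have h1 := B.word_code_lt ht htC he128 hmem
      rw [Nat.blt_eq]
      have heU : eU e = Nat.shiftRight e 1 := by
        show Nat.land (e >>> 1) 63 = e >>> 1
        rw [show (63 : ℕ) = 2 ^ 6 - 1 from rfl]
        show (e >>> 1) &&& (2 ^ 6 - 1) = e >>> 1
        rw [Nat.and_two_pow_sub_one_eq_mod, Nat.shiftRight_eq_div_pow]
        exact Nat.mod_eq_of_lt (by omega)
      rwa [heU, he1] at h1
    rw [hc] at hc'
    exact Bool.noConfusion hc'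

/-- An element of `H0` mapping a duad of `V` into `V` normalizes `V`. -/
theorem norm_of_duad_map [IsSimpleGroup G] (hG : ¬ IsMulCommutative G) (hJ : IsOfJankoFourType G) {h : G}
    (hh : h ∈ S.H0) {x : G} (hx : x ∈ B.V) (hx1 : x ≠ 1) (hxz : ¬ IsConj S.z x) (hm : h * x * h⁻¹ ∈ B.V) :
    h ∈ B.NV := by
  obtain ⟨-, hD, -⟩ := B.duads_spec hG hJ
  obtain ⟨j, t, htC, ht, ha⟩ := B.exists_word_rep hh
  set a := t⁻¹ * h with hadef
  have htH : t ∈ S.H0 := S.C_le_H0 htC
  have haN : a ∈ B.NV := (B.norm_eq.ge (Subgroup.mem_inf.2 ⟨mul_mem (inv_mem htH) hh, ha⟩)).2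
  set y := a * x * a⁻¹ with hy
  obtain ⟨hn, hyn⟩ := B.code_spec (B.conj_mem haN hx)
  have hc : IsConj x y := isConj_iff.2 ⟨a, rfl⟩
  have hd : dMask.testBit (B.code y) = true := (hD _ hn).2 ⟨fun e => hx1 (by
      rw [e, B.vel_zero] at hyn
      exact conj_eq_one_iff.1 hyn.symm),
    fun hz => hxz ((show IsConj S.z y by rw [hy, ← hyn]; exact hz).trans hc.symm)⟩
  have hj := B.word_index_zero htC ht hn hd (by
    rw [hyn, show t * y * t⁻¹ = h * x * h⁻¹ by rw [hy, hadef]; group]
    exact hm)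
  rw [hj] at ht
  have htF : t ∈ Subgroup.normalizer (B.X.F1 : Set G) := by
    refine norm_of_map (Subgroup.eq_of_le_of_card_ge ?_
      (by rw [Subgroup.card_map_of_injective (MulAut.conj t).injective]))
    rintro _ ⟨e, he, rfl⟩
    obtain ⟨u, hu, c, hc, rfl⟩ := B.mem_F1_code he
    obtain ⟨h1, h2⟩ := ht u (by omega)
    have hq : B.q u = B.U u := by rw [q, Nat.mod_eq_of_lt hu, Nat.div_eq_of_lt hu, W_zero, mul_one]
    have hfu : qWord (wordData.getD 0 []) u = u := rfl
    show t * (c * B.U u) * t⁻¹ ∈ B.X.F1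
    rw [show t * (c * B.U u) * t⁻¹ = (t * c * t⁻¹) * (t * B.U u * t⁻¹) by group,
      z_pow_comm (Frame.commute_z htC) hc]
    refine mul_mem (B.zpowers_le_F1 hc) ?_
    rw [hfu, hq] at h2
    simpa [mul_assoc] using mul_mem (B.zpowers_le_F1 h2) (B.U_mem u)
  have htN : t ∈ B.NV := (B.norm_eq.ge (Subgroup.mem_inf.2 ⟨htH, htF⟩)).2
  rw [show h = t * a by rw [hadef, mul_inv_cancel_left]]
  exact mul_mem htN haN

/-- **Only `N(V)` centralizes a duad and a conjugate of `z` of `V`.** -/
theorem centralizer_pair_le [IsSimpleGroup G] (hG : ¬ IsMulCommutative G) (hJ : IsOfJankoFourType G) {u x : G}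
    (hu : u ∈ B.V) (huz : IsConj S.z u) (hx : x ∈ B.V) (hx1 : x ≠ 1) (hxz : ¬ IsConj S.z x) :
    ∀ g : G, Commute g u → Commute g x → g ∈ B.NV := by
  intro g hgu hgx
  obtain ⟨c, hc⟩ := isConj_iff.1 huz
  obtain ⟨m, hm, e⟩ := B.fuse hJ (g := c) (hc ▸ hu)
  rw [hc] at e
  obtain ⟨o, hoz, ho0, hoN⟩ := B.exists_outer_norm hJ
  set g1 := m⁻¹ * g * m with hg1
  set x1 := m⁻¹ * x * m with hx1'
  have hgz : Commute g1 S.z := by
    have h := (LargeData.commute_conj_iff' (g := m⁻¹)).2 hgu
    rw [inv_inv] at h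
    rwa [show m⁻¹ * u * m = S.z by rw [← e]; group] at h
  have hxV : x1 ∈ B.V := by
    have := B.conj_mem (inv_mem hm) hx
    rwa [inv_inv] at this
  have hxc : IsConj x x1 := isConj_iff.2 ⟨m⁻¹, by rw [hx1', inv_inv]⟩
  have hgx1 : g1 * x1 * g1⁻¹ = x1 := by
    rw [hg1, hx1', show m⁻¹ * g * m * (m⁻¹ * x * m) * (m⁻¹ * g * m)⁻¹ = m⁻¹ * (g * x * g⁻¹) * m by group,
      hgx.eq, mul_inv_cancel_right]
  have hne : x1 ≠ 1 := fun h => hx1 (by rw [h, isConj_one_left] at hxc; exact hxc)
  have hnz : ¬ IsConj S.z x1 := fun h => hxz (h.trans hxc.symm)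
  have hgoal : g1 ∈ B.NV := by
    by_cases hg0 : g1 ∈ S.H0
    · exact B.norm_of_duad_map hG hJ hg0 hxV hne hnz (by rw [hgx1]; exact hxV)
    · have hh : o⁻¹ * g1 ∈ S.H0 := S.hidx _ _ hoz.inv_left hgz (fun c => ho0 (by simpa using inv_mem c)) hg0
      have := B.norm_of_duad_map hG hJ hh hxV hne hnz (by
        rw [show o⁻¹ * g1 * x1 * (o⁻¹ * g1)⁻¹ = o⁻¹ * (g1 * x1 * g1⁻¹) * o⁻¹⁻¹ by group, hgx1]
        exact B.conj_mem (inv_mem hoN) hxV)
      simpa using mul_mem hoN this
  rw [show g = m * g1 * m⁻¹ by rw [hg1]; group]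
  exact mul_mem (mul_mem hm hgoal) (inv_mem hm)

end HexBase

end CfsgLib.JankoFour
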