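import Cfsg.Agent.Lib.ThreeTrans.M24Inv

/-!
# An elementary abelian 2-group of M24 with a fixed point has order at most 16 (owner: helper14)
-/

set_option autoImplicit false

namespace CfsgLib.JankoFour

open Cfsg CfsgLib.Sporadic MulAction

theorem card_le_sixteen {R : Subgroup (Equiv.Perm GolayPt)} (hR : R ≤ M24) (h2 : ∀ g ∈ R, g * g = 1)
    {p : GolayPt} (hp : ∀ g ∈ R, g p = p) : Nat.card R ≤ 16 := by
  classical
  by_contra hgt
  haveI : Fact (Nat.Prime 2) := ⟨Nat.prime_two⟩
  have hpg : IsPGroup 2 ↥R := fun g => ⟨1, Subtype.ext (by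
    simpa [pow_two] using h2 g g.2)⟩
  obtain ⟨k, hk⟩ := IsPGroup.iff_card.1 hpg
  have hk5 : 5 ≤ k := by
    by_contra h
    refine hgt (hk ▸ ?_)
    calc 2 ^ k ≤ 2 ^ 4 := Nat.pow_le_pow_right (by norm_num) (by omega)
      _ = 16 := by norm_num
  obtain ⟨K, hK⟩ := Sylow.exists_subgroup_card_pow_prime (G := ↥R) 2 (n := 5)
    (hk ▸ pow_dvd_pow 2 hk5)
  have hfix : ∀ g : ↥K, Fintype.card (fixedBy GolayPt g) = if g = 1 then 24 else 8 := by
    intro g
    rw [← Set.toFinset_card]
    have e : (fixedBy GolayPt g).toFinset =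
        Finset.univ.filter fun x => ((g : ↥R) : Equiv.Perm GolayPt) x = x := by
      ext x
      simp only [Set.mem_toFinset, mem_fixedBy, Finset.mem_filter, Finset.mem_univ, true_and]
      rfl
    rw [e]
    split_ifs with hg
    · subst hg
      simp [GolayPt]
    · have ho : orderOf ((g : ↥R) : Equiv.Perm GolayPt) = 2 :=
        orderOf_eq_prime (by rw [pow_two]; exact h2 _ (g : ↥R).2) fun h => hg (Subtype.ext (Subtype.ext h))
      rcases CfsgLib.ThreeTrans.M24Inv.main.1 _ (hR (g : ↥R).2) ho with h | h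
      · exact h.2
      · exact absurd (hp _ (g : ↥R).2) (h p)
  have hb := sum_card_fixedBy_eq_card_orbits_mul_card_group ↥K GolayPt
  rw [Finset.sum_congr rfl fun g _ => hfix g, Finset.sum_ite, Finset.filter_eq',
    if_pos (Finset.mem_univ _), Finset.filter_ne', Finset.sum_singleton, Finset.sum_const,
    Finset.card_erase_of_mem (Finset.mem_univ _), Finset.card_univ, ← Nat.card_eq_fintype_card, hK] at hb
  norm_num at hb
  omega

end CfsgLib.JankoFour
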