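import Cfsg.Agent.Lib.Sporadic.Steiner22Aut
import Cfsg.Agent.Lib.JankoFourTwo.Setting

/-!
# The stabiliser of a pair of points of M24 is the automorphism group of M22 (owner: helper14)
-/

set_option autoImplicit false

namespace CfsgLib.JankoFour

open Cfsg CfsgLib.Sporadic CfsgLib.Sporadic.Hexad22

theorem pairGroup_conj_M22 (g : ↥pairGroup) {x : Equiv.Perm GolayPt} (hx : x ∈ Spor.M22) :
    g.1.1 * x * g.1.1⁻¹ ∈ Spor.M22 := by
  obtain ⟨hx24, hx1, hx2⟩ := M22Aut.mem_M22.1 hx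
  have hi : ∀ {a b}, g.1.1 a = b → g.1.1⁻¹ b = a := fun {a b} e => by
    rw [Equiv.Perm.inv_eq_iff_eq, e]
  refine M22Aut.mem_M22.2 ⟨mul_mem (mul_mem g.1.2 hx24) (inv_mem g.1.2), ?_, ?_⟩ <;>
    simp only [Equiv.Perm.mul_apply] <;>
    rcases mem_pairGroup.1 g.2 with ⟨a, b⟩ | ⟨a, b⟩
  · rw [hi a, hx1, a]
  · rw [hi b, hx2, b]
  · rw [hi b, hx2, b]
  · rw [hi a, hx1, a]

/-- Conjugation. -/
def pairConj : ↥pairGroup →* MulAut ↥Spor.M22 where
  toFun g :=
    { toFun := fun x => ⟨g.1.1 * x.1 * g.1.1⁻¹, pairGroup_conj_M22 g x.2⟩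
      invFun := fun x => ⟨(g⁻¹).1.1 * x.1 * (g⁻¹).1.1⁻¹, pairGroup_conj_M22 g⁻¹ x.2⟩
      left_inv := fun x => Subtype.ext (by simp [mul_assoc])
      right_inv := fun x => Subtype.ext (by simp [mul_assoc])
      map_mul' := fun x y => Subtype.ext (by simp [mul_assoc]) }
  map_one' := MulEquiv.ext fun x => Subtype.ext (by simp)
  map_mul' g h := MulEquiv.ext fun x => Subtype.ext (by simp [mul_assoc])

theorem pairConj_apply (g : ↥pairGroup) (x : ↥Spor.M22) :
    (pairConj g x : Equiv.Perm GolayPt) = g.1.1 * x.1 * g.1.1⁻¹ := rfl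

theorem pairConj_bijective : Function.Bijective pairConj := by
  haveI : Finite (MulAut ↥Spor.M22) := Nat.finite_of_card_ne_zero (by
    rw [JankoFourTwo.Setting.card_aut.1]; norm_num)
  have hsurj : Function.Surjective pairConj := fun φ => by
    obtain ⟨h, hh, hpair, hconj⟩ := M22Aut.aut_conj φ
    refine ⟨⟨⟨h, hh⟩, mem_pairGroup.2 hpair⟩, MulEquiv.ext fun x => Subtype.ext ?_⟩
    rw [pairConj_apply, hconj]
  haveI : Finite ↥pairGroup := Nat.finite_of_card_ne_zero (by rw [card_pairGroup]; norm_num)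
  exact (Nat.bijective_iff_surjective_and_card _).2 ⟨hsurj, by
    rw [card_pairGroup, JankoFourTwo.Setting.card_aut.1]⟩

theorem nonempty_pairGroup_equiv : Nonempty (↥pairGroup ≃* MulAut ↥Spor.M22) :=
  ⟨MulEquiv.ofBijective pairConj pairConj_bijective⟩

end CfsgLib.JankoFour
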