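import Cfsg.Agent.Lib.JankoFour.ClassesV
import Cfsg.Agent.Lib.JankoFour.PairAut
import Cfsg.Agent.Lib.JankoFourHexad.Points

/-!
# The centralizer of an involution not conjugate to the central one (owner: helper14)

Stated relative to two facts about `V`: the centralizer of a duad element lies in `N(V)` and `V` has a
complement in `N(V)`.
-/

set_option autoImplicit false
set_option linter.unusedSectionVars false

namespace CfsgLib.JankoFour

open Cfsg CfsgLib.Sporadic CfsgLib.Sporadic.Hexad22 CfsgLib.JankoFourHexad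

variable {G : Type*} [Group G] [Finite G]

namespace HexBase

variable {S : Setting G} (B : HexBase S)

/-- The standard representative of the second class. -/
noncomputable def duadRep : G := B.vel (pairCode none (some 0))

theorem duadRep_mem : B.duadRep ∈ B.V := B.vel_mem (pairCode_lt _ _)

/-- An involution not conjugate to `z` is conjugate to the standard representative. -/
theorem isConj_duadRep [IsSimpleGroup G] (hG : ¬ IsMulCommutative G) (hJ : IsOfJankoFourType G) {t : G}
    (ht : orderOf t = 2) (hnc : ¬ IsConj S.z t) : IsConj B.duadRep t := by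
  obtain ⟨-, hD, -⟩ := B.duads_spec hG hJ
  obtain ⟨x, hx, hx1, hc⟩ := B.involution_conj_V hG ht
  obtain ⟨hn, hxn⟩ := B.code_spec hx
  have h0 : B.code x ≠ 0 := fun e => hx1 (by rw [← hxn, e, B.vel_zero])
  have hzc : ¬ B.IsZc (B.code x) := fun h => hnc ((hxn ▸ h : IsConj S.z x).trans hc.symm)
  obtain ⟨a, b, hab, e⟩ := exists_pairCode hn ((hD _ hn).2 ⟨h0, hzc⟩)
  obtain ⟨Φ, hsurj, -, hmov⟩ := B.exists_phi hG hJ
  obtain ⟨π, ha, hb⟩ := exists_map_two (p := (none : GolayPt)) (q := some 0) (by simp) hab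
  obtain ⟨m, hm⟩ := hsurj π
  have h1 := hmov m none (some 0)
  rw [hm, show π.1 none = a from ha, show π.1 (some 0) = b from hb, e] at h1
  have h2 := B.vel_act m.2 (pairCode_lt none (some 0))
  rw [h1, hxn] at h2
  exact (isConj_iff.2 ⟨(m : G), h2.symm⟩).trans hc.symm

/-- The centralizer of the representative, given the two facts. -/
theorem centralizer_duadRep [IsSimpleGroup G] (hG : ¬ IsMulCommutative G) (hJ : IsOfJankoFourType G)
    (hC : Subgroup.centralizer ({B.duadRep} : Set G) ≤ B.NV)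
    {K : Subgroup G} (hK : K ≤ B.NV) (hKV : K ⊓ B.V = ⊥) (hKV' : K ⊔ B.V = B.NV) :
    let C := Subgroup.centralizer ({B.duadRep} : Set G)
    B.V ≤ C ∧ (K ⊓ C) ⊓ B.V = ⊥ ∧ (K ⊓ C) ⊔ B.V = C ∧
      Nonempty (↥(K ⊓ C : Subgroup G) ≃* MulAut ↥Spor.M22) := by
  intro C
  obtain ⟨Φ, hsurj, hker, hmov⟩ := B.exists_phi hG hJ
  have hCiff : ∀ m : ↥B.NV, (m : G) ∈ C ↔ Φ m ∈ pairGroup := fun m => by
    have hne : (none : GolayPt) ≠ some 0 := by simp
    have h1 : (m : G) ∈ C ↔ B.act m (pairCode none (some 0)) = pairCode none (some 0) := by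
      rw [Subgroup.mem_centralizer_singleton_iff]
      constructor
      · intro h
        refine B.act_eq m.2 (pairCode_lt _ _) (pairCode_lt _ _) ?_
        show (m : G) * B.duadRep * (m : G)⁻¹ = B.duadRep
        rw [h, mul_inv_cancel_right]
      · intro h
        have h2 := B.vel_act m.2 (pairCode_lt none (some 0))
        rw [h] at h2
        exact (mul_inv_eq_iff_eq_mul.1 h2.symm)
    rw [h1, hmov m none (some 0), mem_pairGroup]
    constructor
    · intro h
      exact pairCode_eq ((Φ m).1.injective.ne hne) hne h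
    · rintro (⟨u, v⟩ | ⟨u, v⟩)
      · rw [u, v]
      · rw [u, v, pairCode, pairCode, CfsgLib.ThreeTrans.LargeFischer.dv,
          CfsgLib.ThreeTrans.LargeFischer.dv, Nat.xor_comm]
  have hVC : B.V ≤ C := fun v hv =>
    Subgroup.mem_centralizer_singleton_iff.2 (B.commute_V hv B.duadRep_mem).eq
  have hdec : ∀ c ∈ B.NV, ∃ k ∈ K, ∃ v ∈ B.V, c = k * v := by
    intro c hc
    rw [← hKV', ← SetLike.mem_coe, Subgroup.coe_mul_of_left_le_normalizer_right K B.V hK] at hc
    obtain ⟨k, hk, v, hv, e⟩ := hc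
    exact ⟨k, hk, v, hv, e.symm⟩
  refine ⟨hVC, le_bot_iff.1 fun x hx => hKV ▸ ⟨hx.1.1, hx.2⟩, le_antisymm (sup_le inf_le_right hVC) ?_, ?_⟩
  · intro c hc
    obtain ⟨k, hk, v, hv, rfl⟩ := hdec c (hC hc)
    refine mul_mem (Subgroup.mem_sup_left ⟨hk, ?_⟩) (Subgroup.mem_sup_right hv)
    simpa using mul_mem hc (inv_mem (hVC hv))
  · let ψ : ↥(K ⊓ C : Subgroup G) →* ↥pairGroup :=
      ((Φ.comp (Subgroup.inclusion (inf_le_left.trans hK))).codRestrict pairGroup fun k =>
        (hCiff (Subgroup.inclusion (inf_le_left.trans hK) k)).1 k.2.2)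
    have hbij : Function.Bijective ψ := by
      refine ⟨(injective_iff_map_eq_one ψ).2 fun k hk => ?_, fun g => ?_⟩
      · have hv : (k : G) ∈ B.V := (hker _).1 (congrArg Subtype.val hk)
        have h0 : (k : G) ∈ K ⊓ B.V := ⟨k.2.1, hv⟩
        rw [hKV, Subgroup.mem_bot] at h0
        exact Subtype.ext h0
      · obtain ⟨m, hm⟩ := hsurj g.1
        obtain ⟨k, hk, v, hv, e⟩ := hdec m m.2
        have hmC : (m : G) ∈ C := (hCiff m).2 (hm ▸ g.2)
        have hkC : k ∈ C := by simpa [e] using mul_mem hmC (inv_mem (hVC hv))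
        refine ⟨⟨k, hk, hkC⟩, Subtype.ext ?_⟩
        show Φ ⟨k, _⟩ = g.1
        have hm' : m = ⟨k, hK hk⟩ * ⟨v, Subgroup.le_normalizer hv⟩ := Subtype.ext e
        have hv1 : Φ ⟨v, Subgroup.le_normalizer hv⟩ = 1 := (hker ⟨v, Subgroup.le_normalizer hv⟩).2 hv
        rw [← hm, hm', map_mul, hv1, mul_one]
    obtain ⟨E⟩ := nonempty_pairGroup_equiv
    exact ⟨(MulEquiv.ofBijective ψ hbij).trans E⟩

/-- **The centralizer of an involution outside the class of `z`**, given the two facts about `V`. -/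
theorem second_centralizer [IsSimpleGroup G] (hG : ¬ IsMulCommutative G) (hJ : IsOfJankoFourType G)
    (hC : Subgroup.centralizer ({B.duadRep} : Set G) ≤ B.NV)
    {K : Subgroup G} (hK : K ≤ B.NV) (hKV : K ⊓ B.V = ⊥) (hKV' : K ⊔ B.V = B.NV)
    {t : G} (ht : orderOf t = 2) (hnc : ¬ IsConj S.z t) :
    ∃ V K' : Subgroup G, V ≤ Subgroup.centralizer ({t} : Set G) ∧ K' ≤ Subgroup.centralizer ({t} : Set G) ∧
      Subgroup.centralizer ({t} : Set G) ≤ Subgroup.normalizer (V : Set G) ∧ IsElementaryAbelian 2 V ∧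
      Nat.card ↥V = 2 ^ 11 ∧ K' ⊓ V = ⊥ ∧ K' ⊔ V = Subgroup.centralizer ({t} : Set G) ∧
      Nonempty (↥K' ≃* MulAut ↥Spor.M22) := by
  obtain ⟨g, hg⟩ := isConj_iff.1 (B.isConj_duadRep hG hJ ht hnc)
  obtain ⟨hVC, hb, hs, ⟨e⟩⟩ := B.centralizer_duadRep hG hJ hC hK hKV hKV'
  set f : G →* G := (MulAut.conj g).toMonoidHom with hf
  have hinj : Function.Injective f := (MulAut.conj g).injective
  have hmapC : (Subgroup.centralizer ({B.duadRep} : Set G)).map f = Subgroup.centralizer ({t} : Set G) := by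
    ext x
    rw [Subgroup.mem_map, Subgroup.mem_centralizer_singleton_iff, ← hg]
    constructor
    · rintro ⟨y, hy, rfl⟩
      rw [Subgroup.mem_centralizer_singleton_iff] at hy
      show g * y * g⁻¹ * (g * B.duadRep * g⁻¹) = g * B.duadRep * g⁻¹ * (g * y * g⁻¹)
      calc g * y * g⁻¹ * (g * B.duadRep * g⁻¹) = g * (y * B.duadRep) * g⁻¹ := by group
        _ = _ := by rw [hy]; group
    · intro h
      refine ⟨g⁻¹ * x * g, Subgroup.mem_centralizer_singleton_iff.2 ?_, ?_⟩
      · calc g⁻¹ * x * g * B.duadRep = g⁻¹ * (x * (g * B.duadRep * g⁻¹)) * g := by group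
          _ = _ := by rw [h]; group
      · show g * (g⁻¹ * x * g) * g⁻¹ = x
        group
  refine ⟨B.V.map f, (K ⊓ Subgroup.centralizer ({B.duadRep} : Set G)).map f, ?_, ?_, ?_,
    elementary_map B.V_elementary g, ?_, ?_, ?_, ⟨(Subgroup.equivMapOfInjective _ f hinj).symm.trans e⟩⟩
  · rw [← hmapC]; exact Subgroup.map_mono hVC
  · rw [← hmapC]; exact Subgroup.map_mono inf_le_right
  · rw [← hmapC, hf]
    exact (Subgroup.map_mono hC).trans (Subgroup.le_normalizer_map _)
  · rw [Subgroup.card_map_of_injective hinj, B.card_V]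
  · rw [← Subgroup.map_inf _ _ _ hinj, hb, Subgroup.map_bot]
  · rw [← Subgroup.map_sup, hs, hmapC]

end HexBase

end CfsgLib.JankoFour
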