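import Cfsg.Agent.Lib.JankoFour.DuadLocal
import Cfsg.Agent.Lib.JankoFour.SecondCentralizer
import Cfsg.Agent.Lib.JankoFour.PointFixerRank
import Cfsg.Agent.Lib.JankoFourHexad.Invol

/-!
# The conjugates of `V` through a duad: no conjugate of `z` in one normalizes another (owner: helper14)
-/

set_option autoImplicit false
set_option linter.unusedSectionVars false
set_option maxRecDepth 100000

namespace CfsgLib.JankoFour

open Cfsg CfsgLib.ThreeTrans
open CfsgLib.JankoFourHexad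
open CfsgLib.Sporadic (forallLt forallLt_elim forallLt_iff)

/-- A subgroup containing all quotients of two elements outside it has index at most two. -/
theorem card_le_two_mul {H : Type*} [Group H] [Finite H] (K : Subgroup H)
    (h : ∀ a b, a ∉ K → b ∉ K → a⁻¹ * b ∈ K) : Nat.card H ≤ 2 * Nat.card K := by
  classical
  by_cases hall : ∀ a, a ∈ K
  · rw [(Subgroup.eq_top_iff' K).2 hall, Subgroup.card_top]; omega
  obtain ⟨a, ha⟩ := not_forall.1 hall
  let f : Bool × ↥K → H := fun x => (if x.1 then a else 1) * x.2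
  have hf : Function.Surjective f := fun b => by
    by_cases hb : b ∈ K
    · exact ⟨(false, ⟨b, hb⟩), by simp [f]⟩
    · exact ⟨(true, ⟨a⁻¹ * b, h a b ha hb⟩), by simp [f]⟩
  refine (Nat.card_le_card_of_surjective f hf).trans ?_
  rw [Nat.card_prod]
  simp

theorem exists_of_forallLt_not {n : ℕ} {f : ℕ → Bool} (h : (!forallLt n fun k => !f k) = true) :
    ∃ k < n, f k = true := by
  by_contra hne
  push Not at hne
  rw [(forallLt_iff n _).2 fun k hk => by simpa using hne k hk] at h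
  exact Bool.noConfusion h

variable {G : Type*} [Group G] [Finite G]

/-- The fixed points of an involution on an elementary abelian group. -/
theorem sq_le_fixed {W : Subgroup G} (hW : IsElementaryAbelian 2 W) {u : G}
    (hu : u ∈ Subgroup.normalizer (W : Set G)) (hu2 : u * u = 1) :
    Nat.card W ≤ Nat.card ↥(W ⊓ Subgroup.centralizer ({u} : Set G)) ^ 2 := by
  have hc : ∀ {x y}, x ∈ W → y ∈ W → Commute x y := fun {x y} hx hy =>
    congrArg Subtype.val (hW.1.1.1 ⟨x, hx⟩ ⟨y, hy⟩)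
  have hui : u⁻¹ = u := inv_eq_of_mul_eq_one_right hu2
  have hm : ∀ {x}, x ∈ W → u * x * u⁻¹ ∈ W := fun {x} hx => (Subgroup.mem_normalizer_iff.1 hu x).1 hx
  let f : ↥W →* ↥W := MonoidHom.mk' (fun x => ⟨x * (u * x * u⁻¹), mul_mem x.2 (hm x.2)⟩) fun x y =>
    Subtype.ext (by
      show (x : G) * y * (u * (x * y) * u⁻¹) = x * (u * x * u⁻¹) * (y * (u * y * u⁻¹))
      rw [show u * ((x : G) * y) * u⁻¹ = (u * x * u⁻¹) * (u * y * u⁻¹) by group, mul_assoc (x : G),
        ← mul_assoc (y : G), (hc y.2 (hm x.2)).eq]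
      group)
  set F := W ⊓ Subgroup.centralizer ({u} : Set G)
  have hF : ∀ {y : G}, y ∈ W → u * y * u⁻¹ = y → y ∈ F := fun {y} hy e =>
    ⟨hy, Subgroup.mem_centralizer_singleton_iff.2 (mul_inv_eq_iff_eq_mul.1 e).symm⟩
  have hker : Nat.card f.ker ≤ Nat.card F := by
    refine Nat.card_le_card_of_injective (fun x => ⟨x.1.1, hF x.1.2 ?_⟩) fun a b e =>
      Subtype.ext (Subtype.ext (Subtype.mk.inj e))
    have h1 : (x.1 : G) * (u * x.1 * u⁻¹) = 1 := congrArg Subtype.val x.2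
    rw [← inv_eq_of_mul_eq_one_right h1]
    exact inv_eq_of_mul_eq_one_right (by rw [← pow_two]; exact hW.2 _ x.1.2)
  have hrange : Nat.card f.range ≤ Nat.card F := by
    refine Nat.card_le_card_of_injective (fun x => ⟨x.1.1, hF x.1.2 ?_⟩) fun a b e =>
      Subtype.ext (Subtype.ext (Subtype.mk.inj e))
    obtain ⟨y, hy⟩ := x.2
    rw [← hy]
    show u * ((y : G) * (u * y * u⁻¹)) * u⁻¹ = y * (u * y * u⁻¹)
    rw [show u * ((y : G) * (u * y * u⁻¹)) * u⁻¹ = (u * y * u⁻¹) * ((u * u) * y * (u * u)⁻¹) by group, hu2]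
    simpa using (hc (hm y.2) y.2).eq
  rw [Subgroup.card_eq_card_quotient_mul_card_subgroup f.ker,
    Nat.card_congr (QuotientGroup.quotientKerEquivRange f).toEquiv, pow_two]
  exact Nat.mul_le_mul hrange hker

theorem mem_normalizer_map_conj {V : Subgroup G} {c g : G} :
    g ∈ Subgroup.normalizer ((V.map (MulAut.conj c).toMonoidHom : Subgroup G) : Set G) ↔
      c⁻¹ * g * c ∈ Subgroup.normalizer (V : Set G) := by
  rw [← Subgroup.map_equiv_normalizer_eq V (MulAut.conj c), Subgroup.mem_map]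
  constructor
  · rintro ⟨y, hy, rfl⟩
    show c⁻¹ * (c * y * c⁻¹) * c ∈ _
    rwa [show c⁻¹ * (c * y * c⁻¹) * c = y by group]
  · exact fun h => ⟨_, h, by show c * (c⁻¹ * g * c) * c⁻¹ = g; group⟩

theorem mem_map_conj {V : Subgroup G} {c g : G} :
    g ∈ V.map (MulAut.conj c).toMonoidHom ↔ c⁻¹ * g * c ∈ V := by
  rw [Subgroup.mem_map]
  constructor
  · rintro ⟨y, hy, rfl⟩
    show c⁻¹ * (c * y * c⁻¹) * c ∈ _
    rwa [show c⁻¹ * (c * y * c⁻¹) * c = y by group]
  · exact fun h => ⟨_, h, by show c * (c⁻¹ * g * c) * c⁻¹ = g; group⟩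

namespace HexBase

variable {S : Setting G} (B : HexBase S)

/-- An elementary abelian subgroup of order `2 ^ 11` containing the standard duad. -/
def Member (W : Subgroup G) : Prop := IsElementaryAbelian 2 W ∧ Nat.card W = 2 ^ 11 ∧ B.duadRep ∈ W

theorem member_V : B.Member B.V := ⟨B.V_elementary, B.card_V, B.duadRep_mem⟩

theorem member_map {W : Subgroup G} (hW : B.Member W) {c : G} (hc : Commute c B.duadRep) :
    B.Member (W.map (MulAut.conj c).toMonoidHom) :=
  ⟨elementary_map hW.1 c, by rw [Subgroup.card_map_of_injective (MulAut.conj c).injective, hW.2.1],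
    ⟨_, hW.2.2, by show c * B.duadRep * c⁻¹ = _; rw [hc.eq, mul_inv_cancel_right]⟩⟩

theorem member_commute {W : Subgroup G} (hW : B.Member W) {x : G} (hx : x ∈ W) : Commute x B.duadRep :=
  congrArg Subtype.val (hW.1.1.1.1 ⟨x, hx⟩ ⟨_, hW.2.2⟩)

theorem member_eq_map (hJ : IsOfJankoFourType G) {W : Subgroup G} (hW : B.Member W) :
    ∃ c, Commute c B.duadRep ∧ B.V.map (MulAut.conj c).toMonoidHom = W := by
  obtain ⟨c, hc, e⟩ := conj_in hJ B.V_elementary B.card_V hW.1 hW.2.1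
    (K := Subgroup.centralizer ({B.duadRep} : Set G))
    (fun x hx => Subgroup.mem_centralizer_singleton_iff.2 (B.member_commute B.member_V hx).eq)
    (fun x hx => Subgroup.mem_centralizer_singleton_iff.2 (B.member_commute hW hx).eq)
  exact ⟨c, Subgroup.mem_centralizer_singleton_iff.1 hc, e⟩

theorem duadRep_facts [IsSimpleGroup G] (hG : ¬ IsMulCommutative G) (hJ : IsOfJankoFourType G) :
    B.duadRep ≠ 1 ∧ ¬ IsConj S.z B.duadRep := by
  obtain ⟨-, hD, -⟩ := B.duads_spec hG hJ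
  obtain ⟨h0, hz⟩ := (hD _ (pairCode_lt _ _)).1 (pairCode_duad (x := (none : GolayPt)) (y := some 0) (by simp))
  exact ⟨fun e => h0 (B.vel_eq_one (pairCode_lt _ _) e), hz⟩

theorem t0_code : t0Code = pairCode (none : GolayPt) (some 0) := rfl

theorem zBit_iff [IsSimpleGroup G] (hG : ¬ IsMulCommutative G) (hJ : IsOfJankoFourType G) {n : ℕ}
    (hn : n < 2048) : zBit n = true ↔ IsConj S.z (B.vel n) := by
  obtain ⟨-, hD, -⟩ := B.duads_spec hG hJ
  rw [zBit, Bool.and_eq_true, Bool.not_eq_true', Bool.not_eq_true']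
  constructor
  · rintro ⟨h0, hd⟩
    by_contra hz
    rw [(hD n hn).2 ⟨fun e => by rw [e] at h0; simp at h0, hz⟩] at hd
    exact Bool.noConfusion hd
  · intro hz
    refine ⟨Bool.eq_false_iff.2 fun h => B.isZc_zero (Nat.eq_of_beq_eq_true h ▸ hz),
      Bool.eq_false_iff.2 fun h => ((hD n hn).1 h).2 hz⟩

/-- A subgroup of `V` through the duad without conjugates of `z` lies among four codes. -/
theorem no_z_codes [IsSimpleGroup G] (hG : ¬ IsMulCommutative G) (hJ : IsOfJankoFourType G) {A : Subgroup G}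
    (hA : A ≤ B.V) (ht : B.duadRep ∈ A) (hz : ∀ x ∈ A, ¬ IsConj S.z x) :
    ∃ n < 2048, dMask.testBit n = true ∧ dMask.testBit (Nat.xor n t0Code) = true ∧
      ∀ x ∈ A, B.code x = 0 ∨ B.code x = t0Code ∨ B.code x = n ∨ B.code x = Nat.xor n t0Code := by
  obtain ⟨-, hD, -⟩ := B.duads_spec hG hJ
  have ht0 : t0Code < 2048 := by rw [t0_code]; exact pairCode_lt _ _
  have hmem : ∀ {a b}, a < 2048 → b < 2048 → B.vel a ∈ A → B.vel b ∈ A → B.vel (Nat.xor a b) ∈ A :=
    fun {a b} _ _ h1 h2 => B.vel_xor a b ▸ mul_mem h1 h2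
  have hd : ∀ {a}, a < 2048 → a ≠ 0 → B.vel a ∈ A → dMask.testBit a = true := fun {a} ha h0 h =>
    (hD a ha).2 ⟨h0, hz _ h⟩
  have htA : B.vel t0Code ∈ A := by rw [t0_code]; exact ht
  by_cases hex : ∃ x ∈ A, B.code x ≠ 0 ∧ B.code x ≠ t0Code
  · obtain ⟨x, hx, h0, h1⟩ := hex
    obtain ⟨hn, hxn⟩ := B.code_spec (hA hx)
    set n := B.code x
    have hnA : B.vel n ∈ A := hxn.symm ▸ hx
    have hn0 : Nat.xor n t0Code < 2048 := Nat.xor_lt_two_pow (n := 11) hn ht0
    refine ⟨n, hn, hd hn h0 hnA, hd hn0 (fun e => h1 (Nat.xor_eq_zero_iff.1 e)) (hmem hn ht0 hnA htA), fun y hy => ?_⟩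
    by_contra hne
    push Not at hne
    obtain ⟨a0, a1, a2, a3⟩ := hne
    obtain ⟨hm, hym⟩ := B.code_spec (hA hy)
    set m := B.code y
    have hmA : B.vel m ∈ A := hym.symm ▸ hy
    have hchk := forallLt_elim duad_span hn
    rw [hd hn h0 hnA, hd hn0 (fun e => h1 (Nat.xor_eq_zero_iff.1 e)) (hmem hn ht0 hnA htA)] at hchk
    simp only [Bool.and_self, Bool.not_true, Bool.false_or] at hchk
    have hk := forallLt_elim hchk hm
    have hn0A := hmem hn ht0 hnA htA
    have f1 : dMask.testBit (Nat.xor m t0Code) = true :=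
      hd (Nat.xor_lt_two_pow (n := 11) hm ht0) (fun e => a1 (Nat.xor_eq_zero_iff.1 e)) (hmem hm ht0 hmA htA)
    have f2 : dMask.testBit (Nat.xor m n) = true :=
      hd (Nat.xor_lt_two_pow (n := 11) hm hn) (fun e => a2 (Nat.xor_eq_zero_iff.1 e)) (hmem hm hn hmA hnA)
    have f3 : dMask.testBit (Nat.xor m (Nat.xor n t0Code)) = true :=
      hd (Nat.xor_lt_two_pow (n := 11) hm hn0) (fun e => a3 (Nat.xor_eq_zero_iff.1 e)) (hmem hm hn0 hmA hn0A)
    rw [hd hm a0 hmA, f1, f2, f3] at hk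
    exact Bool.noConfusion hk
  · obtain ⟨n, hn, hb⟩ := exists_of_forallLt_not overlap_exists
    rw [Bool.and_eq_true] at hb
    push Not at hex
    exact ⟨n, hn, hb.1, hb.2, fun x hx => by
      by_cases h0 : B.code x = 0
      · exact Or.inl h0
      · exact Or.inr (Or.inl (hex x hx h0))⟩

theorem no_z_card_V [IsSimpleGroup G] (hG : ¬ IsMulCommutative G) (hJ : IsOfJankoFourType G) {A : Subgroup G}
    (hA : A ≤ B.V) (ht : B.duadRep ∈ A) (hz : ∀ x ∈ A, ¬ IsConj S.z x) : Nat.card A ≤ 4 := by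
  classical
  obtain ⟨n, -, -, -, h⟩ := B.no_z_codes hG hJ hA ht hz
  set T : Finset ℕ := {0, t0Code, n, Nat.xor n t0Code}
  have hT : ∀ x : ↥A, B.code (x : G) ∈ T := fun x => by
    simp only [T, Finset.mem_insert, Finset.mem_singleton]
    exact h x x.2
  refine (Nat.card_le_card_of_injective (fun x : ↥A => (⟨_, hT x⟩ : ↥T)) fun a b e => ?_).trans ?_
  · refine Subtype.ext ?_
    have e' : B.code (a : G) = B.code (b : G) := congrArg Subtype.val e
    rw [← (B.code_spec (hA a.2)).2, ← (B.code_spec (hA b.2)).2, e']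
  · rw [Nat.card_eq_finsetCard]
    exact (Finset.card_insert_le _ _).trans (Nat.succ_le_succ ((Finset.card_insert_le _ _).trans
      (Nat.succ_le_succ ((Finset.card_insert_le _ _).trans (by simp)))))

/-- A conjugate of `z` lies in only one member. -/
theorem member_unique [IsSimpleGroup G] (hG : ¬ IsMulCommutative G) (hJ : IsOfJankoFourType G)
    {W1 W2 : Subgroup G} (h1 : B.Member W1) (h2 : B.Member W2) {u : G} (hu1 : u ∈ W1) (hu2 : u ∈ W2)
    (hz : IsConj S.z u) : W1 = W2 := by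
  obtain ⟨c, hc, rfl⟩ := B.member_eq_map hJ h1
  have hci : Commute c⁻¹ B.duadRep := hc.inv_left
  set W := W2.map (MulAut.conj c⁻¹).toMonoidHom with hWdef
  have hW : B.Member W := B.member_map h2 hci
  have hu1' : c⁻¹ * u * c ∈ B.V := mem_map_conj.1 hu1
  have hu2' : c⁻¹ * u * c ∈ W := mem_map_conj.2 (by
    rw [show c⁻¹⁻¹ * (c⁻¹ * u * c) * c⁻¹ = u by group]; exact hu2)
  have hz' : IsConj S.z (c⁻¹ * u * c) := hz.trans (isConj_iff.2 ⟨c⁻¹, by rw [inv_inv]⟩)
  obtain ⟨hne, hnz⟩ := B.duadRep_facts hG hJ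
  obtain ⟨k, hk, e⟩ := conj_in hJ B.V_elementary B.card_V hW.1 hW.2.1 (K := B.NV) Subgroup.le_normalizer
    (fun x hx => B.centralizer_pair_le hG hJ hu1' hz' B.duadRep_mem hne hnz x
      (congrArg Subtype.val (hW.1.1.1.1 ⟨x, hx⟩ ⟨_, hu2'⟩)) (B.member_commute hW hx))
  have hVW : B.V = W := by
    refine Eq.trans ?_ e
    ext x
    rw [mem_map_conj]
    have h := Subgroup.mem_normalizer_iff.1 (inv_mem hk) x
    rwa [inv_inv] at h
  rw [hVW, hWdef, Subgroup.map_map]
  ext x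
  constructor
  · rintro ⟨y, hy, rfl⟩
    show c * (c⁻¹ * y * c⁻¹⁻¹) * c⁻¹ ∈ W2
    rwa [show c * (c⁻¹ * y * c⁻¹⁻¹) * c⁻¹ = y by group]
  · exact fun hx => ⟨x, hx, by show c * (c⁻¹ * x * c⁻¹⁻¹) * c⁻¹ = x; group⟩

/-- A subgroup of a member through the duad without conjugates of `z` has at most four elements. -/
theorem no_z_card [IsSimpleGroup G] (hG : ¬ IsMulCommutative G) (hJ : IsOfJankoFourType G) {W A : Subgroup G}
    (hW : B.Member W) (hA : A ≤ W) (ht : B.duadRep ∈ A) (hz : ∀ x ∈ A, ¬ IsConj S.z x) : Nat.card A ≤ 4 := by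
  obtain ⟨c, hc, rfl⟩ := B.member_eq_map hJ hW
  have hinj : Function.Injective (MulAut.conj c⁻¹).toMonoidHom := (MulAut.conj c⁻¹).injective
  rw [← Subgroup.card_map_of_injective (K := A) hinj]
  refine B.no_z_card_V hG hJ (A := A.map (MulAut.conj c⁻¹).toMonoidHom) ?_
    ⟨_, ht, by show c⁻¹ * B.duadRep * c⁻¹⁻¹ = _; rw [hc.inv_left.eq, mul_inv_cancel_right]⟩ ?_
  · rintro _ ⟨x, hx, rfl⟩
    show c⁻¹ * x * c⁻¹⁻¹ ∈ B.V
    rw [inv_inv]
    exact mem_map_conj.1 (hA hx)
  · rintro _ ⟨x, hx, rfl⟩ h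
    exact hz x hx (h.trans (isConj_iff.2 ⟨c, by show c * (c⁻¹ * x * c⁻¹⁻¹) * c⁻¹ = x; group⟩))

/-- An element centralizing a pair of points in codes permutes them. -/
theorem pair_fixed {m : ↥B.NV} {σ : Equiv.Perm GolayPt} (hm : B.Moves24 (m : G) σ) {a b : GolayPt}
    (hab : a ≠ b) (h : Commute (m : G) (B.vel (pairCode a b))) :
    (σ a = a ∧ σ b = b) ∨ (σ a = b ∧ σ b = a) := by
  refine pairCode_eq (σ.injective.ne hab) hab ?_
  rw [← hm a b]
  refine B.act_eq m.2 (pairCode_lt _ _) (pairCode_lt _ _) ?_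
  rw [h.eq, mul_inv_cancel_right]

/-- The fixed space of an involution with a fixed point. -/
theorem fixed_large [IsSimpleGroup G] (hG : ¬ IsMulCommutative G) (hJ : IsOfJankoFourType G) {x : G}
    (hx : x ∈ B.NV) (hx2 : x * x = 1) (hxV : x ∉ B.V) {σ : Equiv.Perm GolayPt} (hmx : B.Moves24 x σ)
    {p : GolayPt} (hp : σ p = p) : 128 ≤ Nat.card ↥(B.V ⊓ Subgroup.centralizer ({x} : Set G)) := by
  classical
  obtain ⟨Φ, hΦ, hker, hmov⟩ := B.exists_phi hG hJ
  obtain ⟨h8, -, hfix, -, n8, -⟩ := pt_aut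
  obtain ⟨r8, -, hr8⟩ := CfsgLib.Sporadic.exists_mem_M24 h8
  have hw : (1 : ℕ) < 64 := by norm_num
  have hwN : B.W 1 ∈ B.NV := B.actsV_norm (B.t_actsV hw)
  have e8 := B.moves24_of_table hw hr8 fun i hi j hj => by
    have := forallLt_elim (forallLt_elim pt_moves hi) hj
    rw [Bool.and_eq_true] at this
    exact Nat.eq_of_beq_eq_true this.1
  have hΦw : ((Φ ⟨_, hwN⟩ : ↥M24) : Equiv.Perm GolayPt) = r8 := B.moves24_unique (hmov ⟨_, hwN⟩) e8
  have hΦx : ((Φ ⟨x, hx⟩ : ↥M24) : Equiv.Perm GolayPt) = σ := B.moves24_unique (hmov ⟨x, hx⟩) hmx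
  have hne : Φ ⟨_, hwN⟩ ≠ 1 := fun h => by
    rw [(CfsgLib.ThreeTrans.M24Inv.peq_iff hr8 CfsgLib.Sporadic.Rep.one).2
      (hΦw.symm.trans (by rw [h]; rfl))] at n8
    exact Bool.noConfusion n8
  have hord : ∀ {m : ↥B.NV}, (m : G) * m = 1 → Φ m ≠ 1 → orderOf ((Φ m : ↥M24) : Equiv.Perm GolayPt) = 2 := by
    intro m hm h1
    refine orderOf_eq_prime ?_ fun e => h1 (Subtype.ext e)
    rw [pow_two, ← Subgroup.coe_mul, ← map_mul, show m * m = 1 from Subtype.ext hm, map_one]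
    rfl
  have h22 : r8 (CfsgLib.Sporadic.pt 22) = CfsgLib.Sporadic.pt 22 := by
    have h := hr8 (CfsgLib.Sporadic.pt 22)
    rw [CfsgLib.Sporadic.ix_pt (by norm_num), hfix] at h
    rw [← CfsgLib.Sporadic.pt_ix (r8 (CfsgLib.Sporadic.pt 22)), ← h]
  obtain ⟨-, -, -, hconj⟩ := CfsgLib.ThreeTrans.M24Inv.main
  obtain ⟨k, hk, e⟩ := hconj _ (Φ ⟨_, hwN⟩).2 _ (Φ ⟨x, hx⟩).2 (hord (m := ⟨_, hwN⟩) (B.W_sq 1) hne)
    (hord (m := ⟨x, hx⟩) hx2 fun h => hxV ((hker ⟨x, hx⟩).1 h))
    (iff_of_false (fun h => h _ (by rw [hΦw]; exact h22)) fun h => h p (by rw [hΦx]; exact hp))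
  obtain ⟨m, hm⟩ := hΦ ⟨k, hk⟩
  set y : ↥B.NV := m * ⟨_, hwN⟩ * m⁻¹
  have hy : Φ y = Φ ⟨x, hx⟩ := Subtype.ext (by
    simp only [y, map_mul, map_inv, hm, Subgroup.coe_mul, Subgroup.coe_inv]
    exact e)
  have hv : (y : G)⁻¹ * x ∈ B.V := (hker (y⁻¹ * ⟨x, hx⟩)).1 (by rw [map_mul, map_inv, hy, inv_mul_cancel])
  set F := (Finset.range 2048).filter fun n => Nat.beq (tMap 1 n) n = true
  have hF : 128 ≤ F.card := by
    have h := fixed_one
    rwa [CfsgLib.Sporadic.countLt_eq, Nat.ble_eq] at h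
  have hmem : ∀ n : ↥F, (m : G) * B.vel n.1 * (m : G)⁻¹ ∈ B.V ⊓ Subgroup.centralizer ({x} : Set G) := by
    rintro ⟨n, hn⟩
    obtain ⟨hn1, hn2⟩ := Finset.mem_filter.1 hn
    rw [Finset.mem_range] at hn1
    have hV : (m : G) * B.vel n * (m : G)⁻¹ ∈ B.V := B.conj_mem m.2 (B.vel_mem hn1)
    have hc : Commute (B.W 1) (B.vel n) := by
      have h1 := ((B.t_actsV hw).2 n hn1).2
      beta_reduce at h1
      rw [show xfold (fun j => vT 1 (2 ^ j)) n 11 = n from Nat.eq_of_beq_eq_true hn2] at h1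
      exact mul_inv_eq_iff_eq_mul.1 h1
    have hcy : Commute ((m : G) * B.vel n * (m : G)⁻¹) (y : G) := by
      show Commute _ ((m : G) * B.W 1 * (m : G)⁻¹)
      exact LargeData.commute_conj_iff'.2 hc.symm
    refine ⟨hV, Subgroup.mem_centralizer_singleton_iff.2 ?_⟩
    have := hcy.mul_right (B.commute_V hV hv)
    rw [mul_inv_cancel_left] at this
    exact this.eq
  refine hF.trans ?_
  rw [← Nat.card_eq_finsetCard]
  refine Nat.card_le_card_of_injective (fun n => ⟨_, hmem n⟩) fun a b e => Subtype.ext ?_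
  have e' := mul_left_cancel (mul_right_cancel (congrArg Subtype.val e))
  exact B.vel_inj (Finset.mem_range.1 (Finset.mem_filter.1 a.2).1) (Finset.mem_range.1 (Finset.mem_filter.1 b.2).1) e'

/-- The part of another member normalizing `V`, with its action on the points. -/
theorem bound_V [IsSimpleGroup G] (hG : ¬ IsMulCommutative G) (hJ : IsOfJankoFourType G) {W : Subgroup G}
    (hW : B.Member W) (hne : W ≠ B.V) : Nat.card ↥(W ⊓ B.NV) ≤ 64 := by
  classical
  obtain ⟨Φ, -, hker, hmov⟩ := B.exists_phi hG hJ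
  set A := W ⊓ B.NV
  let ψ : ↥A →* Equiv.Perm GolayPt := (M24.subtype).comp (Φ.comp (Subgroup.inclusion inf_le_right))
  set D := A ⊓ B.V
  have hc : ∀ (a : ↥A) {d : G}, d ∈ W → Commute (a : G) d := fun a {d} hd =>
    congrArg Subtype.val (hW.1.1.1.1 ⟨a, a.2.1⟩ ⟨d, hd⟩)
  have hDz : ∀ x ∈ D, ¬ IsConj S.z x := fun x hx h =>
    hne (B.member_unique hG hJ hW B.member_V hx.1.1 hx.2 h)
  have htD : B.duadRep ∈ D := ⟨⟨hW.2.2, Subgroup.le_normalizer B.duadRep_mem⟩, B.duadRep_mem⟩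
  have hD4 := B.no_z_card_V hG hJ (A := D) inf_le_right htD hDz
  have hk : ψ.ker = D.subgroupOf A := by
    ext a
    rw [MonoidHom.mem_ker, Subgroup.mem_subgroupOf, Subgroup.mem_inf]
    constructor
    · intro h
      exact ⟨a.2, (hker (Subgroup.inclusion inf_le_right a)).1 (Subtype.ext h)⟩
    · intro h
      exact congrArg Subtype.val ((hker (Subgroup.inclusion inf_le_right a)).2 h.2)
  have hcard : Nat.card A = Nat.card ψ.range * Nat.card D := by
    rw [Subgroup.card_eq_card_quotient_mul_card_subgroup ψ.ker,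
      Nat.card_congr (QuotientGroup.quotientKerEquivRange ψ).toEquiv, hk,
      Nat.card_congr (Subgroup.subgroupOfEquivOfLe (inf_le_left : D ≤ A)).toEquiv]
  have hR : ψ.range ≤ M24 := by rintro _ ⟨a, rfl⟩; exact (Φ _).2
  have h2 : ∀ g ∈ ψ.range, g * g = 1 := by
    rintro _ ⟨a, rfl⟩
    rw [← map_mul, show a * a = 1 from Subtype.ext (by
      show (a : G) * a = 1
      rw [← pow_two]; exact hW.1.2 _ a.2.1), map_one]
  have hpair : ∀ a : ↥A, (ψ a none = none ∧ ψ a (some 0) = some 0) ∨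
      (ψ a none = some 0 ∧ ψ a (some 0) = none) := fun a =>
    B.pair_fixed (hmov (Subgroup.inclusion inf_le_right a)) (by simp) (hc a hW.2.2)
  by_cases hex : ∃ x ∈ D, B.code x ≠ 0 ∧ B.code x ≠ t0Code
  · obtain ⟨x, hx, h0, h1⟩ := hex
    obtain ⟨hn, hxn⟩ := B.code_spec hx.2
    obtain ⟨-, hD, -⟩ := B.duads_spec hG hJ
    have hnd : dMask.testBit (B.code x) = true := (hD _ hn).2 ⟨h0, fun h => hDz x hx (hxn ▸ h)⟩
    obtain ⟨a, b, hab, e⟩ := exists_pairCode hn hnd
    have hnt : dMask.testBit (Nat.xor (B.code x) t0Code) = true := by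
      have hlt : Nat.xor (B.code x) t0Code < 2048 := Nat.xor_lt_two_pow (n := 11) hn (pairCode_lt _ _)
      refine (hD _ hlt).2 ⟨fun e => h1 (Nat.xor_eq_zero_iff.1 e), fun h => hDz (x * B.duadRep) (mul_mem hx htD) ?_⟩
      rw [← hxn, duadRep, ← t0_code, B.vel_xor]
      exact h
    have hq : ∀ a' : ↥A, (ψ a' a = a ∧ ψ a' b = b) ∨ (ψ a' a = b ∧ ψ a' b = a) := fun a' =>
      B.pair_fixed (hmov (Subgroup.inclusion inf_le_right a')) hab (by rw [e, hxn]; exact hc a' hx.1.1)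
    have hnone : (none : GolayPt) ≠ some 0 := by simp
    have hab0 : ¬ ((a = none ∧ b = some 0) ∨ (a = some 0 ∧ b = none)) := by
      rintro (⟨rfl, rfl⟩ | ⟨rfl, rfl⟩)
      · exact h1 e.symm
      · refine h1 (e.symm.trans ?_)
        rw [t0_code, pairCode, pairCode, LargeFischer.dv, LargeFischer.dv, Nat.xor_comm]
    have hov : a = none ∨ b = none ∨ a = some 0 ∨ b = some 0 := by
      have hb := forallLt_elim (forallLt_elim duad_overlap (CfsgLib.Sporadic.ix_lt a)) (CfsgLib.Sporadic.ix_lt b)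
      have hij : Nat.beq (CfsgLib.Sporadic.ix a) (CfsgLib.Sporadic.ix b) = false :=
        Bool.eq_false_iff.2 fun h => hab (by
          rw [← CfsgLib.Sporadic.pt_ix a, Nat.eq_of_beq_eq_true h, CfsgLib.Sporadic.pt_ix])
      rw [show lamI (Nat.xor (LargeFischer.vI (CfsgLib.Sporadic.ix a)) (LargeFischer.vI (CfsgLib.Sporadic.ix b))) =
        B.code x from e, hij, hnt] at hb
      simp only [Bool.not_true, Bool.false_or, Bool.or_eq_true] at hb
      have hinj : ∀ {p q : GolayPt}, Nat.beq (CfsgLib.Sporadic.ix p) (CfsgLib.Sporadic.ix q) = true → p = q :=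
        fun {p q} h => by rw [← CfsgLib.Sporadic.pt_ix p, Nat.eq_of_beq_eq_true h, CfsgLib.Sporadic.pt_ix]
      rcases hb with ((h | h) | h) | h
      · exact Or.inl (hinj h)
      · exact Or.inr (Or.inl (hinj h))
      · exact Or.inr (Or.inr (Or.inl (hinj h)))
      · exact Or.inr (Or.inr (Or.inr (hinj h)))
    obtain ⟨p, hp⟩ : ∃ p, ∀ g ∈ ψ.range, g p = p := by
      by_cases hn' : a = none ∨ b = none
      · refine ⟨none, ?_⟩
        rintro _ ⟨a', rfl⟩
        rcases hpair a' with ⟨u, -⟩ | ⟨u, -⟩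
        · exact u
        · exfalso
          rcases hn' with rfl | rfl <;> rcases hq a' with ⟨v, w⟩ | ⟨v, w⟩
          · exact hnone (v.symm.trans u)
          · exact hab0 (Or.inl ⟨rfl, v.symm.trans u⟩)
          · exact hnone (w.symm.trans u)
          · exact hab0 (Or.inr ⟨w.symm.trans u, rfl⟩)
      · push Not at hn'
        refine ⟨some 0, ?_⟩
        rintro _ ⟨a', rfl⟩
        rcases hpair a' with ⟨-, u⟩ | ⟨-, u⟩
        · exact u
        · exfalso
          rcases hov with h | h | rfl | rfl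
          · exact hn'.1 h
          · exact hn'.2 h
          · rcases hq a' with ⟨v, -⟩ | ⟨v, -⟩
            · exact hnone (u.symm.trans v)
            · exact hn'.2 (v.symm.trans u)
          · rcases hq a' with ⟨-, v⟩ | ⟨-, v⟩
            · exact hnone (u.symm.trans v)
            · exact hn'.1 (v.symm.trans u)
    have h16 := card_le_sixteen hR h2 hp
    rw [hcard]
    calc _ ≤ 16 * 4 := Nat.mul_le_mul h16 hD4
      _ = 64 := by norm_num
  · push Not at hex
    have hD2 : Nat.card D ≤ 2 := by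
      let T : Finset ℕ := {0, t0Code}
      have hT : ∀ x : ↥D, B.code (x : G) ∈ T := fun x => by
        simp only [T, Finset.mem_insert, Finset.mem_singleton]
        by_cases h0 : B.code (x : G) = 0
        · exact Or.inl h0
        · exact Or.inr (hex x x.2 h0)
      refine (Nat.card_le_card_of_injective (fun x : ↥D => (⟨_, hT x⟩ : ↥T)) fun a b e => ?_).trans ?_
      · refine Subtype.ext ?_
        have e' : B.code (a : G) = B.code (b : G) := congrArg Subtype.val e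
        rw [← (B.code_spec a.2.2).2, ← (B.code_spec b.2.2).2, e']
      · rw [Nat.card_eq_finsetCard]
        exact (Finset.card_insert_le _ _).trans (by simp)
    set R0 := ψ.range ⊓ MulAction.stabilizer (Equiv.Perm GolayPt) (none : GolayPt)
    have h0 : Nat.card R0 ≤ 16 :=
      card_le_sixteen (inf_le_left.trans hR) (fun g hg => h2 g hg.1) (p := none) fun g hg => hg.2
    have hhalf : Nat.card ψ.range ≤ 2 * Nat.card (R0.subgroupOf ψ.range) := by
      refine card_le_two_mul _ fun g h hg hh => ?_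
      have key : ∀ g : ↥ψ.range, g ∉ R0.subgroupOf ψ.range → g.1 none = some 0 ∧ g.1 (some 0) = none := by
        rintro ⟨_, a', rfl⟩ hg
        exact (hpair a').resolve_left fun h => hg (Subgroup.mem_subgroupOf.2 ⟨⟨a', rfl⟩, h.1⟩)
      refine Subgroup.mem_subgroupOf.2 ⟨(g⁻¹ * h).2, ?_⟩
      show g.1⁻¹ (h.1 none) = none
      rw [(key h hh).1, Equiv.Perm.inv_eq_iff_eq, (key g hg).1]
    rw [Nat.card_congr (Subgroup.subgroupOfEquivOfLe (inf_le_left : R0 ≤ ψ.range)).toEquiv] at hhalf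
    rw [hcard]
    calc _ ≤ 32 * 2 := Nat.mul_le_mul (hhalf.trans (Nat.mul_le_mul_left 2 h0)) hD2
      _ = 64 := by norm_num

theorem bound [IsSimpleGroup G] (hG : ¬ IsMulCommutative G) (hJ : IsOfJankoFourType G) {W1 W2 : Subgroup G}
    (h1 : B.Member W1) (h2 : B.Member W2) (hne : W1 ≠ W2) :
    Nat.card ↥(W1 ⊓ Subgroup.normalizer (W2 : Set G)) ≤ 64 := by
  obtain ⟨c, hc, rfl⟩ := B.member_eq_map hJ h2
  have hne' : W1.map (MulAut.conj c⁻¹).toMonoidHom ≠ B.V := fun e => hne (by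
    rw [← e, Subgroup.map_map]
    ext x
    constructor
    · exact fun hx => ⟨x, hx, by show c * (c⁻¹ * x * c⁻¹⁻¹) * c⁻¹ = x; group⟩
    · rintro ⟨y, hy, rfl⟩
      show c * (c⁻¹ * y * c⁻¹⁻¹) * c⁻¹ ∈ W1
      rwa [show c * (c⁻¹ * y * c⁻¹⁻¹) * c⁻¹ = y by group])
  refine le_trans ?_ (B.bound_V hG hJ (B.member_map h1 hc.inv_left) hne')
  have hinj : Function.Injective (MulAut.conj c⁻¹).toMonoidHom := (MulAut.conj c⁻¹).injective
  rw [← Subgroup.card_map_of_injective hinj]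
  refine Subgroup.card_le_of_le ?_
  rintro _ ⟨x, ⟨hx1, hx2⟩, rfl⟩
  refine ⟨⟨x, hx1, rfl⟩, ?_⟩
  show c⁻¹ * x * c⁻¹⁻¹ ∈ B.NV
  rw [inv_inv]
  exact mem_normalizer_map_conj.1 hx2

/-- No conjugate of `z` in one member normalizes another one. -/
theorem good_V [IsSimpleGroup G] (hG : ¬ IsMulCommutative G) (hJ : IsOfJankoFourType G) {W : Subgroup G}
    (hW : B.Member W) {u : G} (hu : u ∈ B.V) (hz : IsConj S.z u) (hn : u ∈ Subgroup.normalizer (W : Set G)) :
    W = B.V := by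
  classical
  by_contra hne
  obtain ⟨Φ, -, hker, hmov⟩ := B.exists_phi hG hJ
  obtain ⟨htne, htz⟩ := B.duadRep_facts hG hJ
  -- the centralizer of `u` in the other member
  have hcu : W ⊓ Subgroup.centralizer ({u} : Set G) ≤ W ⊓ B.NV := fun x hx =>
    ⟨hx.1, B.centralizer_pair_le hG hJ hu hz B.duadRep_mem htne htz x
      (Subgroup.mem_centralizer_singleton_iff.1 hx.2) (B.member_commute hW hx.1)⟩
  have h9 : 9 ≤ Nat.card ↥(W ⊓ B.NV) := by
    have h := sq_le_fixed hW.1 hn (by rw [← pow_two]; exact B.V_elementary.2 u hu)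
    rw [hW.2.1] at h
    have h' := h.trans (Nat.pow_le_pow_left (Subgroup.card_le_of_le hcu) 2)
    by_contra hlt
    have := h'.trans (Nat.pow_le_pow_left (Nat.le_of_lt_succ (not_le.1 hlt)) 2)
    norm_num at this
  set A := W ⊓ B.NV
  have hB : Nat.card ↥(B.V ⊓ Subgroup.normalizer (W : Set G)) ≤ 64 :=
    B.bound hG hJ B.member_V hW (fun e => hne e.symm)
  let ψ : ↥A →* Equiv.Perm GolayPt := (M24.subtype).comp (Φ.comp (Subgroup.inclusion inf_le_right))
  set P := ((MulAction.stabilizer (Equiv.Perm GolayPt) (none : GolayPt)).comap ψ) with hP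
  have hPz : ∀ x ∈ P.map A.subtype, ¬ IsConj S.z x := by
    rintro _ ⟨a, ha, rfl⟩ hxz
    have haV : (a : G) ∉ B.V := fun h => hne (B.member_unique hG hJ hW B.member_V a.2.1 h hxz)
    have hx2 : (a : G) * a = 1 := by rw [← pow_two]; exact hW.1.2 _ a.2.1
    have h128 := B.fixed_large hG hJ a.2.2 hx2 haV (hmov (Subgroup.inclusion inf_le_right a)) (p := none) ha
    have hle : B.V ⊓ Subgroup.centralizer ({(a : G)} : Set G) ≤ B.V ⊓ Subgroup.normalizer (W : Set G) := by
      rintro y ⟨hy, hya⟩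
      refine ⟨hy, ?_⟩
      show y ∈ Subgroup.normalizer (W : Set G)
      obtain ⟨c, hc, e⟩ := B.member_eq_map hJ hW
      rw [← e, mem_normalizer_map_conj]
      have hc' : ∀ {p q : G}, Commute p q → Commute (c⁻¹ * p * c) (c⁻¹ * q * c) := fun {p q} h => by
        have := (LargeData.commute_conj_iff' (g := c⁻¹)).2 h
        rwa [inv_inv] at this
      have hau : c⁻¹ * (a : G) * c ∈ B.V := mem_map_conj.1 (e.symm ▸ a.2.1)
      have ht : c⁻¹ * B.duadRep * c = B.duadRep := by rw [hc.inv_left.eq, inv_mul_cancel_right]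
      refine B.centralizer_pair_le hG hJ hau (hxz.trans (isConj_iff.2 ⟨c⁻¹, by rw [inv_inv]; rfl⟩))
        B.duadRep_mem htne htz _ (hc' (Subgroup.mem_centralizer_singleton_iff.1 hya)) ?_
      have := hc' (B.member_commute B.member_V hy)
      rwa [ht] at this
    have := h128.trans ((Subgroup.card_le_of_le hle).trans hB)
    omega
  have htP : B.duadRep ∈ P.map A.subtype := by
    refine ⟨⟨_, hW.2.2, Subgroup.le_normalizer B.duadRep_mem⟩, ?_, rfl⟩
    rw [hP, SetLike.mem_coe, Subgroup.mem_comap]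
    show (Φ _ : Equiv.Perm GolayPt) none = none
    rw [(hker _).2 B.duadRep_mem]
    rfl
  have h4 := B.no_z_card hG hJ hW (A := P.map A.subtype) (fun x hx => by
    obtain ⟨a, -, rfl⟩ := hx; exact a.2.1) htP hPz
  rw [Subgroup.card_map_of_injective A.subtype_injective] at h4
  have hpair : ∀ a : ↥A, (ψ a none = none ∧ ψ a (some 0) = some 0) ∨
      (ψ a none = some 0 ∧ ψ a (some 0) = none) := fun a =>
    B.pair_fixed (hmov (Subgroup.inclusion inf_le_right a)) (by simp)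
      (congrArg Subtype.val (hW.1.1.1.1 ⟨a, a.2.1⟩ ⟨_, hW.2.2⟩))
  have h2 : Nat.card A ≤ 2 * Nat.card P := by
    refine card_le_two_mul _ fun g h hg hh => ?_
    have hg' := (hpair g).resolve_left fun h => hg h.1
    have hh' := (hpair h).resolve_left fun h => hh h.1
    rw [hP, Subgroup.mem_comap, map_mul, map_inv]
    show (ψ g)⁻¹ (ψ h none) = none
    rw [hh'.1, Equiv.Perm.inv_eq_iff_eq, hg'.1]
  omega

theorem good [IsSimpleGroup G] (hG : ¬ IsMulCommutative G) (hJ : IsOfJankoFourType G) {W1 W2 : Subgroup G}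
    (h1 : B.Member W1) (h2 : B.Member W2) {u : G} (hu : u ∈ W1) (hz : IsConj S.z u)
    (hn : u ∈ Subgroup.normalizer (W2 : Set G)) : W1 = W2 := by
  obtain ⟨c, hc, rfl⟩ := B.member_eq_map hJ h1
  have h := B.good_V hG hJ (B.member_map h2 hc.inv_left) (u := c⁻¹ * u * c) (mem_map_conj.1 hu)
    (hz.trans (isConj_iff.2 ⟨c⁻¹, by rw [inv_inv]⟩))
    (mem_normalizer_map_conj.2 (by rwa [show c⁻¹⁻¹ * (c⁻¹ * u * c) * c⁻¹ = u by group]))
  rw [← h, Subgroup.map_map]
  ext x
  constructor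
  · rintro ⟨y, hy, rfl⟩
    show c * (c⁻¹ * y * c⁻¹⁻¹) * c⁻¹ ∈ W2
    rwa [show c * (c⁻¹ * y * c⁻¹⁻¹) * c⁻¹ = y by group]
  · exact fun hx => ⟨x, hx, by show c * (c⁻¹ * x * c⁻¹⁻¹) * c⁻¹ = x; group⟩

end HexBase

end CfsgLib.JankoFour
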