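import Cfsg.Agent.Lib.JankoFour.Isolation

/-!
# Two-subgroups inside the centralizer of a conjugate of `z` (owner: helper14)

Bounds for elementary abelian subgroups of `H` meeting `E` trivially, and images of elements centralizing `a`.
-/

set_option autoImplicit false

namespace CfsgLib.JankoFour

open Cfsg CfsgLib.ThreeTrans
open CfsgLib.JankoFour.M22 (Grp)

variable {G : Type*} [Group G] [Finite G]

omit [Finite G] in
theorem back_mul (g l l' : G) : g⁻¹ * (l * l') * g = (g⁻¹ * l * g) * (g⁻¹ * l' * g) := by group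

/-- Conjugates of `z`. -/
def Setting.IsZ (S : Setting G) (t : G) : Prop := ∃ g, g * S.z * g⁻¹ = t

namespace Setting

variable (S : Setting G)

theorem isZ_conj {t : G} (h : S.IsZ t) (k : G) : S.IsZ (k * t * k⁻¹) := by
  obtain ⟨g, rfl⟩ := h; exact ⟨k * g, by group⟩

theorem isZ_sq {t : G} (h : S.IsZ t) : t * t = 1 := by
  obtain ⟨g, rfl⟩ := h; exact conj_sq S.hE.mul_self_z

theorem isZ_ne {t : G} (h : S.IsZ t) : t ≠ 1 := by
  obtain ⟨g, rfl⟩ := h; exact fun e => S.hE.z_ne_one (conj_eq_one_iff.1 e)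

/-- The map to `H` of the centralizer of `g z g⁻¹`. -/
theorem back_z {g l : G} (h : Commute l (g * S.z * g⁻¹)) : Commute (g⁻¹ * l * g) S.z := by
  have := (LargeData.commute_conj_iff' (g := g⁻¹)).2 h
  rwa [inv_inv, show g⁻¹ * (g * S.z * g⁻¹) * g = S.z by group] at this

/-- Commutators of the centralizer are inner. -/
theorem comm_inner {g u v : G} (hu : Commute u (g * S.z * g⁻¹)) (hv : Commute v (g * S.z * g⁻¹)) :
    g⁻¹ * (u * v * u⁻¹ * v⁻¹) * g ∈ S.H0 := by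
  have := S.commutator_mem (S.back_z hu) (S.back_z hv)
  rwa [show g⁻¹ * u * g * (g⁻¹ * v * g) * (g⁻¹ * u * g)⁻¹ * (g⁻¹ * v * g)⁻¹ =
    g⁻¹ * (u * v * u⁻¹ * v⁻¹) * g by group] at this

/-- An inner elementary abelian subgroup meeting the large subgroup trivially has order at most 16. -/
theorem embed {g : G} (L : Subgroup G) (hab : ∀ x ∈ L, ∀ y ∈ L, Commute x y) (hsq : ∀ x ∈ L, x * x = 1)
    (hin : ∀ l ∈ L, g⁻¹ * l * g ∈ S.H0) (htriv : ∀ l ∈ L, g⁻¹ * l * g ∈ S.E → l = 1) : Nat.card L ≤ 16 := by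
  let φ : ↥L →* Grp := MonoidHom.mk' (fun l => S.f (g⁻¹ * l * g)) fun a b => by
    rw [← S.f_mul (hin _ a.2) (hin _ b.2)]
    exact congrArg S.f (back_mul g a b)
  have hinj : Function.Injective φ := (injective_iff_map_eq_one φ).2 fun l hl => Subtype.ext (by
    refine htriv _ l.2 (S.two_mem_E ((S.f_eq_one_iff (hin _ l.2)).1 hl) (n := 1) ?_)
    rw [pow_one, pow_two, ← back_mul, hsq _ l.2]; group)
  rw [Nat.card_congr (MonoidHom.ofInjective hinj).toEquiv]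
  refine M22.elementary_le_sixteen ?_ ?_
  · rintro _ ⟨a, rfl⟩ _ ⟨b, rfl⟩
    rw [← map_mul, ← map_mul, show a * b = b * a from Subtype.ext (hab _ a.2 _ b.2).eq]
  · rintro _ ⟨a, rfl⟩
    rw [← map_mul, show a * a = 1 from Subtype.ext (hsq _ a.2), map_one]

theorem inner_part {g : G} {L : Subgroup G} (hcz : ∀ l ∈ L, Commute l (g * S.z * g⁻¹)) :
    ∃ L0 : Subgroup G, L0 ≤ L ∧ Nat.card L ≤ 2 * Nat.card L0 ∧ ∀ l ∈ L0, g⁻¹ * l * g ∈ S.H0 := by
  classical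
  let L0 : Subgroup G :=
    { carrier := {l | l ∈ L ∧ g⁻¹ * l * g ∈ S.H0}
      one_mem' := ⟨one_mem _, by simp⟩
      mul_mem' := fun {a b} ha hb => ⟨mul_mem ha.1 hb.1, back_mul g a b ▸ mul_mem ha.2 hb.2⟩
      inv_mem' := fun {a} ha => ⟨inv_mem ha.1, by
        rw [show g⁻¹ * a⁻¹ * g = (g⁻¹ * a * g)⁻¹ by group]; exact inv_mem ha.2⟩ }
  refine ⟨L0, fun _ h => h.1, ?_, fun _ h => h.2⟩
  by_cases hall : ∀ l ∈ L, g⁻¹ * l * g ∈ S.H0
  · have := Subgroup.card_le_of_le (show L ≤ L0 from fun l hl => ⟨hl, hall l hl⟩)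
    omega
  simp only [not_forall] at hall
  obtain ⟨o, ho, ho'⟩ := hall
  let F : ↥L → ↥L0 ⊕ ↥L0 := fun l =>
    if h : g⁻¹ * (l : G) * g ∈ S.H0 then Sum.inl ⟨l, l.2, h⟩
    else Sum.inr ⟨o * l, mul_mem ho l.2, by
      rw [back_mul]; exact S.hidx _ _ (S.back_z (hcz o ho)) (S.back_z (hcz _ l.2)) ho' h⟩
  have hF : Function.Injective F := fun a b e => by
    simp only [F] at e
    split_ifs at e
    · simpa using e
    · simpa using e
  have := Nat.card_le_card_of_injective F hF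
  rw [Nat.card_sum] at this
  omega

theorem embed_outer {g : G} (L : Subgroup G) (hab : ∀ x ∈ L, ∀ y ∈ L, Commute x y) (hsq : ∀ x ∈ L, x * x = 1)
    (hcz : ∀ l ∈ L, Commute l (g * S.z * g⁻¹)) (htriv : ∀ l ∈ L, g⁻¹ * l * g ∈ S.E → l = 1) :
    Nat.card L ≤ 32 := by
  obtain ⟨L0, h1, h2, h3⟩ := S.inner_part hcz
  have := S.embed L0 (fun x hx y hy => hab x (h1 hx) y (h1 hy)) (fun x hx => hsq x (h1 hx)) h3
    fun l hl => htriv l (h1 hl)
  omega

end Setting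

namespace Frame

variable {S : Setting G} (F : Frame S)
include F

/-- The image of an inner 2-element centralizing `a`. -/
theorem image_q {h : G} (h0 : h ∈ S.H0) (ha : Commute h F.a) (h4 : h ^ 4 = 1) :
    ∃ x ∈ F.W 0, ∃ q, F.IsQ q ∧ ∃ y ∈ S.P, h = x * q * y ∧ S.f h = S.f q := by
  obtain ⟨x, hx, q, hq, y, hy, rfl⟩ := F.cent_a_inner h0 ha
  have hxE := (F.mem_W0.1 hx).1
  have hfx : S.f x = 1 := (S.f_eq_one_iff (S.hEH0 hxE)).2 (Subgroup.mem_sup_left hxE)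
  have hyC := F.A_le_C hy
  have hy0 := S.C_le_H0 hyC
  have hq0 := S.C_le_H0 hq.1
  have hf : S.f (x * q * y) = S.f q * S.f y := by
    rw [S.f_mul (mul_mem (S.hEH0 hxE) hq0) hy0, S.f_mul (S.hEH0 hxE) hq0, hfx, one_mul]
  obtain ⟨i, j, rfl⟩ := F.mem_A.1 hy
  have hqy : Commute q (F.a ^ i * F.p ^ j) := (hq.2.1.pow_right i).mul_right ((F.commute_p hq.1).pow_right j)
  have hfy : S.f (F.a ^ i * F.p ^ j) = 1 := by
    have e1 : (S.f q * S.f (F.a ^ i * F.p ^ j)) ^ 4 = 1 := by rw [← hf, ← S.f_pow h0, h4, S.f_one]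
    have hc : Commute (S.f q) (S.f (F.a ^ i * F.p ^ j)) := by
      show _ = _; rw [← S.f_mul hq0 hy0, ← S.f_mul hy0 hq0, hqy.eq]
    rw [hc.mul_pow, ← S.f_pow hq0, hq.2.2, S.f_one, one_mul] at e1
    have e3 : S.f (F.a ^ i * F.p ^ j) ^ 3 = 1 := by rw [← S.f_pow hy0, F.A_exp hy, S.f_one]
    rwa [pow_succ, e3, one_mul] at e1
  refine ⟨x, hx, q, hq, _, S.ker_three hyC hfy (n := 1) (by rw [pow_one]; exact F.A_exp hy), rfl, ?_⟩
  rw [hf, hfy, mul_one]

theorem image_cases {h : G} (h0 : h ∈ S.H0) (ha : Commute h F.a) (h4 : h ^ 4 = 1) :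
    S.f h = 1 ∨ S.f h = S.f F.t0 ∨ S.f h = S.f F.t1 ∨ S.f h = S.f F.t0 * S.f F.t1 := by
  obtain ⟨x, -, q, hq, y, -, -, e⟩ := F.image_q h0 ha h4
  rw [e]; exact F.four.2.2.2 q hq

/-- Inner 2-elements centralizing `a` and an outer element map into `{1, t0}`. -/
theorem image_outer' {h n : G} (h0 : h ∈ S.H0) (ha : Commute h F.a) (h4 : h ^ 4 = 1)
    (hnz : Commute n S.z) (hn0 : n ∉ S.H0) (hna : Commute n F.a) (hc : S.f (n * h * n⁻¹) = S.f h) :
    S.f h = 1 ∨ S.f h = S.f F.t0 := by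
  obtain ⟨w, hw, m, hm, hma, rfl⟩ := F.cent_a_decomp hnz hna
  have hwE := (F.mem_W0.1 hw).1
  have hw0 := S.hEH0 hwE
  have hm0 : m ∉ S.H0 := fun h' => hn0 (mul_mem hw0 h')
  obtain ⟨x, hx, q, hq, y, hy, rfl, hf⟩ := F.image_q h0 ha h4
  have hxE := (F.mem_W0.1 hx).1
  have hmz := hm.1
  have hq0 := S.C_le_H0 hq.1
  have hmx : m * x * m⁻¹ ∈ S.E := S.hE.conj_mem hmz hxE
  have hmy : m * y * m⁻¹ ∈ S.P := hm.2 y hy
  have hmq : m * q * m⁻¹ ∈ S.C := S.conj_C hm hq.1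
  have hmh : m * (x * q * y) * m⁻¹ ∈ S.H0 := S.hnorm m hmz _ h0
  have e1 : S.f (m * (x * q * y) * m⁻¹) = S.f (m * q * m⁻¹) := by
    rw [show m * (x * q * y) * m⁻¹ = (m * x * m⁻¹) * (m * q * m⁻¹) * (m * y * m⁻¹) by group,
      S.f_mul (mul_mem (S.hEH0 hmx) (S.C_le_H0 hmq)) (S.hPH0 hmy), S.f_mul (S.hEH0 hmx) (S.C_le_H0 hmq),
      (S.f_eq_one_iff (S.hEH0 hmx)).2 (Subgroup.mem_sup_left hmx),
      (S.f_eq_one_iff (S.hPH0 hmy)).2 (Subgroup.mem_sup_right hmy), one_mul, mul_one]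
  have hfw : S.f w = 1 := (S.f_eq_one_iff hw0).2 (Subgroup.mem_sup_left hwE)
  have e2 : S.f (m * q * m⁻¹) = S.f q := by
    rw [← e1, ← hf, ← hc, show w * m * (x * q * y) * (w * m)⁻¹ = w * (m * (x * q * y) * m⁻¹) * w⁻¹ by group]
    rw [S.f_conj hw0 hmh, hfw, inv_one, one_mul, mul_one]
  rw [hf]
  by_contra hcon
  rw [not_or] at hcon
  have h3 := (F.outer_action hm hm0 hma).2 q hq hcon.1 hcon.2
  rw [e2, left_eq_mul] at h3
  exact F.t0_ne h3

theorem image_outer {h n : G} (h0 : h ∈ S.H0) (ha : Commute h F.a) (h4 : h ^ 4 = 1)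
    (hnz : Commute n S.z) (hn0 : n ∉ S.H0) (hna : Commute n F.a) (hc : Commute n h) :
    S.f h = 1 ∨ S.f h = S.f F.t0 :=
  F.image_outer' h0 ha h4 hnz hn0 hna (by rw [hc.eq, mul_inv_cancel_right])

theorem three_exp_step {x : G} (hx : Commute x S.z) (h9 : x ^ 9 = 1) : x ^ 3 = 1 := by
  by_contra h3
  have hx0 : x ∈ S.H0 := S.mem_of_odd hx (Odd.of_dvd_nat (by decide) (orderOf_dvd_of_pow_eq_one h9))
  have hc3 : (x ^ 3) ^ 3 = 1 := by rw [← pow_mul]; exact h9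
  have hcube : ∀ {y : G}, y ∈ S.C → y ^ 9 = 1 → y ^ 3 ∈ S.E ⊔ S.P → y ^ 3 = 1 := by
    intro y hy y9 hy3
    by_cases hf : S.f y = 1
    · exact S.P_pow_three (S.ker_three hy hf (n := 2) (by norm_num; exact y9))
    · exact S.exp_three hy hf (by rw [← S.f_pow_C hy]; exact (S.f_eq_one_iff (pow_mem (S.C_le_H0 hy) 3)).2 hy3) y9
  by_cases hEP : x ^ 3 ∈ S.E ⊔ S.P
  · obtain ⟨e, he, heq⟩ := S.three_conj hEP hc3
    have hyz : Commute (e * x * e⁻¹) S.z :=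
      ((S.hE.commute_z he).mul_left hx).mul_left (S.hE.commute_z he).inv_left
    have hpow : (e * x * e⁻¹) ^ 3 = e * x ^ 3 * e⁻¹ := conj_pow
    have hne : e * x ^ 3 * e⁻¹ ≠ 1 := fun r => h3 (conj_eq_one_iff.1 r)
    have hyC : e * x * e⁻¹ ∈ S.C := S.mem_C_of_comm hyz heq hne (by rw [← hpow]; exact (Commute.refl _).pow_right 3)
    have := hcube hyC (by rw [conj_pow, h9]; simp) (by rw [hpow]; exact Subgroup.mem_sup_right heq)
    rw [hpow] at this
    exact hne this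
  · obtain ⟨h, hh, e⟩ := F.three_classify_H (hx.pow_left 3) hc3 hEP
    set y := h * x * h⁻¹ with hy
    have hy3 : y ^ 3 = F.a := by rw [hy, conj_pow, e]
    have hy0 : y ∈ S.H0 := S.hnorm h hh x hx0
    have hya : Commute y F.a := hy3 ▸ (Commute.refl y).pow_right 3
    obtain ⟨w, hw, q, hq, u, hu, hyeq⟩ := F.cent_a_inner hy0 hya
    have hwE := (F.mem_W0.1 hw).1
    have hq0 := S.C_le_H0 hq.1
    have hu0 := S.C_le_H0 (F.A_le_C hu)
    have e1 : S.f y = S.f q * S.f u := by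
      rw [hyeq, S.f_mul (mul_mem (S.hEH0 hwE) hq0) hu0, S.f_mul (S.hEH0 hwE) hq0,
        (S.f_eq_one_iff (S.hEH0 hwE)).2 (Subgroup.mem_sup_left hwE), one_mul]
    obtain ⟨i, j, rfl⟩ := F.mem_A.1 hu
    have hc : Commute (S.f q) (S.f (F.a ^ i * F.p ^ j)) := by
      show _ = _
      rw [← S.f_mul hq0 hu0, ← S.f_mul hu0 hq0,
        ((hq.2.1.pow_right i).mul_right ((F.commute_p hq.1).pow_right j) : Commute q _).eq]
    have e2 : S.f F.a = S.f q := by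
      rw [← hy3, S.f_pow hy0, e1, hc.mul_pow, ← S.f_pow hu0, F.A_exp hu, S.f_one, mul_one,
        pow_succ, pow_two, F.q_sq_one hq, one_mul]
    have : S.f F.a * S.f F.a = 1 := e2 ▸ F.q_sq_one hq
    have h33 := F.hcfg.hr
    rw [pow_succ, pow_two, this, one_mul] at h33
    exact F.hab h33

theorem three_exp {x : G} (hx : Commute x S.z) : ∀ {n : ℕ}, x ^ 3 ^ n = 1 → x ^ 3 = 1 := by
  intro n
  induction n generalizing x with
  | zero => intro h; rw [pow_zero, pow_one] at h; rw [h, one_pow]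
  | succ n ih =>
    intro h
    refine F.three_exp_step hx ?_
    rw [show (9 : ℕ) = 3 * 3 from rfl, pow_mul]
    exact ih (hx.pow_left 3) (by rw [← pow_mul, ← pow_succ']; exact h)

end Frame

end CfsgLib.JankoFour
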