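import Cfsg.Agent.Lib.JankoFour.Basic
import Cfsg.Agent.Lib.LocalEven.Generation

/-!
# A frame in a centralizer of Janko-four type (owner: helper14)

Lifts `a`, `b` of two generators of a Sylow 3-subgroup with `b * a * b⁻¹ = a * p`, and lifts `v`, `w` of
the four group centralizing the image of `a`.
-/

set_option autoImplicit false

namespace CfsgLib.JankoFour

open Cfsg CfsgLib.ThreeTrans
open CfsgLib.JankoFour.M22 (Grp)

variable {G : Type*} [Group G]

/-- The frame. -/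
structure Frame (S : Setting G) where
  /-- generator of `P` -/
  p : G
  /-- lift of an element of order three -/
  a : G
  /-- second lift -/
  b : G
  /-- lift of an involution -/
  v : G
  /-- its conjugate -/
  w : G
  hpP : p ∈ S.P
  hp3 : orderOf p = 3
  haC : a ∈ S.C
  hbC : b ∈ S.C
  hvC : v ∈ S.C
  ha : a ^ 3 = 1
  hb : b ^ 3 = 1
  hba : b * a * b⁻¹ = a * p
  hw : b * v * b⁻¹ = w
  hv4 : v ^ 4 = 1
  hav : Commute a v
  haw : Commute a w
  hcfg : M22.Config (S.f a) (S.f b) (S.f v) (S.f w)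

namespace Setting

variable (S : Setting G) [Finite G]

theorem f_mul_C {x y : G} (hx : x ∈ S.C) (hy : y ∈ S.C) : S.f (x * y) = S.f x * S.f y :=
  S.f_mul (S.C_le_H0 hx) (S.C_le_H0 hy)

theorem f_pow_C {x : G} (hx : x ∈ S.C) (n : ℕ) : S.f (x ^ n) = S.f x ^ n := S.f_pow (S.C_le_H0 hx) n

theorem f_conj_C {x y : G} (hx : x ∈ S.C) (hy : y ∈ S.C) :
    S.f (x * y * x⁻¹) = S.f x * S.f y * (S.f x)⁻¹ :=
  S.f_conj (S.C_le_H0 hx) (S.C_le_H0 hy)

theorem f_inv_C {x : G} (hx : x ∈ S.C) : S.f x⁻¹ = (S.f x)⁻¹ := S.f_inv (S.C_le_H0 hx)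

/-- A 3-element lifting an element of order three has order three. -/
theorem exp_three {x : G} (hx : x ∈ S.C) (hne : S.f x ≠ 1) (h3 : S.f x ^ 3 = 1) (h9 : x ^ 9 = 1) :
    x ^ 3 = 1 := by
  haveI : Fact (Nat.Prime 3) := ⟨Nat.prime_three⟩
  obtain ⟨r, s, v, w, hcfg⟩ := M22.exists_config
  have h1 := hcfg.hthree _ (orderOf_eq_prime h3 hne)
  have h2 := hcfg.hthree (S.f x)⁻¹ (orderOf_eq_prime (by rw [inv_pow, h3, inv_one]) (by simpa using hne))
  obtain ⟨g, hg⟩ := isConj_iff.1 (h1.trans h2.symm)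
  obtain ⟨c, hc, rfl⟩ := S.exists_C g
  set k := x * (c * x * c⁻¹) with hk
  have hcx : c * x * c⁻¹ ∈ S.C := mul_mem (mul_mem hc hx) (inv_mem hc)
  have hkC : k ∈ S.C := mul_mem hx hcx
  have hk1 : S.f k = 1 := by rw [hk, S.f_mul_C hx hcx, S.f_conj_C hc hx, hg, mul_inv_cancel]
  have hkx : Commute k x := S.ker_central hkC hk1 hx
  have hkc : Commute k c := S.ker_central hkC hk1 hc
  have h33 : S.f (x ^ 3) = 1 := by rw [S.f_pow_C hx, h3]
  have hx3 : Commute (x ^ 3) c := S.ker_central (pow_mem hx 3) h33 hc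
  have e1 : (c * x * c⁻¹) ^ 3 = x ^ 3 := by
    rw [conj_pow, ← hx3.eq, mul_inv_cancel_right]
  have e2 : c * x * c⁻¹ = x⁻¹ * k := by rw [hk, inv_mul_cancel_left]
  rw [e2, (hkx.symm.inv_left).mul_pow, inv_pow, inv_mul_eq_iff_eq_mul, ← pow_add] at e1
  -- `k ^ 3 = x ^ 6` lies in `P` and squares to one
  have hk6 := S.ker_pow_six hkC hk1
  have : x ^ 12 = 1 := by rw [show (12 : ℕ) = (3 + 3) * 2 from rfl, pow_mul, ← e1, ← pow_mul, hk6]
  rw [show (12 : ℕ) = 9 + 3 from rfl, pow_add, h9, one_mul] at this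
  exact this

/-- Lifts of order dividing three. -/
theorem exists_lift_three {g : Grp} (hg : g ^ 3 = 1) : ∃ x ∈ S.C, x ^ 3 = 1 ∧ S.f x = g := by
  by_cases h1 : g = 1
  · exact ⟨1, one_mem _, one_pow _, by rw [S.f_one, h1]⟩
  obtain ⟨c, hc, rfl⟩ := S.exists_C g
  have h18 : c ^ 18 = 1 := by
    rw [show (18 : ℕ) = 3 * 6 from rfl, pow_mul]
    exact S.ker_pow_six (pow_mem hc 3) (by rw [S.f_pow_C hc, hg])
  have hf : S.f (c ^ 4) = S.f c := by rw [S.f_pow_C hc, pow_succ, hg, one_mul]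
  refine ⟨c ^ 4, pow_mem hc 4, S.exp_three (pow_mem hc 4) (hf ▸ h1) (hf ▸ hg) ?_, hf⟩
  rw [← pow_mul, show 4 * 9 = 18 * 2 from rfl, pow_mul, h18, one_pow]

/-- Lifts of involutions of 2-power order. -/
theorem exists_lift_two {g : Grp} (hg : g * g = 1) : ∃ x ∈ S.C, x ^ 4 = 1 ∧ S.f x = g := by
  obtain ⟨c, hc, rfl⟩ := S.exists_C g
  refine ⟨c ^ 3, pow_mem hc 3, ?_, by rw [S.f_pow_C hc, pow_succ, pow_two, hg, one_mul]⟩
  rw [← pow_mul, show 3 * 4 = 2 * 6 from rfl, pow_mul]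
  exact S.ker_pow_six (pow_mem hc 2) (by rw [S.f_pow_C hc, pow_two, hg])

theorem two_comm {x y : G} (hx : x ∈ S.C) (hy : y ∈ S.C) {n : ℕ} (hy2 : y ^ 2 ^ n = 1)
    (h : Commute (S.f x) (S.f y)) : x * y * x⁻¹ = y ∨ x * y * x⁻¹ = y * S.z := by
  set k := y⁻¹ * (x * y * x⁻¹) with hk
  have hxy : x * y * x⁻¹ ∈ S.C := mul_mem (mul_mem hx hy) (inv_mem hx)
  have hkC : k ∈ S.C := mul_mem (inv_mem hy) hxy
  have hk1 : S.f k = 1 := by
    rw [hk, S.f_mul_C (inv_mem hy) hxy, S.f_inv_C hy, S.f_conj_C hx hy, h.eq]; group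
  have hc : Commute k y := S.ker_central hkC hk1 hy
  have e : x * y * x⁻¹ = y * k := by rw [hk, mul_inv_cancel_left]
  have h1 : (x * y * x⁻¹) ^ 2 ^ n = 1 := by rw [conj_pow, hy2]; simp
  rw [e, hc.symm.mul_pow, hy2, one_mul] at h1
  rcases S.ker_two hkC hk1 h1 with h' | h'
  · exact Or.inl (by rw [e, h', mul_one])
  · exact Or.inr (by rw [e, h'])

theorem z_commute_three {x y : G} (hx : x ^ 3 = 1) (hyz : Commute y S.z)
    (h : y * x * y⁻¹ = x ∨ y * x * y⁻¹ = x * S.z) (hxz : Commute x S.z) : Commute y x := by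
  rcases h with h | h
  · exact mul_inv_eq_iff_eq_mul.1 h
  · exfalso
    have h1 : (y * x * y⁻¹) ^ 3 = 1 := by rw [conj_pow, hx]; simp
    rw [h, hxz.mul_pow, hx, one_mul, pow_succ, pow_two, S.hE.mul_self_z, one_mul] at h1
    exact S.hE.z_ne_one h1

theorem not_commute_lifts {a b : G} (ha : a ∈ S.C) (hb : b ∈ S.C) (ha3 : a ^ 3 = 1) (hb3 : b ^ 3 = 1)
    {v w : Grp} (hcfg : M22.Config (S.f a) (S.f b) v w) : ¬ Commute a b := by
  intro hab
  haveI : Fact (Nat.Prime 3) := ⟨Nat.prime_three⟩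
  obtain ⟨q, hq, hq3, hP⟩ := S.exists_p
  have hqC := S.P_le_C hq
  let fC : ↥S.C →* Grp := MonoidHom.mk' (fun x => S.f x) fun x y => S.f_mul_C x.2 y.2
  let k : Set ↥S.C := {⟨a, ha⟩, ⟨b, hb⟩, ⟨q, hqC⟩}
  have hk : ∀ x ∈ k, ∀ y ∈ k, x * y = y * x := by
    have c1 : Commute a q := (S.mem_C.1 ha).2 q hq
    have c2 : Commute b q := (S.mem_C.1 hb).2 q hq
    rintro x (rfl | rfl | rfl) y (rfl | rfl | rfl) <;> refine Subtype.ext ?_
    exacts [rfl, hab.eq, c1.eq, hab.eq.symm, rfl, c2.eq, c1.eq.symm, c2.eq.symm, rfl]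
  let A : Subgroup ↥S.C := Subgroup.closure k
  haveI hA : IsMulCommutative A := Subgroup.isMulCommutative_closure hk
  have hexp : ∀ x ∈ A, x ^ 3 = 1 := by
    intro x hx
    induction hx using Subgroup.closure_induction with
    | mem x hx =>
      rcases hx with rfl | rfl | rfl <;> refine Subtype.ext ?_
      exacts [ha3, hb3, S.P_pow_three hq]
    | one => exact one_pow _
    | mul x y hx hy h1 h2 =>
      rw [(show Commute x y from congrArg Subtype.val (hA.1.1 ⟨x, hx⟩ ⟨y, hy⟩)).mul_pow, h1, h2, one_mul]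
    | inv x _ h1 => rw [inv_pow, h1, inv_one]
  have haA : (⟨a, ha⟩ : ↥S.C) ∈ A := Subgroup.subset_closure (Or.inl rfl)
  have hbA : (⟨b, hb⟩ : ↥S.C) ∈ A := Subgroup.subset_closure (Or.inr (Or.inl rfl))
  have hqA : (⟨q, hqC⟩ : ↥S.C) ∈ A := Subgroup.subset_closure (Or.inr (Or.inr rfl))
  have hsurj : Function.Surjective fC := fun g => by
    obtain ⟨c, hc, hcg⟩ := S.exists_C g
    exact ⟨⟨c, hc⟩, hcg⟩
  -- the index of `A` is prime to three
  have hidx : ¬ 3 ∣ A.index := by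
    have himg : IsPGroup 3 (A.map fC) := by
      rintro ⟨_, x, hx, rfl⟩
      exact ⟨1, Subtype.ext (by show fC x ^ 3 ^ 1 = 1; rw [pow_one, ← map_pow, hexp x hx, map_one])⟩
    have h9 : 9 ∣ Nat.card (A.map fC) := by
      obtain ⟨n, hn⟩ := IsPGroup.iff_card.1 himg
      have hr : S.f a ∈ A.map fC := ⟨_, haA, rfl⟩
      have hs : S.f b ∈ A.map fC := ⟨_, hbA, rfl⟩
      have hne : A.map fC ≠ Subgroup.zpowers (S.f a) := fun e => by
        obtain ⟨m, hm⟩ := Subgroup.mem_zpowers_iff.1 (e ▸ hs)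
        refine hcfg.hne ?_
        rw [← hcfg.hsv, ← hm, (hcfg.hrv.zpow_left m).eq, mul_inv_cancel_right]
      have hlt : Nat.card (Subgroup.zpowers (S.f a)) < Nat.card (A.map fC) := by
        refine lt_of_le_of_ne (Nat.le_of_dvd Nat.card_pos (Subgroup.card_dvd_of_le (Subgroup.zpowers_le.2 hr))) ?_
        exact fun e => hne (Subgroup.eq_of_le_of_card_ge (Subgroup.zpowers_le.2 hr) e.ge).symm
      rw [Nat.card_zpowers, orderOf_eq_prime hcfg.hr hcfg.hr1, hn] at hlt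
      rw [hn]
      refine (show (9 : ℕ) = 3 ^ 2 from rfl) ▸ pow_dvd_pow 3 ?_
      by_contra h2
      have : 3 ^ n ≤ 3 ^ 1 := Nat.pow_le_pow_right (by norm_num) (by omega)
      omega
    have h1 : ¬ 3 ∣ (A.map fC).index := by
      intro h3
      obtain ⟨c, hc⟩ := h9
      obtain ⟨d, hd⟩ := h3
      have h := (A.map fC).card_mul_index
      rw [hc, hd, show Nat.card Grp = 443520 from CfsgLib.Sporadic.card_sporM22] at h
      have : 27 ∣ 443520 := ⟨c * d, by rw [← h]; ring⟩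
      norm_num at this
    have hker : A.relIndex fC.ker ∣ 2 := by
      have hPk : Subgroup.zpowers (⟨q, hqC⟩ : ↥S.C) ≤ A ⊓ fC.ker := Subgroup.zpowers_le.2 ⟨hqA,
        (S.f_eq_one_iff (S.C_le_H0 hqC)).2 (Subgroup.mem_sup_right hq)⟩
      have hk6 : Nat.card fC.ker ≤ 6 := by
        classical
        let φ : ↥S.P × ↥(Subgroup.zpowers S.z) → G := fun x => x.1 * x.2
        have hinj : ∀ x : fC.ker, ∃ y, φ y = ((x : ↥S.C) : G) := fun x => by
          obtain ⟨r, hr, c, hc, e⟩ := S.C_ker x.1.2 (MonoidHom.mem_ker.1 x.2)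
          exact ⟨(⟨r, hr⟩, ⟨c, hc⟩), e.symm⟩
        choose ψ hψ using hinj
        refine (Nat.card_le_card_of_injective ψ fun x y e => ?_).trans_eq ?_
        · exact Subtype.ext (Subtype.ext (by rw [← hψ, e, hψ]))
        · rw [Nat.card_prod, S.hPc, Nat.card_zpowers, S.orderOf_z]
      have h3 : 3 ∣ Nat.card ↥(A ⊓ fC.ker) := by
        have := Subgroup.card_dvd_of_le hPk
        rwa [Nat.card_zpowers, ← Subgroup.orderOf_coe, hq3] at this
      have h4 := Subgroup.card_mul_index ((A ⊓ fC.ker).subgroupOf fC.ker)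
      rw [Nat.card_congr (Subgroup.subgroupOfEquivOfLe inf_le_right).toEquiv] at h4
      rw [← Subgroup.inf_relIndex_right]
      obtain ⟨c, hc⟩ := h3
      have hd : ((A ⊓ fC.ker).subgroupOf fC.ker).index = (A ⊓ fC.ker).relIndex fC.ker := rfl
      rw [hc, hd] at h4
      have hpos : 0 < Nat.card fC.ker := Nat.card_pos
      set d := (A ⊓ fC.ker).relIndex fC.ker
      rcases c with _ | c
      · rw [Nat.mul_zero, Nat.zero_mul] at h4
        omega
      · have : d ≤ 2 := by nlinarith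
        interval_cases d
        · rw [Nat.mul_zero] at h4
          omega
        · exact one_dvd 2
        · exact dvd_rfl
    intro h3
    have h5 : A.index = (A ⊔ fC.ker).index * A.relIndex fC.ker := by
      rw [← Subgroup.relIndex_mul_index (le_sup_left : A ≤ A ⊔ fC.ker), mul_comm]
      congr 1
      have e1 := CfsgLib.PGroups.card_mul_relIndex (le_sup_left : A ≤ A ⊔ fC.ker)
      have e2 := CfsgLib.PGroups.card_mul_relIndex (le_sup_right : fC.ker ≤ A ⊔ fC.ker)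
      have e3 := CfsgLib.PGroups.card_mul_relIndex (inf_le_left : A ⊓ fC.ker ≤ A)
      have e4 := CfsgLib.PGroups.card_mul_relIndex (inf_le_right : A ⊓ fC.ker ≤ fC.ker)
      rw [Subgroup.relIndex_sup_right] at e2
      rw [Subgroup.inf_relIndex_left] at e3
      rw [Subgroup.inf_relIndex_right] at e4
      refine mul_left_cancel₀ (Nat.card_pos (α := A)).ne' ?_
      calc Nat.card A * A.relIndex (A ⊔ fC.ker) = Nat.card fC.ker * fC.ker.relIndex A := by rw [e1, e2]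
        _ = Nat.card A * A.relIndex fC.ker := by rw [← e3, ← e4]; ring
    have h6 : (A.map fC).index = (A ⊔ fC.ker).index := by
      rw [Subgroup.index_map, MonoidHom.range_eq_top.2 hsurj, Subgroup.index_top, mul_one]
    rw [h5, ← h6] at h3
    rcases (Nat.Prime.dvd_mul Nat.prime_three).1 h3 with h | h
    · exact h1 h
    · have := h.trans hker
      norm_num at this
  letI : CommGroup ↥A := { (inferInstance : Group ↥A) with mul_comm := hA.1.1 }
  have hcent : ∀ (n : ℕ) (g₀ : ↥S.C), g₀⁻¹ * (⟨q, hqC⟩ : ↥S.C) ^ n * g₀ = (⟨q, hqC⟩ : ↥S.C) ^ n := by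
    intro n g₀
    have hc : Commute ((⟨q, hqC⟩ : ↥S.C) ^ n) g₀ :=
      (show Commute (⟨q, hqC⟩ : ↥S.C) g₀ from Subtype.ext (((S.mem_C.1 g₀.2).2 q hq).eq.symm)).pow_left n
    rw [mul_assoc, hc.eq, inv_mul_cancel_left]
  have htr := MonoidHom.transfer_eq_pow (H := A) (ϕ := MonoidHom.id ↥A) (⟨q, hqC⟩ : ↥S.C) fun n g₀ _ => hcent n g₀
  have hq0 : MonoidHom.transfer (MonoidHom.id ↥A) (⟨q, hqC⟩ : ↥S.C) = 1 := by
    have hqd : (⟨q, hqC⟩ : ↥S.C) ∈ commutator ↥S.C := by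
      have h1 : q ∈ (commutator ↥S.C).map S.C.subtype := by
        rw [commutator_def, Subgroup.map_commutator, ← MonoidHom.range_eq_map, Subgroup.range_subtype]
        exact S.hder hq
      obtain ⟨x, hx, e⟩ := h1
      rwa [show (⟨q, hqC⟩ : ↥S.C) = x from Subtype.ext e.symm]
    exact (Abelianization.commutator_subset_ker _) hqd
  rw [hq0, MonoidHom.id_apply] at htr
  have hpow : q ^ A.index = 1 := by simpa using (congrArg (fun x : ↥A => ((x : ↥S.C) : G)) htr).symm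
  have := orderOf_dvd_of_pow_eq_one hpow
  rw [hq3] at this
  exact hidx this

end Setting

theorem exists_frame [Finite G] (S : Setting G) : Nonempty (Frame S) := by
  haveI : Fact (Nat.Prime 3) := ⟨Nat.prime_three⟩
  obtain ⟨r, s, v', w', hcfg⟩ := M22.exists_config
  obtain ⟨a, haC, ha, rfl⟩ := S.exists_lift_three hcfg.hr
  obtain ⟨b, hbC, hb, rfl⟩ := S.exists_lift_three hcfg.hs
  obtain ⟨v, hvC, hv4, rfl⟩ := S.exists_lift_two hcfg.hv
  set w := b * v * b⁻¹ with hw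
  have hwC : w ∈ S.C := mul_mem (mul_mem hbC hvC) (inv_mem hbC)
  have hfw : S.f w = w' := by rw [hw, S.f_conj_C hbC hvC, hcfg.hsv]
  subst hfw
  have hconjC : b * a * b⁻¹ ∈ S.C := mul_mem (mul_mem hbC haC) (inv_mem hbC)
  set p := a⁻¹ * (b * a * b⁻¹) with hp
  have hpC : p ∈ S.C := mul_mem (inv_mem haC) hconjC
  have hp1 : S.f p = 1 := by
    rw [hp, S.f_mul_C (inv_mem haC) hconjC, S.f_inv_C haC, S.f_conj_C hbC haC, ← hcfg.hrs.eq]; group
  have hba : b * a * b⁻¹ = a * p := by rw [hp, mul_inv_cancel_left]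
  have hcp : Commute p a := S.ker_central hpC hp1 haC
  have hp3 : p ^ 3 = 1 := by
    have : (b * a * b⁻¹) ^ 3 = 1 := by rw [conj_pow, ha]; simp
    rwa [hba, hcp.symm.mul_pow, ha, one_mul] at this
  have hpP : p ∈ S.P := S.ker_three hpC hp1 (n := 1) hp3
  have hpne : p ≠ 1 := fun e => S.not_commute_lifts haC hbC ha hb hcfg
    (show Commute a b from (mul_inv_eq_iff_eq_mul.1 (by rw [hba, e, mul_one])).symm)
  have hz : ∀ {x : G}, x ∈ S.C → Commute x S.z := fun hx => (S.mem_C.1 hx).1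
  have hcomm : ∀ {x : G}, x ∈ S.C → x ^ 4 = 1 → Commute (S.f a) (S.f x) → Commute a x := by
    intro x hxC hx4 hc
    have h1 : a * x * a⁻¹ = x ∨ a * x * a⁻¹ = x * S.z := S.two_comm haC hxC (n := 2) hx4 hc
    refine (S.z_commute_three ha (hz hxC) ?_ (hz haC)).symm
    rcases h1 with e | e
    · exact Or.inl (mul_inv_eq_iff_eq_mul.2 (mul_inv_eq_iff_eq_mul.1 e).symm)
    · refine Or.inr ?_
      have e' := mul_inv_eq_iff_eq_mul.1 e
      refine mul_inv_eq_iff_eq_mul.2 ?_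
      calc x * a = x * a * (S.z * S.z) := by rw [S.hE.mul_self_z, mul_one]
        _ = x * (a * S.z) * S.z := by group
        _ = x * (S.z * a) * S.z := by rw [(hz haC).eq]
        _ = a * x * S.z := by rw [e']; group
        _ = a * S.z * x := by rw [mul_assoc, (hz hxC).eq, ← mul_assoc]
  refine ⟨⟨p, a, b, v, w, hpP, orderOf_eq_prime hp3 hpne, haC, hbC, hvC, ha, hb, hba, rfl, hv4,
    hcomm hvC hv4 hcfg.hrv, hcomm hwC ?_ hcfg.hrw, hcfg⟩⟩
  rw [hw, conj_pow, hv4]; simp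

end CfsgLib.JankoFour
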