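import Cfsg.Agent.Lib.JankoFour.Central

/-!
# A conjugate of `z` in the centralizer of `P` (owner: helper14)

If every conjugate of `z` in `C` equals `z`, the classes of `u * x` (`x` in the plane) lead to a contradiction.
-/

set_option autoImplicit false

namespace CfsgLib.JankoFour

open Cfsg CfsgLib.ThreeTrans
open CfsgLib.JankoFour.M22 (Grp)

variable {G : Type*} [Group G] [Finite G]

namespace Frame

variable {S : Setting G} (F : Frame S)
include F

/-- Inner 2-elements centralizing `a` are products of the plane and the lifted four group. -/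
theorem image_form {h : G} (h0 : h ∈ S.H0) (ha : Commute h F.a) (h4 : h ^ 4 = 1) :
    ∃ x ∈ F.W 0, ∃ q, F.IsQ q ∧ h = x * q ∧ S.f h = S.f q := by
  obtain ⟨x, hx, q, hq, y, hy, hxqy, hf⟩ := F.image_q h0 ha h4
  have hy1 : y = 1 := by
    have hqy : Commute q y := (S.mem_C.1 hq.1).2 y hy
    have hxE := (F.mem_W0.1 hx).1
    have hqyz : Commute (q * y) S.z := (F.q_z hq).mul_left (S.P_commute_z hy)
    have e1 := pow_four_conj (x := x) (h := q * y)
    rw [← mul_assoc x, ← hxqy, h4, hqy.mul_pow, hq.2.2, one_mul] at e1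
    have hm : y ^ 4 ∈ S.E := by
      have hX : x * (q * y * x * (q * y)⁻¹) * (q * y * (q * y) * x * (q * y * (q * y))⁻¹) *
          (q * y * (q * y) * (q * y) * x * (q * y * (q * y) * (q * y))⁻¹) ∈ S.E :=
        mul_mem (mul_mem (mul_mem hxE (S.hE.conj_mem hqyz hxE)) (S.hE.conj_mem (hqyz.mul_left hqyz) hxE))
          (S.hE.conj_mem ((hqyz.mul_left hqyz).mul_left hqyz) hxE)
      rw [eq_inv_of_mul_eq_one_right e1.symm]
      exact inv_mem hX
    have h3 := S.P_pow_three hy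
    have : y ^ 4 = y := by rw [pow_succ, h3, one_mul]
    exact S.P_inf_E hy (this ▸ hm)
  rw [hy1, mul_one] at hxqy
  exact ⟨x, hx, q, hq, hxqy, hf⟩

theorem q_of_z : F.IsQ S.z :=
  ⟨S.z_mem_C, (commute_z F.haC).symm, by rw [show (4 : ℕ) = 2 * 2 from rfl, pow_mul, pow_two S.z, S.hE.mul_self_z, one_pow]⟩

/-- The data of the central involution, and the assumption that `C` has no other conjugate of `z`. -/
structure Iso (c0 u : G) : Prop where
  hc0 : F.Pr c0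
  hu : F.T0 u
  u2 : u * u = 1
  hfix : ∀ c, F.Pr c → Commute c u
  hcH : ∀ h, Commute h S.z → Commute h F.a → Commute h u
  ht0 : F.t0 * F.t0 = 1
  ht1 : F.t1 * F.t1 = 1
  hcomm : F.t1 * F.t0 = F.t0 * F.t1
  hno : ∀ g, g * S.z * g⁻¹ ∈ S.C → g * S.z * g⁻¹ = S.z

variable {c0 u : G} (D : F.Iso c0 u)
include D

theorem u_q : F.IsQ u := by
  rcases D.hu with r | r <;> rw [r]
  exacts [F.t0_q, F.q_mul F.t0_q F.q_of_z]

theorem u_f : S.f u = S.f F.t0 := by
  rcases D.hu with r | r <;> rw [r]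
  rw [S.f_mul_C F.t0_q.1 S.z_mem_C, (S.f_eq_one_iff S.z_mem_H0).2 (Subgroup.mem_sup_left S.hE.z_mem), mul_one]

theorem u_W {x : G} (hx : x ∈ F.W 0) : Commute u x := by
  rcases D.hu with r | r <;> rw [r]
  exacts [F.t0_W hx, (F.t0_W hx).mul_left (S.hE.commute_z (F.mem_W0.1 hx).1).symm]

theorem u_t1 : Commute u F.t1 := by
  have h : Commute F.t0 F.t1 := D.hcomm.symm
  rcases D.hu with r | r <;> rw [r]
  exacts [h, h.mul_left (F.q_z F.t1_q).symm]

/-- Elements of the class of `t0` are not conjugate to `z`. -/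
theorem T0_not_isZ {v : G} (hv : F.T0 v) : ¬ S.IsZ v := by
  rintro ⟨g, hg⟩
  have hvC : v ∈ S.C := by
    rcases hv with r | r <;> rw [r]
    exacts [F.t0_q.1, mul_mem F.t0_q.1 S.z_mem_C]
  have h1 := D.hno g (hg ▸ hvC)
  rw [hg] at h1
  refine F.t0_ne ?_
  have hz := (S.f_eq_one_iff S.z_mem_H0).2 (Subgroup.mem_sup_left S.hE.z_mem)
  rcases hv with r | r
  · rw [← r, h1, hz]
  · rw [mul_eq_right.1 (r.symm.trans h1), S.f_one]

theorem T0_mul_z {v : G} (hv : F.T0 v) : F.T0 (v * S.z) := by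
  rcases hv with r | r <;> rw [r]
  · exact Or.inr rfl
  · exact Or.inl (by rw [mul_assoc, S.hE.mul_self_z, mul_one])

omit D in
/-- An element of the plane conjugate to `z` is moved. -/
theorem isZ_moved {x : G} (hx : x ∈ F.W 0) (hZ : S.IsZ x) (hxz : x ≠ S.z) : ¬ Commute F.t1 x := by
  obtain ⟨g, hg⟩ := id hZ
  obtain ⟨f, hf, hfx⟩ : ∃ f ∈ F.W 0, ¬ Commute f x := by
    by_contra hno
    simp only [not_exists, not_and, not_not] at hno
    rcases (F.plane 0).hcenter x hx hno with r | r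
    exacts [S.isZ_ne hZ r, hxz r]
  have ef : f * x * f⁻¹ = S.z * x :=
    ((F.plane 0).hcomm f hf x hx).resolve_left fun r => hfx (mul_inv_eq_iff_eq_mul.1 r)
  have ha1 : F.a ≠ 1 := fun r => F.hab (by rw [r, S.f_one])
  obtain ⟨c, hc, hca⟩ := F.move (g := g) (k := f) F.ha ha1 (by rw [hg]; exact (F.mem_W0.1 hx).2.symm)
    (F.mem_W0.1 hf).2
    (by rw [hg, ef]; exact ((S.hE.commute_z (F.mem_W0.1 hx).1).symm.mul_left (Commute.refl x)))
    (by rw [hg, ef]; exact fun r => S.hE.z_ne_one (mul_eq_right.1 r))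
  rw [hg] at hc
  have := F.moved (c := c) ⟨mul_inv_eq_iff_eq_mul.1 hca, hc ▸ hx, hc ▸ hxz⟩
  rwa [hc] at this

theorem moved_isZ {x : G} (hx : x ∈ F.W 0) (hx2 : x * x = 1) (hxm : ¬ Commute F.t1 x) : S.IsZ x := by
  obtain ⟨k, -, -, hk, -⟩ := F.orbit D.hc0 hx hx2 hxm
  exact ⟨k * c0, by rw [← hk]; group⟩

theorem fix_eq_z {x : G} (hx : x ∈ F.W 0) (hZ : S.IsZ x) (hxt : Commute F.t1 x) : x = S.z := by
  by_contra h
  exact F.isZ_moved hx hZ h hxt

theorem u_moved {x : G} (hx : x ∈ F.W 0) (hx2 : x * x = 1) (hxm : ¬ Commute F.t1 x) : ¬ S.IsZ (u * x) := by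
  intro hZ
  obtain ⟨k, hkz, hka, hk, -⟩ := F.orbit D.hc0 hx hx2 hxm
  refine F.T0_not_isZ D (F.T0_mul_z D D.hu) ?_
  have hku : Commute (k * c0) u := (D.hcH k hkz hka).mul_left (D.hfix c0 D.hc0)
  have e : (k * c0)⁻¹ * (u * x) * (k * c0) = u * S.z := by
    have h1 : (k * c0)⁻¹ * u * (k * c0) = u := by rw [mul_assoc, ← hku.eq, inv_mul_cancel_left]
    calc (k * c0)⁻¹ * (u * x) * (k * c0)
        = ((k * c0)⁻¹ * u * (k * c0)) * ((k * c0)⁻¹ * x * (k * c0)) := by group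
      _ = u * ((k * c0)⁻¹ * (k * (c0 * S.z * c0⁻¹) * k⁻¹) * (k * c0)) := by rw [h1, hk]
      _ = u * S.z := by group
  have := S.isZ_conj hZ (k * c0)⁻¹
  rwa [inv_inv, e] at this

/-- The conjugates of `z` of the form `u * x`. -/
theorem u_isZ {x : G} (hx : x ∈ F.W 0) (hZ : S.IsZ (u * x)) :
    x * x = 1 ∧ Commute F.t1 x ∧ x ≠ 1 ∧ x ≠ S.z := by
  have h2 : x * x = 1 := by
    have := S.isZ_sq hZ
    rwa [(F.u_W D hx).symm.mul_mul_mul_comm, D.u2, one_mul] at this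
  refine ⟨h2, ?_, fun r => ?_, fun r => ?_⟩
  · by_contra hm
    exact F.u_moved D hx h2 hm hZ
  · rw [r, mul_one] at hZ
    exact F.T0_not_isZ D D.hu hZ
  · rw [r] at hZ
    exact F.T0_not_isZ D (F.T0_mul_z D D.hu) hZ

theorem side_not {i : ℕ} (hi : i = 1 ∨ i = 2) {w : G} (hw : w ∈ F.W i) (hwt : Commute F.t0 w) :
    ¬ S.IsZ (w * F.t0) := by
  intro hZ
  obtain ⟨r, hr, e⟩ := (F.plane i).fix_image (F.q_op F.t0_q i) (F.t0_moves hi) hw hwt
  have hrz : Commute r S.z := (F.plane i).hzc r hr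
  have hcases : r⁻¹ * (w * F.t0) * r = F.t0 ∨ r⁻¹ * (w * F.t0) * r = F.t0 * S.z := by
    have h1 : r⁻¹ * (r * (F.t0 * r * F.t0⁻¹) * F.t0) * r = F.t0 * (r * r) := by group
    rcases e with e | e <;> rw [e]
    · rw [h1]
      rcases (F.plane i).hsq r hr with s | s <;> rw [s]
      · exact Or.inl (mul_one _)
      · exact Or.inr rfl
    · rw [show r⁻¹ * (S.z * (r * (F.t0 * r * F.t0⁻¹)) * F.t0) * r =
        (r⁻¹ * S.z) * (r * (F.t0 * r * F.t0⁻¹) * F.t0) * r by group, hrz.inv_left.eq,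
        show S.z * r⁻¹ * (r * (F.t0 * r * F.t0⁻¹) * F.t0) * r = S.z * (F.t0 * (r * r)) by group]
      rcases (F.plane i).hsq r hr with s | s <;> rw [s]
      · exact Or.inr (by rw [mul_one, (F.q_z F.t0_q).eq])
      · exact Or.inl (by rw [(F.q_z F.t0_q).eq, ← mul_assoc, S.hE.mul_self_z, one_mul])
  have := S.isZ_conj hZ r⁻¹
  rw [inv_inv] at this
  exact F.T0_not_isZ D hcases this

/-- Fixed points of `t1` times the other non-trivial elements of the four group. -/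
theorem t1_not {v : G} (hv : v ∈ F.W 0) (hvt : Commute F.t1 v) :
    ¬ S.IsZ (v * F.t1) ∧ ¬ S.IsZ (v * (F.t0 * F.t1)) := by
  have hb : F.b⁻¹ = F.b * F.b := inv_eq_of_mul_eq_one_left (by
    have := F.hb; rwa [pow_succ, pow_two] at this)
  constructor
  · intro hZ
    have hw : F.b⁻¹ * v * F.b ∈ F.W 2 := by
      rw [show F.b⁻¹ * v * F.b = F.b⁻¹ * v * F.b⁻¹⁻¹ by rw [inv_inv], hb,
        show F.b * F.b * v * (F.b * F.b)⁻¹ = F.b * (F.b * v * F.b⁻¹) * F.b⁻¹ by group]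
      exact F.b_W (F.b_W hv)
    have hwt : Commute F.t0 (F.b⁻¹ * v * F.b) := by
      have := (LargeData.commute_conj_iff' (g := F.b⁻¹)).2 hvt
      rwa [inv_inv, show F.b⁻¹ * F.t1 * F.b = F.t0 by rw [show F.t1 = F.b * F.t0 * F.b⁻¹ from rfl]; group] at this
    refine F.side_not D (Or.inr rfl) hw hwt ?_
    have := S.isZ_conj hZ F.b⁻¹
    rwa [inv_inv, show F.b⁻¹ * (v * F.t1) * F.b = (F.b⁻¹ * v * F.b) * F.t0 by
      rw [show F.t1 = F.b * F.t0 * F.b⁻¹ from rfl]; group] at this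
  · intro hZ
    obtain ⟨k, hk, hkz, e⟩ : ∃ k ∈ F.W 0, Commute (F.t0 * F.t1) k ∧ F.t0 * F.t1 = k * (F.b * F.t1 * F.b⁻¹) := by
      rcases F.q_eq (F.q_conj_b F.t1_q) (F.q_mul F.t0_q F.t1_q)
          (by rw [F.four.2.2.1, S.f_mul_C F.t0_q.1 F.t1_q.1]) with r | r
      · exact ⟨1, one_mem _, Commute.one_right _, r.trans (one_mul _).symm⟩
      · exact ⟨S.z, F.z_mem 0, F.q_z (F.q_mul F.t0_q F.t1_q),
          r.trans (F.q_z (F.q_conj_b F.t1_q)).eq⟩
    have hvk : v * k ∈ F.W 0 := mul_mem hv hk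
    have hc : Commute (F.t0 * F.t1) (v * k) := ((F.t0_W hv).mul_left hvt).mul_right hkz
    have hw : (F.b * F.b)⁻¹ * (v * k) * (F.b * F.b) ∈ F.W 1 := by
      rw [← hb, inv_inv]; exact F.b_W hvk
    have hwt : Commute F.t0 ((F.b * F.b)⁻¹ * (v * k) * (F.b * F.b)) := by
      have h2 : Commute (F.b * F.t1 * F.b⁻¹) (v * k) := by
        rw [show F.b * F.t1 * F.b⁻¹ = k⁻¹ * (F.t0 * F.t1) by rw [e, inv_mul_cancel_left]]
        refine Commute.mul_left ?_ hc
        have : Commute k (v * k) := by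
          rcases F.q_eq (F.q_conj_b F.t1_q) (F.q_mul F.t0_q F.t1_q)
              (by rw [F.four.2.2.1, S.f_mul_C F.t0_q.1 F.t1_q.1]) with r | r
          · rw [show k = 1 from mul_eq_right.1 (e.symm.trans r)]; exact Commute.one_left _
          · rw [show k = S.z from mul_right_cancel ((e.symm.trans r).trans (F.q_z (F.q_conj_b F.t1_q)).eq)]
            exact (S.hE.commute_z (F.mem_W0.1 (mul_mem hv (F.z_mem 0))).1).symm
        exact this.inv_left
      have := (LargeData.commute_conj_iff' (g := (F.b * F.b)⁻¹)).2 h2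
      rwa [inv_inv, show (F.b * F.b)⁻¹ * (F.b * F.t1 * F.b⁻¹) * (F.b * F.b) = F.t0 by
        rw [show F.t1 = F.b * F.t0 * F.b⁻¹ from rfl]; group] at this
    refine F.side_not D (Or.inl rfl) hw hwt ?_
    have := S.isZ_conj hZ (F.b * F.b)⁻¹
    rwa [inv_inv, e, show (F.b * F.b)⁻¹ * (v * (k * (F.b * F.t1 * F.b⁻¹))) * (F.b * F.b) =
      ((F.b * F.b)⁻¹ * (v * k) * (F.b * F.b)) * F.t0 by
        rw [show F.t1 = F.b * F.t0 * F.b⁻¹ from rfl]; group] at this

/-- Inner conjugates of `z` outside `E` that centralize `a` lie in `u * W 0`. -/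
theorem inner_isZ {h : G} (h0 : h ∈ S.H0) (ha : Commute h F.a) (hZ : S.IsZ h) (hf : S.f h ≠ 1) :
    ∃ x ∈ F.W 0, h = u * x := by
  have h2 := S.isZ_sq hZ
  obtain ⟨x, hx, q, hq, e, ef⟩ := F.image_form h0 ha (by
    rw [show (4 : ℕ) = 2 * 2 from rfl, pow_mul, pow_two h, h2, one_pow])
  have hP := F.plane 0
  -- an involution `x * q` with `q` moving forces `x` to be fixed
  have key : ∀ {x q}, x ∈ F.W 0 → F.IsQ q → q * q = 1 → h = x * q → Commute q x := by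
    intro x q hx hq hq2 e
    refine hP.op_fix_exact (F.q_op hq 0) hx ?_
    have e1 : q * x * q⁻¹ = x⁻¹ := by
      refine eq_inv_of_mul_eq_one_right ?_
      rw [e] at h2
      rw [inv_eq_of_mul_eq_one_left hq2]
      rw [← h2]; group
    rw [e1]
    rcases hP.hsq x hx with s | s
    · exact Or.inl (inv_eq_of_mul_eq_one_left s)
    · exact Or.inr (inv_eq_of_mul_eq_one_left (by rw [mul_assoc, s, S.hE.mul_self_z]))
  have absorb : ∀ {q'}, F.IsQ q' → S.f q' = S.f q → ∃ x' ∈ F.W 0, h = x' * q' := by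
    intro q' hq' ee
    rcases F.q_eq hq' hq ee with r | r
    · exact ⟨x, hx, by rw [e, r]⟩
    · exact ⟨x * S.z, mul_mem hx (F.z_mem 0), by rw [e, r, (F.q_z hq').eq, mul_assoc]⟩
  rcases F.four.2.2.2 q hq with r | r | r | r
  · exact absurd (ef.trans r) hf
  · obtain ⟨x', hx', e'⟩ := absorb (F.u_q D) ((F.u_f D).trans r.symm)
    exact ⟨x', hx', e'.trans (F.u_W D hx').eq.symm⟩
  · exfalso
    obtain ⟨x', hx', e'⟩ := absorb F.t1_q r.symm
    exact (F.t1_not D hx' (key hx' F.t1_q D.ht1 e')).1 (e' ▸ hZ)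
  · exfalso
    have hq' := F.q_mul F.t0_q F.t1_q
    obtain ⟨x', hx', e'⟩ := absorb hq' (by rw [r, S.f_mul_C F.t0_q.1 F.t1_q.1])
    have hcm : Commute F.t0 F.t1 := D.hcomm.symm
    have hk := key hx' hq' (by rw [hcm.symm.mul_mul_mul_comm, D.ht0, D.ht1, one_mul]) e'
    have hkk := ((F.t0_W hx').inv_left).mul_left hk
    rw [inv_mul_cancel_left] at hkk
    exact (F.t1_not D hx' hkk).2 (e' ▸ hZ)

omit D in
/-- The elements `v * u ^ i * t1 ^ j`. -/
def InPsi (u l : G) : Prop := ∃ v ∈ F.W 0, Commute F.t1 v ∧ ∃ i j : ℕ, l = v * u ^ i * F.t1 ^ j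

/-- The elementary abelian group of order 32. -/
theorem exists_psi : ∃ Ψ : Subgroup G, (∀ l, l ∈ Ψ ↔ F.InPsi u l) ∧ 32 ≤ Nat.card Ψ ∧
    ∀ l ∈ Ψ, l * l = 1 ∧ Commute l S.z ∧ Commute l F.a := by
  classical
  have hP := F.plane 0
  have hu1 := F.u_t1 D
  have sq : ∀ {l}, F.InPsi u l → l * l = 1 := by
    rintro l ⟨v, hv, hvt, i, j, rfl⟩
    have c1 : Commute v (u ^ i) := (F.u_W D hv).symm.pow_right i
    have c2 : Commute (v * u ^ i) (F.t1 ^ j) := (hvt.symm.mul_left (hu1.pow_left i)).pow_right j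
    rw [c2.symm.mul_mul_mul_comm, c1.symm.mul_mul_mul_comm,
      hP.fix_sq (F.q_op F.t1_q 0) F.t1_moves hv hvt, ← (Commute.refl u).mul_pow, D.u2, one_pow, one_mul,
      ← (Commute.refl F.t1).mul_pow, D.ht1, one_pow, one_mul]
  let Ψ : Subgroup G :=
    { carrier := {l | F.InPsi u l}
      one_mem' := ⟨1, one_mem _, Commute.one_right _, 0, 0, by simp⟩
      mul_mem' := by
        rintro _ _ ⟨v, hv, hvt, i, j, rfl⟩ ⟨v', hv', hvt', i', j', rfl⟩
        refine ⟨v * v', mul_mem hv hv', hvt.mul_right hvt', i + i', j + j', ?_⟩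
        have c1 : Commute (F.t1 ^ j) (v' * u ^ i') := (hvt'.mul_right (hu1.symm.pow_right i')).pow_left j
        have c2 : Commute (u ^ i) v' := (F.u_W D hv').pow_left i
        calc v * u ^ i * F.t1 ^ j * (v' * u ^ i' * F.t1 ^ j')
            = v * u ^ i * (F.t1 ^ j * (v' * u ^ i')) * F.t1 ^ j' := by group
          _ = v * u ^ i * (v' * u ^ i' * F.t1 ^ j) * F.t1 ^ j' := by rw [c1.eq]
          _ = v * (u ^ i * v') * u ^ i' * (F.t1 ^ j * F.t1 ^ j') := by group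
          _ = v * (v' * u ^ i) * u ^ i' * (F.t1 ^ j * F.t1 ^ j') := by rw [c2.eq]
          _ = v * v' * (u ^ i * u ^ i') * (F.t1 ^ j * F.t1 ^ j') := by group
          _ = _ := by rw [← pow_add, ← pow_add]
      inv_mem' := fun {l} hl => by
        rw [Set.mem_setOf_eq, inv_eq_of_mul_eq_one_left (sq hl)]; exact hl }
  refine ⟨Ψ, fun l => Iff.rfl, ?_, fun l hl => ⟨sq hl, ?_⟩⟩
  · let V := F.W 0 ⊓ Subgroup.centralizer ({F.t1} : Set G)
    have hV : Nat.card V = 8 := hP.card_fix (F.q_op F.t1_q 0) F.t1_moves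
    have hm : ∀ v : ↥V, (v : G) ∈ F.W 0 ∧ Commute F.t1 (v : G) := fun v =>
      ⟨v.2.1, (mem_centralizer_singleton_iff'.1 v.2.2).symm⟩
    let Φ : ↥V × Fin 2 × Fin 2 → ↥Ψ := fun q =>
      ⟨(q.1 : G) * u ^ (q.2.1 : ℕ) * F.t1 ^ (q.2.2 : ℕ), q.1, (hm q.1).1, (hm q.1).2, q.2.1, q.2.2, rfl⟩
    have hΦ : Function.Injective Φ := by
      rintro ⟨v, i, j⟩ ⟨v', i', j'⟩ r
      have r' : (v : G) * u ^ (i : ℕ) * F.t1 ^ (j : ℕ) = v' * u ^ (i' : ℕ) * F.t1 ^ (j' : ℕ) :=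
        congrArg Subtype.val r
      have hf : ∀ (v : ↥V) (i j : ℕ),
          S.f ((v : G) * u ^ i * F.t1 ^ j) = S.f F.t0 ^ i * S.f F.t1 ^ j := by
        intro v i j
        have hvE := (F.mem_W0.1 (hm v).1).1
        have hu0 := S.C_le_H0 (pow_mem (F.u_q D).1 i)
        rw [S.f_mul (mul_mem (S.hEH0 hvE) hu0) (S.C_le_H0 (pow_mem F.t1_q.1 j)), S.f_mul (S.hEH0 hvE) hu0,
          (S.f_eq_one_iff (S.hEH0 hvE)).2 (Subgroup.mem_sup_left hvE), one_mul, S.f_pow_C (F.u_q D).1,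
          S.f_pow_C F.t1_q.1, F.u_f D]
      have e := congrArg S.f r'
      rw [hf, hf] at e
      obtain ⟨f1, f2, -, -⟩ := F.four
      have f3 : S.f F.t0 * S.f F.t1 ≠ 1 := fun h => f2 (by
        rw [eq_inv_of_mul_eq_one_right h]
        exact inv_eq_of_mul_eq_one_left (F.q_sq_one F.t0_q))
      have hij : i = i' ∧ j = j' := by
        fin_cases i <;> fin_cases i' <;> fin_cases j <;> fin_cases j' <;>
          simp [F.t0_ne, F.t0_ne.symm, f1, f1.symm, f2, f2.symm, f3, f3.symm] at e ⊢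
      obtain ⟨rfl, rfl⟩ := hij
      rw [mul_left_inj, mul_left_inj] at r'
      rw [Subtype.ext r']
    have := Nat.card_le_card_of_injective Φ hΦ
    rw [Nat.card_prod, Nat.card_prod, hV] at this
    simpa using this
  · obtain ⟨v, hv, -, i, j, rfl⟩ := hl
    obtain ⟨hvE, hva⟩ := F.mem_W0.1 hv
    exact ⟨((S.hE.commute_z hvE).mul_left ((F.q_z (F.u_q D)).pow_left i)).mul_left ((F.q_z F.t1_q).pow_left j),
      (hva.mul_left ((F.u_q D).2.1.pow_left i)).mul_left (F.t1_q.2.1.pow_left j)⟩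

/-- Conjugates of `z` in that group. -/
theorem psi_isZ {l : G} (hl : F.InPsi u l) (hZ : S.IsZ l) :
    l = S.z ∨ ∃ v ∈ F.W 0, Commute F.t1 v ∧ l = u * v := by
  obtain ⟨v, hv, hvt, i, j, rfl⟩ := hl
  rw [pow_eq_pow_mod i (show u ^ 2 = 1 by rw [pow_two, D.u2]),
    pow_eq_pow_mod j (show F.t1 ^ 2 = 1 by rw [pow_two, D.ht1])] at hZ ⊢
  rcases Nat.mod_two_eq_zero_or_one i with r | r <;> rcases Nat.mod_two_eq_zero_or_one j with r' | r' <;>
    rw [r, r'] at hZ ⊢ <;> simp only [pow_zero, pow_one, mul_one] at hZ ⊢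
  · exact Or.inl (F.fix_eq_z D hv hZ hvt)
  · exact absurd hZ (F.t1_not D hv hvt).1
  · exact Or.inr ⟨v, hv, hvt, (F.u_W D hv).eq.symm⟩
  · exfalso
    rcases D.hu with s | s <;> rw [s] at hZ
    · exact (F.t1_not D hv hvt).2 (by rwa [mul_assoc] at hZ)
    · refine (F.t1_not D (mul_mem hv (F.z_mem 0)) (hvt.mul_right (F.q_z F.t1_q))).2 ?_
      rwa [show v * S.z * (F.t0 * F.t1) = v * (S.z * F.t0) * F.t1 by group, ← (F.q_z F.t0_q).eq]

/-- No conjugate of `z` has the form `u * x`. -/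
theorem no_u_isZ {x : G} (hx : x ∈ F.W 0) : ¬ S.IsZ (u * x) := by
  classical
  haveI : Fact (Nat.Prime 2) := ⟨Nat.prime_two⟩
  intro hZ
  obtain ⟨hx2, hxt, hx1, hxz⟩ := F.u_isZ D hx hZ
  have hP := F.plane 0
  have hmove : ∀ {x}, x ∈ F.W 0 → x ≠ 1 → x ≠ S.z → ∃ w ∈ F.W 0, w * (u * x) * w⁻¹ = S.z * (u * x) := by
    intro x hx hx1 hxz
    obtain ⟨w, hw, hwx⟩ : ∃ w ∈ F.W 0, ¬ Commute w x := by
      by_contra hno
      simp only [not_exists, not_and, not_not] at hno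
      rcases hP.hcenter x hx hno with r | r
      exacts [hx1 r, hxz r]
    have ew : w * x * w⁻¹ = S.z * x := (hP.hcomm w hw x hx).resolve_left fun r => hwx (mul_inv_eq_iff_eq_mul.1 r)
    refine ⟨w, hw, ?_⟩
    rw [show w * (u * x) * w⁻¹ = (w * u) * x * w⁻¹ by group, ← (F.u_W D hw).eq,
      show u * w * x * w⁻¹ = u * (w * x * w⁻¹) by group, ew, ← mul_assoc, (F.q_z (F.u_q D)).eq, mul_assoc]
  set y := u * x with hy
  have hxE := (F.mem_W0.1 hx).1
  have hyz : Commute y S.z := (F.q_z (F.u_q D)).mul_left (S.hE.commute_z hxE)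
  have hya : Commute y F.a := (F.u_q D).2.1.mul_left (F.mem_W0.1 hx).2
  have hfy : S.f y = S.f F.t0 := by
    rw [hy, S.f_mul (S.C_le_H0 (F.u_q D).1) (S.hEH0 hxE),
      (S.f_eq_one_iff (S.hEH0 hxE)).2 (Subgroup.mem_sup_left hxE), mul_one, F.u_f D]
  have hy0 : y ∈ S.H0 := mul_mem (S.C_le_H0 (F.u_q D).1) (S.hEH0 hxE)
  have hyE : y ∉ S.E := fun h => F.t0_ne (hfy ▸ (S.f_eq_one_iff hy0).2 (Subgroup.mem_sup_left h))
  -- a frame at `y`
  obtain ⟨g, hg⟩ := id hZ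
  obtain ⟨w, hw, hwy⟩ := hmove hx hx1 hxz
  have ha1 : F.a ≠ 1 := fun r => F.hab (by rw [r, S.f_one])
  obtain ⟨c, hc, hca⟩ := F.move (g := g) (k := w) F.ha ha1 (by rw [hg]; exact hya.symm) (F.mem_W0.1 hw).2
    (by rw [hg, hwy]; exact hyz.symm.mul_left (Commute.refl y))
    (by rw [hg, hwy]; exact fun r => S.hE.z_ne_one (mul_eq_right.1 r))
  rw [hg] at hc
  have hcA : Commute c F.a := mul_inv_eq_iff_eq_mul.1 hca
  have hback : ∀ {l}, Commute l y → Commute (c⁻¹ * l * c) S.z := fun {l} h =>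
    S.back_z (g := c) (by rw [hc]; exact h)
  have hbacka : ∀ {l}, Commute l F.a → Commute (c⁻¹ * l * c) F.a := fun {l} h => by
    have := F.conj_a hcA.inv_left h
    rwa [inv_inv] at this
  set z1 := c⁻¹ * S.z * c with hz1
  have hz1z : Commute z1 S.z := hback hyz.symm
  have hz1a : Commute z1 F.a := hbacka (commute_z F.haC).symm
  have hz1E : z1 ∉ S.E := fun h => by
    have hne : z1 ≠ S.z := fun r => hyE (by
      have e : y = S.z := by
        calc y = c * S.z * c⁻¹ := hc.symm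
          _ = c * z1 * c⁻¹ := by rw [r]
          _ = S.z := by rw [hz1]; group
      rw [e]; exact S.hE.z_mem)
    have hpr : F.Pr c⁻¹ := ⟨hcA.inv_left, by rw [inv_inv]; exact F.mem_W0.2 ⟨h, hz1a⟩, by rw [inv_inv]; exact hne⟩
    have h' := hpr.symm.2.1
    rw [inv_inv, hc] at h'
    exact hyE (F.mem_W0.1 h').1
  -- it is inner
  have hz10 : z1 ∈ S.H0 := by
    obtain ⟨r, hr, s, hs, hrx, hsx, e⟩ := hP.centralizer_nonabelian hx hx1 hxz
    have := S.comm_inner (g := c) (u := r) (v := s)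
      (by rw [hc]; exact ((F.u_W D hr).symm.mul_right hrx)) (by rw [hc]; exact ((F.u_W D hs).symm.mul_right hsx))
    rwa [e] at this
  have hz1Z : S.IsZ z1 := by
    have := S.isZ_conj (⟨1, by group⟩ : S.IsZ S.z) c⁻¹
    rwa [inv_inv] at this
  have hz1f : S.f z1 ≠ 1 := fun r => hz1E
    (S.two_mem_E ((S.f_eq_one_iff hz10).1 r) (n := 1) (by rw [pow_one, pow_two, S.isZ_sq hz1Z]))
  obtain ⟨x1, hx1W, ez1⟩ := F.inner_isZ D hz10 hz1a hz1Z hz1f
  obtain ⟨-, hx1t, hx11, hx1z⟩ := F.u_isZ D hx1W (ez1 ▸ hz1Z)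
  -- the elementary group of order 32 and its part in the plane
  obtain ⟨Ψ, hmem, hcard, hΨ⟩ := F.exists_psi D
  have hzΨ : S.z ∈ Ψ := (hmem _).2 ⟨S.z, F.z_mem 0, F.q_z F.t1_q, 0, 0, by simp⟩
  have hyΨ : y ∈ Ψ := (hmem _).2 ⟨x, hx, hxt, 1, 0, by rw [pow_one, pow_zero, mul_one, hy, (F.u_W D hx).eq]⟩
  have hΨc : ∀ l ∈ Ψ, ∀ l' ∈ Ψ, Commute l l' := fun l hl l' hl' =>
    hP.comm_of_sq (hΨ l hl).1 (hΨ l' hl').1 (hΨ _ (mul_mem hl hl')).1
  have hfixed : ∀ n ∈ F.W 0, c * n * c⁻¹ ∈ Ψ → Commute F.t1 n := by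
    intro n hn hnΨ
    by_contra hm
    have hn2 : n * n = 1 := by
      have := (hΨ _ hnΨ).1
      rwa [conj_mul, conj_eq_one_iff] at this
    have hnz : Commute n S.z := S.hE.commute_z (F.mem_W0.1 hn).1
    have hZn := F.moved_isZ D hn hn2 hm
    have hZzn := F.moved_isZ D (mul_mem (F.z_mem 0) hn)
      (by rw [hnz.mul_mul_mul_comm, S.hE.mul_self_z, hn2, one_mul])
      (fun h => hm (by
        have := (F.q_z F.t1_q).inv_right.mul_right h
        rwa [inv_mul_cancel_left] at this))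
    rcases F.psi_isZ D ((hmem _).1 hnΨ) (S.isZ_conj hZn c) with r | ⟨v, hv, hvt, r⟩
    · exact hz1E (by rw [hz1, ← r, show c⁻¹ * (c * n * c⁻¹) * c = n by group]; exact (F.mem_W0.1 hn).1)
    · have e : c * (S.z * n) * c⁻¹ = x * v := by
        rw [show c * (S.z * n) * c⁻¹ = (c * S.z * c⁻¹) * (c * n * c⁻¹) by group, hc, r,
          show u * x * (u * v) = u * (x * u) * v by group, ← (F.u_W D hx).eq,
          show u * (u * x) * v = u * u * (x * v) by group, D.u2, one_mul]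
      have h' := F.fix_eq_z D (mul_mem hx hv) (e ▸ S.isZ_conj hZzn c) (hxt.mul_right hvt)
      refine hz1E ?_
      rw [hz1, ← h', ← e, show c⁻¹ * (c * (S.z * n) * c⁻¹) * c = S.z * n by group]
      exact mul_mem S.hE.z_mem (F.mem_W0.1 hn).1
  -- the fixed points of `t1` are sent into the group
  have hV : ∀ v ∈ F.W 0, Commute F.t1 v → c * v * c⁻¹ ∈ Ψ := by
    have hcy : ∀ l ∈ Ψ, Commute l (c * S.z * c⁻¹) := fun l hl => by rw [hc]; exact hΨc l hl y hyΨ
    obtain ⟨M, hMΨ, hin, k, hk, hrange⟩ : ∃ M : Subgroup G, M ≤ Ψ ∧ (∀ l ∈ M, c⁻¹ * l * c ∈ S.H0) ∧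
        ∃ k, 8 * k ≤ Nat.card M ∧ ∃ Ω : Finset Grp, Ω.card ≤ k ∧ ∀ l ∈ M, S.f (c⁻¹ * l * c) ∈ Ω := by
      by_cases hall : ∀ l ∈ Ψ, c⁻¹ * l * c ∈ S.H0
      · refine ⟨Ψ, le_rfl, hall, 4, by omega, {1, S.f F.t0, S.f F.t1, S.f F.t0 * S.f F.t1}, Finset.card_le_four,
          fun l hl => ?_⟩
        simpa using F.image_cases (hall l hl) (hbacka (hΨ l hl).2.2) (by
          rw [show (4 : ℕ) = 2 * 2 from rfl, pow_mul, pow_two (c⁻¹ * l * c), ← back_mul, (hΨ l hl).1]; simp)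
      · simp only [not_forall] at hall
        obtain ⟨o, ho, ho0⟩ := hall
        obtain ⟨L0, h1, h2, h3⟩ := S.inner_part hcy
        refine ⟨L0, h1, h3, 2, by omega, {1, S.f F.t0}, Finset.card_le_two, fun l hl => ?_⟩
        have hcl : Commute (c⁻¹ * o * c) (c⁻¹ * l * c) := by
          have := (LargeData.commute_conj_iff' (g := c⁻¹)).2 (hΨc o ho l (h1 hl))
          rwa [inv_inv] at this
        simpa using F.image_outer (h3 l hl) (hbacka (hΨ l (h1 hl)).2.2) (by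
          rw [show (4 : ℕ) = 2 * 2 from rfl, pow_mul, pow_two (c⁻¹ * l * c), ← back_mul, (hΨ l (h1 hl)).1]; simp)
          (S.back_z (hcy o ho)) ho0 (hbacka (hΨ o ho).2.2) hcl
    obtain ⟨Ω, hΩ, hrange⟩ := hrange
    let φ : ↥M →* Grp := MonoidHom.mk' (fun l => S.f (c⁻¹ * l * c)) fun a b => by
      rw [← S.f_mul (hin _ a.2) (hin _ b.2)]
      exact congrArg S.f (back_mul c a b)
    have hr : Nat.card φ.range ≤ k := by
      refine le_trans ?_ hΩ
      rw [← Nat.card_eq_finsetCard]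
      refine Nat.card_le_card_of_injective (fun q : ↥φ.range => (⟨(q : Grp), ?_⟩ : ↥Ω))
        (fun a b e => Subtype.ext (congrArg (fun q : ↥Ω => (q : Grp)) e :))
      obtain ⟨l, hl⟩ := q.2
      rw [← hl]
      exact hrange l l.2
    have hker8 : 8 ≤ Nat.card φ.ker := by
      have h := φ.ker.card_mul_index
      rw [Subgroup.index_ker] at h
      have hpos : 0 < Nat.card φ.range := Nat.card_pos
      by_contra hlt
      have : Nat.card φ.ker * Nat.card φ.range ≤ 7 * k := Nat.mul_le_mul (by omega) hr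
      omega
    let V := F.W 0 ⊓ Subgroup.centralizer ({F.t1} : Set G)
    have hVc : Nat.card V = 8 := hP.card_fix (F.q_op F.t1_q 0) F.t1_moves
    have hker : ∀ l : ↥φ.ker, c⁻¹ * ((l : ↥M) : G) * c ∈ V := fun l => by
      have hl : ((l : ↥M) : G) ∈ M := (l : ↥M).2
      have hlΨ := hMΨ hl
      have hE : c⁻¹ * ((l : ↥M) : G) * c ∈ S.E :=
        S.two_mem_E ((S.f_eq_one_iff (hin _ hl)).1 (MonoidHom.mem_ker.1 l.2)) (n := 1)
          (by rw [pow_one, pow_two, ← back_mul, (hΨ _ hlΨ).1]; simp)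
      have hW := F.mem_W0.2 ⟨hE, hbacka (hΨ _ hlΨ).2.2⟩
      refine ⟨hW, mem_centralizer_singleton_iff'.2 (hfixed _ hW ?_).symm⟩
      rwa [show c * (c⁻¹ * ((l : ↥M) : G) * c) * c⁻¹ = ((l : ↥M) : G) by group]
    let θ : ↥φ.ker → ↥V := fun l => ⟨_, hker l⟩
    have hθ : Function.Injective θ := fun a b r => by
      have := congrArg Subtype.val r
      exact Subtype.ext (Subtype.ext (mul_left_cancel (mul_right_cancel this)))
    intro v hv hvt
    obtain ⟨l, hl⟩ := (hθ.bijective_of_nat_card_le (by omega)).2 ⟨v, hv, mem_centralizer_singleton_iff'.2 hvt.symm⟩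
    rw [← show c⁻¹ * ((l : ↥M) : G) * c = v from congrArg Subtype.val hl,
      show c * (c⁻¹ * ((l : ↥M) : G) * c) * c⁻¹ = ((l : ↥M) : G) by group]
    exact hMΨ (l : ↥M).2
  -- the contradiction
  set l := pc F.p x1 with hl
  have hlW : l ∈ F.W 0 := hP.hpW x1 hx1W
  have hlt : Commute F.t1 l :=
    ((F.commute_p F.t1_q.1).mul_right hx1t).mul_right (F.commute_p F.t1_q.1).inv_right
  have hpu : F.p * u * F.p⁻¹ = u := by rw [← (F.commute_p (F.u_q D).1).eq, mul_inv_cancel_right]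
  have epl : u * l = F.p * z1 * F.p⁻¹ := by
    rw [ez1, show F.p * (u * x1) * F.p⁻¹ = (F.p * u * F.p⁻¹) * (F.p * x1 * F.p⁻¹) by group, hpu]
  have hZl : S.IsZ (u * l) := epl ▸ S.isZ_conj hz1Z F.p
  have hZzl : S.IsZ (S.z * (u * l)) := by
    obtain ⟨w', hw', e⟩ := hmove hx1W hx11 hx1z
    have := S.isZ_conj (S.isZ_conj (ez1 ▸ hz1Z) w') F.p
    rw [e, show F.p * (S.z * (u * x1)) * F.p⁻¹ = (F.p * S.z * F.p⁻¹) * (F.p * (u * x1) * F.p⁻¹) by group,
      (S.P_commute_z F.hpP).eq, mul_inv_cancel_right, ← ez1, ← epl] at this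
    exact this
  have hhΨ : c * (u * l) * c⁻¹ ∈ Ψ := by
    rw [show c * (u * l) * c⁻¹ = c * (u * x1) * c⁻¹ * (c * (x1⁻¹ * l) * c⁻¹) by group, ← ez1, hz1,
      show c * (c⁻¹ * S.z * c) * c⁻¹ = S.z by group]
    exact mul_mem hzΨ (hV _ (mul_mem (inv_mem hx1W) hlW) (hx1t.inv_right.mul_right hlt))
  rcases F.psi_isZ D ((hmem _).1 hhΨ) (S.isZ_conj hZl c) with r | ⟨v, hv, hvt, r⟩
  · have e : u * l = z1 := by rw [hz1, ← r]; group
    rw [ez1] at e
    exact (hP.pc_ne hx1W hx11 hx1z).1 (mul_left_cancel e)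
  · have e : c * (S.z * (u * l)) * c⁻¹ = x * v := by
      rw [show c * (S.z * (u * l)) * c⁻¹ = (c * S.z * c⁻¹) * (c * (u * l) * c⁻¹) by group, hc, r,
        show u * x * (u * v) = u * (x * u) * v by group, ← (F.u_W D hx).eq,
        show u * (u * x) * v = u * u * (x * v) by group, D.u2, one_mul]
    have h' := F.fix_eq_z D (mul_mem hx hv) (e ▸ S.isZ_conj hZzl c) (hxt.mul_right hvt)
    have e' : S.z * (u * l) = z1 := by
      rw [hz1, show S.z * (u * l) = c⁻¹ * (c * (S.z * (u * l)) * c⁻¹) * c by group, e, h']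
    rw [ez1, ← mul_assoc, ← (F.q_z (F.u_q D)).eq, mul_assoc] at e'
    refine (hP.pc_ne hx1W hx11 hx1z).2 ?_
    show l = S.z * x1
    rw [← mul_left_cancel e', ← mul_assoc, S.hE.mul_self_z, one_mul]

/-- Some element of the second plane gives a conjugate of `z` outside `E`. -/
theorem exists_u_isZ : ∃ x ∈ F.W 0, S.IsZ (u * x) := by
  have hP := F.plane 1
  have hop := F.q_op F.t0_q 1
  have hm := F.t0_moves (i := 1) (Or.inl rfl)
  have hc0 := D.hc0
  -- moved involutions of the second plane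
  have hZ1 : ∀ {f}, f ∈ F.W 1 → f * f = 1 → ¬ Commute F.t0 f → S.IsZ f := by
    intro f hf hf2 hft
    have hf' : F.b⁻¹ * f * F.b ∈ F.W 0 := by
      have hb : F.b⁻¹ = F.b * F.b := inv_eq_of_mul_eq_one_left (by
        have := F.hb; rwa [pow_succ, pow_two] at this)
      rw [show F.b⁻¹ * f * F.b = F.b⁻¹ * f * F.b⁻¹⁻¹ by rw [inv_inv], hb,
        show F.b * F.b * f * (F.b * F.b)⁻¹ = F.b * (F.b * f * F.b⁻¹) * F.b⁻¹ by group, ← F.W_one (i := 3) (by norm_num)]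
      exact F.b_W (F.b_W hf)
    have h2 : F.b⁻¹ * f * F.b * (F.b⁻¹ * f * F.b) = 1 := by rw [← back_mul, hf2]; simp
    have hnot : ¬ Commute F.t1 (F.b⁻¹ * f * F.b) := by
      intro h
      refine hft ?_
      have h3 := (LargeData.commute_conj_iff' (g := F.b)).2 h
      rw [show F.b * (F.b⁻¹ * f * F.b) * F.b⁻¹ = f by group] at h3
      rcases F.q_eq (F.q_conj_b F.t1_q) (F.q_mul F.t0_q F.t1_q)
          (by rw [F.four.2.2.1, S.f_mul_C F.t0_q.1 F.t1_q.1]) with r | r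
      · rw [← r] at h3
        have h4 := h3.mul_left (F.t1_kills f hf).inv_left
        rwa [mul_inv_cancel_right] at h4
      · have h4 := (h3.mul_left (hP.hzc f hf).symm).mul_left (F.t1_kills f hf).inv_left
        rwa [← r, mul_inv_cancel_right] at h4
    have := S.isZ_conj (F.moved_isZ D hf' h2 hnot) F.b
    rwa [show F.b * (F.b⁻¹ * f * F.b) * F.b⁻¹ = f by group] at this
  -- a pair that does not commute
  obtain ⟨f, hf, hf2, hft⟩ := hP.exists_moved hop hm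
  set f' := F.t0 * f * F.t0⁻¹ with hf'
  have hf'W : f' ∈ F.W 1 := F.q_W F.t0_q hf
  have hf'2 : f' * f' = 1 := conj_sq hf2
  have hf't : ¬ Commute F.t0 f' := fun h => hft (LargeData.commute_conj_iff'.1 (by
    rw [show F.t0 * F.t0 * F.t0⁻¹ = F.t0 by group]; exact h))
  have hpW := hP.hpW f hf
  have hp2 : pc F.p f * pc F.p f = 1 := conj_sq hf2
  have htp : F.p * F.t0 * F.p⁻¹ = F.t0 := by rw [← (F.commute_p F.t0_q.1).eq, mul_inv_cancel_right]
  have hpt : ¬ Commute F.t0 (pc F.p f) := fun h => hft ((LargeData.commute_conj_iff' (g := F.p)).1 (by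
    rw [htp]; exact h))
  obtain ⟨f1, f2, hf1, hf11, hf1t, hf2', hf22, hf2t, hnc⟩ : ∃ f1 f2, f1 ∈ F.W 1 ∧ f1 * f1 = 1 ∧
      ¬ Commute F.t0 f1 ∧ f2 ∈ F.W 1 ∧ f2 * f2 = 1 ∧ ¬ Commute F.t0 f2 ∧ ¬ Commute f1 f2 := by
    by_contra hcon
    have hc1 : Commute f' f := by
      by_contra h; exact hcon ⟨f', f, hf'W, hf'2, hf't, hf, hf2, hft, h⟩
    have hc2 : Commute f' (pc F.p f) := by
      by_contra h; exact hcon ⟨f', _, hf'W, hf'2, hf't, hpW, hp2, hpt, h⟩
    have hf1 : f ≠ 1 := fun r => hft (r ▸ Commute.one_right _)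
    have hfz : f ≠ S.z := fun r => hft (r ▸ F.q_z F.t0_q)
    obtain ⟨n1, n2⟩ := hP.pc_ne hf hf1 hfz
    have hinv : F.t0 * f' * F.t0⁻¹ = f := hP.op_involutive hop hm hf
    have hpp : ∀ X, F.t0 * pc F.p X * F.t0⁻¹ = pc F.p (F.t0 * X * F.t0⁻¹) := fun X => by
      have hc := F.commute_p F.t0_q.1
      show F.t0 * (F.p * X * F.p⁻¹) * F.t0⁻¹ = F.p * (F.t0 * X * F.t0⁻¹) * F.p⁻¹
      rw [show F.t0 * (F.p * X * F.p⁻¹) * F.t0⁻¹ = (F.t0 * F.p) * X * (F.t0 * F.p)⁻¹ by group, hc.eq]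
      group
    have hpz : ∀ X, F.t0 * (S.z * X) * F.t0⁻¹ = S.z * (F.t0 * X * F.t0⁻¹) := fun X => by
      rw [show F.t0 * (S.z * X) * F.t0⁻¹ = (F.t0 * S.z) * X * F.t0⁻¹ by group, (F.q_z F.t0_q).eq]
      group
    have pz : ∀ X, pc F.p (S.z * X) = S.z * pc F.p X := fun X => by rw [pc_mul, hP.pc_z]
    have h3 := hP.pc_three f
    have zz : ∀ X : G, S.z * (S.z * X) = X := fun X => by rw [← mul_assoc, S.hE.mul_self_z, one_mul]
    rcases hP.line_centralizer hop hm hf hf2 hft hf'W hc1 hc2 with (r | r) | r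
    · exact hf't (r ▸ Commute.one_right _)
    · exact hf't (r ▸ F.q_z F.t0_q)
    rcases r with r | r | r | r | r | r
    · exact hft (mul_inv_eq_iff_eq_mul.1 r)
    · exact hft (hP.op_fix_exact hop hf (Or.inr r))
    all_goals
      have e := hinv
      rw [r] at e
      simp only [hpp, hpz, ← hf', r, pz, zz] at e
    · exact n1 (by conv_rhs => rw [← h3]
                   rw [e])
    · exact n1 (by conv_rhs => rw [← h3]
                   rw [e])
    · rw [h3] at e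
      exact n1 e
    · rw [h3] at e
      exact n1 e
  -- they do not both go into `E`
  obtain ⟨f, hf, hf2, hft, hfE⟩ : ∃ f ∈ F.W 1, f * f = 1 ∧ ¬ Commute F.t0 f ∧ c0 * f * c0⁻¹ ∉ S.E := by
    by_contra hcon
    simp only [not_exists, not_and, not_not] at hcon
    have h1 := hcon f1 hf1 hf11 hf1t
    have h2 := hcon f2 hf2' hf22 hf2t
    have e := S.hE.comm_mem h1 h2
    rw [show c0 * f1 * c0⁻¹ * (c0 * f2 * c0⁻¹) * (c0 * f1 * c0⁻¹)⁻¹ * (c0 * f2 * c0⁻¹)⁻¹ =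
      c0 * (f1 * f2 * f1⁻¹ * f2⁻¹) * c0⁻¹ by group] at e
    rcases hP.hcomm f1 hf1 f2 hf2' with r | r
    · exact hnc (mul_inv_eq_iff_eq_mul.1 r)
    · rw [r, mul_inv_cancel_right] at e
      rcases S.hE.eq_or e with s | s
      · exact S.hE.z_ne_one (conj_eq_one_iff.1 s)
      · exact hc0.2.2 s
  have hh0 := F.comm_inner_W hc0 (i := 1) (by decide) hf
  obtain ⟨k, -, x, hx, e⟩ := F.inner_involution hh0 (conj_sq hf2) hfE
  have hZ := S.isZ_conj (S.isZ_conj (hZ1 hf hf2 hft) c0) k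
  rw [e, ← (F.t0_W hx).eq] at hZ
  rcases D.hu with r | r
  · exact ⟨x, hx, r ▸ hZ⟩
  · refine ⟨S.z * x, mul_mem (F.z_mem 0) hx, ?_⟩
    rwa [r, show F.t0 * S.z * (S.z * x) = F.t0 * (S.z * S.z) * x by group, S.hE.mul_self_z, mul_one]

omit D in
/-- **Some other conjugate of `z` centralizes `P`.** -/
theorem exists_fusion [IsSimpleGroup G] (hG : ¬ IsMulCommutative G) :
    ∃ g, g * S.z * g⁻¹ ∈ S.C ∧ g * S.z * g⁻¹ ≠ S.z := by
  obtain ⟨c0, hc0⟩ := F.exists_pair hG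
  have hpr : F.Pr c0 := hc0
  obtain ⟨u, hu, u2, hfix, hcH, ht0, ht1, hcomm⟩ := F.exists_u hpr
  by_contra hcon
  simp only [not_exists, not_and, not_not] at hcon
  have D : F.Iso c0 u := ⟨hpr, hu, u2, hfix, hcH, ht0, ht1, hcomm, hcon⟩
  obtain ⟨x, hx, hZ⟩ := F.exists_u_isZ D
  exact F.no_u_isZ D hx hZ

end Frame

end CfsgLib.JankoFour
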