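import Cfsg.Agent.Lib.JankoFour.Embed

/-!
# An outer involution halves every invariant section of `E` (owner: helper14)
-/

set_option autoImplicit false

namespace CfsgLib.JankoFour

open Cfsg CfsgLib.ThreeTrans

variable {G : Type*} [Group G] [Finite G]

namespace Frame

variable {S : Setting G} (F : Frame S)
include F

theorem halve {t : G} (htz : Commute t S.z) (ht : t * t = 1) (hto : t ∉ S.H0) (M : Subgroup G) (hME : M ≤ S.E)
    (hzM : S.z ∈ M) (hMt : ∀ x ∈ M, t * x * t⁻¹ ∈ M) (hMp : ∀ x ∈ M, pc F.p x ∈ M) :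
    ∃ U : Subgroup G, U ≤ M ∧ (∀ x, x ∈ U ↔ x ∈ M ∧ t * x * t⁻¹ * x⁻¹ ∈ Subgroup.zpowers S.z) ∧
      Nat.card M ≤ Nat.card U * Nat.card U ∧
      ∀ x ∈ U, ∃ k ∈ Subgroup.zpowers S.z, pc F.p x * (t * (pc F.p x)⁻¹ * t⁻¹) = x * k := by
  classical
  let Z : Subgroup ↥S.E := (Subgroup.zpowers S.z).subgroupOf S.E
  haveI hZn : Z.Normal := ⟨fun c hc g => by
    rw [Subgroup.mem_subgroupOf] at hc ⊢
    push_cast
    rw [(commute_z_zpowers (S.hE.commute_z g.2) hc).eq, mul_inv_cancel_right]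
    exact hc⟩
  let π : G → ↥S.E ⧸ Z := fun x => if hx : x ∈ S.E then QuotientGroup.mk ⟨x, hx⟩ else 1
  have hπ : ∀ {x : G} (hx : x ∈ S.E), π x = QuotientGroup.mk ⟨x, hx⟩ := fun hx => dif_pos hx
  have πmul : ∀ {x y : G}, x ∈ S.E → y ∈ S.E → π (x * y) = π x * π y := fun hx hy => by
    rw [hπ hx, hπ hy, hπ (mul_mem hx hy), ← QuotientGroup.mk_mul]; rfl
  have πinv : ∀ {x : G}, x ∈ S.E → π x⁻¹ = (π x)⁻¹ := fun hx => by
    rw [hπ hx, hπ (inv_mem hx), ← QuotientGroup.mk_inv]; rfl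
  have πone : ∀ {x : G}, x ∈ S.E → (π x = 1 ↔ x ∈ Subgroup.zpowers S.z) := fun hx => by
    rw [hπ hx, QuotientGroup.eq_one_iff, Subgroup.mem_subgroupOf]
  have πcomm : ∀ {x y : G}, x ∈ S.E → y ∈ S.E → π x * π y = π y * π x := fun {x y} hx hy => by
    rw [← mul_inv_eq_one, mul_inv_rev, ← πinv hx, ← πinv hy, ← πmul hx hy, ← πmul (inv_mem hx) (inv_mem hy),
      ← πmul (mul_mem hx hy) (mul_mem (inv_mem hx) (inv_mem hy)), πone (mul_mem (mul_mem hx hy) (mul_mem (inv_mem hx) (inv_mem hy))),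
      show x * y * (x⁻¹ * y⁻¹) = x * y * x⁻¹ * y⁻¹ by group]
    exact S.hE.comm_mem hx hy
  have πsq : ∀ {x : G}, x ∈ S.E → π x * π x = 1 := fun hx => by
    rw [← πmul hx hx, πone (mul_mem hx hx)]; exact S.hE.sq_mem hx
  have πi : ∀ {x : G}, x ∈ S.E → (π x)⁻¹ = π x := fun hx => inv_eq_of_mul_eq_one_left (πsq hx)
  have pp : ∀ a b : G, pc F.p (pc F.p (a * b)) = pc F.p (pc F.p a) * pc F.p (pc F.p b) := fun a b => by
    simp [pc, mul_assoc]
  have ppi : ∀ a : G, pc F.p (pc F.p a⁻¹) = (pc F.p (pc F.p a))⁻¹ := fun a => by simp [pc, mul_assoc]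
  -- the two maps
  have hT : ∀ {x}, x ∈ S.E → pc F.p x ∈ S.E := fun hx => S.hE.conj_mem (S.P_commute_z F.hpP) hx
  have hσ : ∀ {x}, x ∈ S.E → t * x * t⁻¹ ∈ S.E := fun hx => S.hE.conj_mem htz hx
  have hσσ : ∀ x, t * (t * x * t⁻¹) * t⁻¹ = x := fun x => by
    rw [show t * (t * x * t⁻¹) * t⁻¹ = (t * t) * x * (t * t)⁻¹ by group, ht]; simp
  have horb : ∀ {x}, x ∈ S.E → π x * π (pc F.p x) * π (pc F.p (pc F.p x)) = 1 := fun {x} hx => by
    rw [← πmul hx (hT hx), ← πmul (mul_mem hx (hT hx)) (hT (hT hx)), πone (mul_mem (mul_mem hx (hT hx)) (hT (hT hx)))]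
    exact orbit_mem F.hpC F.p_pow hx fun c hc hcp _ => F.fixed_p hc hcp
  have hrel : ∀ {x}, x ∈ S.E → π (t * pc F.p x * t⁻¹) = π (pc F.p (pc F.p (t * x * t⁻¹))) := by
    intro x hx
    obtain ⟨e, he, n, hn, hte⟩ := S.C_pair htz
    have hn0 : n ∉ S.H0 := fun h => hto (hte ▸ mul_mem (S.hEH0 he) h)
    have hinv : n * F.p * n⁻¹ = F.p ^ 2 := (S.outer_inverts hn hn0 F.hpP).trans
      (inv_eq_of_mul_eq_one_right (by rw [← pow_succ']; exact F.p_pow))
    set y := n * x * n⁻¹ with hy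
    have hyE : y ∈ S.E := S.hE.conj_mem hn.1 hx
    have e1 : t * pc F.p x * t⁻¹ = e * pc F.p (pc F.p y) * e⁻¹ := by
      have : n * pc F.p x * n⁻¹ = pc F.p (pc F.p y) := by
        show n * (F.p * x * F.p⁻¹) * n⁻¹ = _
        rw [show n * (F.p * x * F.p⁻¹) * n⁻¹ = (n * F.p * n⁻¹) * y * (n * F.p * n⁻¹)⁻¹ by rw [hy]; group, hinv, pow_two]
        simp only [pc]; group
      rw [hte, ← this]; group
    have e2 : t * x * t⁻¹ = e * y * e⁻¹ := by rw [hte, hy]; group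
    have πconj : ∀ {w}, w ∈ S.E → π (e * w * e⁻¹) = π w := fun {w} hw => by
      rw [πmul (mul_mem he hw) (inv_mem he), πmul he hw, πinv he, πcomm he hw, mul_inv_cancel_right]
    have heq : π (pc F.p (pc F.p (e * y * e⁻¹))) = π (pc F.p (pc F.p y)) := by
      rw [pp (e * y) e⁻¹, pp e y, ppi e, πmul (mul_mem (hT (hT he)) (hT (hT hyE))) (inv_mem (hT (hT he))),
        πmul (hT (hT he)) (hT (hT hyE)), πinv (hT (hT he)), πcomm (hT (hT he)) (hT (hT hyE)), mul_inv_cancel_right]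
    rw [e1, e2, πconj (hT (hT hyE)), heq]
  let U : Subgroup G :=
    { carrier := {x | x ∈ M ∧ π (t * x * t⁻¹) = π x}
      one_mem' := ⟨one_mem _, by simp⟩
      mul_mem' := fun {x y} hx hy => ⟨mul_mem hx.1 hy.1, by
        rw [show t * (x * y) * t⁻¹ = (t * x * t⁻¹) * (t * y * t⁻¹) by group,
          πmul (hσ (hME hx.1)) (hσ (hME hy.1)), hx.2, hy.2, πmul (hME hx.1) (hME hy.1)]⟩
      inv_mem' := fun {x} hx => ⟨inv_mem hx.1, by
        rw [show t * x⁻¹ * t⁻¹ = (t * x * t⁻¹)⁻¹ by group, πinv (hσ (hME hx.1)), hx.2, πinv (hME hx.1)]⟩ }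
  have hUiff : ∀ x, x ∈ U ↔ x ∈ M ∧ t * x * t⁻¹ * x⁻¹ ∈ Subgroup.zpowers S.z := fun x => by
    show x ∈ M ∧ _ ↔ _
    refine and_congr_right fun hx => ?_
    rw [← πone (mul_mem (hσ (hME hx)) (inv_mem (hME hx))), πmul (hσ (hME hx)) (inv_mem (hME hx)),
      πinv (hME hx), mul_inv_eq_one]
  refine ⟨U, fun x hx => hx.1, hUiff, ?_, fun x hx => ?_⟩
  · let ψ : ↥U × ↥U → ↥M := fun q => ⟨q.1 * pc F.p q.2, mul_mem q.1.2.1 (hMp _ q.2.2.1)⟩
    have hψ : Function.Surjective ψ := by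
      rintro ⟨y, hy⟩
      have hyE := hME hy
      set u := y * (t * y * t⁻¹) with hu
      have huM : u ∈ M := mul_mem hy (hMt y hy)
      have huE := hME huM
      have hu2 : π (t * u * t⁻¹) = π u := by
        rw [hu, show t * (y * (t * y * t⁻¹)) * t⁻¹ = (t * y * t⁻¹) * (t * (t * y * t⁻¹) * t⁻¹) by group, hσσ,
          πmul (hσ hyE) hyE, πmul hyE (hσ hyE), πcomm (hσ hyE) hyE]
      set x1 := y * (pc F.p u)⁻¹ with hx1
      have hx1M : x1 ∈ M := mul_mem hy (inv_mem (hMp u huM))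
      have hTu := hT huE
      have hTTu := hT hTu
      have hσTu : π (t * pc F.p u * t⁻¹) = π (pc F.p (pc F.p u)) := by
        have e : π (pc F.p (pc F.p (t * u * t⁻¹))) = π (pc F.p (pc F.p u)) := by
          have e0 : t * u * t⁻¹ * u⁻¹ ∈ Subgroup.zpowers S.z := by
            rw [← πone (mul_mem (hσ huE) (inv_mem huE)), πmul (hσ huE) (inv_mem huE), hu2, πinv huE, mul_inv_cancel]
          have hfixz : ∀ c ∈ Subgroup.zpowers S.z, pc F.p (pc F.p c) = c := fun c hc => by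
            have : pc F.p c = c := by
              show F.p * c * F.p⁻¹ = c
              rw [(commute_z_zpowers (S.P_commute_z F.hpP) hc).eq, mul_inv_cancel_right]
            rw [this, this]
          rw [show t * u * t⁻¹ = (t * u * t⁻¹ * u⁻¹) * u by group, pp (t * u * t⁻¹ * u⁻¹) u, hfixz _ e0,
            πmul (S.mem_E_of_zpowers e0) hTTu, (πone (S.mem_E_of_zpowers e0)).2 e0, one_mul]
        rw [hrel huE, e]
      have hx1U : x1 ∈ U := ⟨hx1M, by
        have h1 : π (t * x1 * t⁻¹) = π (t * y * t⁻¹) * π (pc F.p (pc F.p u)) := by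
          rw [hx1, show t * (y * (pc F.p u)⁻¹) * t⁻¹ = (t * y * t⁻¹) * (t * pc F.p u * t⁻¹)⁻¹ by group,
            πmul (hσ hyE) (inv_mem (hσ hTu)), πinv (hσ hTu), hσTu, πi hTTu]
        have h2 : π x1 = π y * π (pc F.p u) := by rw [hx1, πmul hyE (inv_mem hTu), πinv hTu, πi hTu]
        have h3 := horb huE
        rw [show π u = π y * π (t * y * t⁻¹) from πmul hyE (hσ hyE)] at h3
        rw [h1, h2]
        have h4 : π (pc F.p (pc F.p u)) = π (t * y * t⁻¹) * π y * π (pc F.p u) := by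
          rw [eq_inv_of_mul_eq_one_right h3, mul_inv_rev, mul_inv_rev, πi hTu, πi hyE, πi (hσ hyE),
            ← πmul (hσ hyE) hyE, πcomm hTu (mul_mem (hσ hyE) hyE)]
        rw [h4, ← mul_assoc, ← mul_assoc, πsq (hσ hyE), one_mul]⟩
      refine ⟨(⟨x1, hx1U⟩, ⟨u, huM, hu2⟩), Subtype.ext ?_⟩
      show y * (pc F.p u)⁻¹ * pc F.p u = y
      group
    have := Nat.card_le_card_of_surjective ψ hψ
    rwa [Nat.card_prod] at this
  · have hxE := hME hx.1
    have hTx := hT hxE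
    set y := pc F.p x * (t * (pc F.p x)⁻¹ * t⁻¹) with hy
    have hsE : t * (pc F.p x)⁻¹ * t⁻¹ ∈ S.E := hσ (inv_mem hTx)
    have hyE : y ∈ S.E := mul_mem hTx hsE
    refine ⟨x⁻¹ * y, ?_, (mul_inv_cancel_left x y).symm⟩
    rw [← πone (mul_mem (inv_mem hxE) hyE), πmul (inv_mem hxE) hyE, πinv hxE, πi hxE, hy, πmul hTx hsE,
      show t * (pc F.p x)⁻¹ * t⁻¹ = (t * pc F.p x * t⁻¹)⁻¹ by group, πinv (hσ hTx), πi (hσ hTx), hrel hxE]
    have e : π (pc F.p (pc F.p (t * x * t⁻¹))) = π (pc F.p (pc F.p x)) := by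
      have e0 := ((hUiff x).1 hx).2
      have hfix : ∀ c ∈ Subgroup.zpowers S.z, pc F.p (pc F.p c) = c := fun c hc => by
        have : pc F.p c = c := by
          show F.p * c * F.p⁻¹ = c
          rw [(commute_z_zpowers (S.P_commute_z F.hpP) hc).eq, mul_inv_cancel_right]
        rw [this, this]
      rw [show t * x * t⁻¹ = (t * x * t⁻¹ * x⁻¹) * x by group, pp (t * x * t⁻¹ * x⁻¹) x, hfix _ e0,
        πmul (S.mem_E_of_zpowers e0) (hT hTx), (πone (S.mem_E_of_zpowers e0)).2 e0, one_mul]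
    rw [e, ← mul_assoc, horb hxE]

end Frame

end CfsgLib.JankoFour
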