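import Cfsg.Agent.Lib.JankoFour.Local

/-!
# The involution is isolated in the centralizer of `P` (owner: helper14)
-/

set_option autoImplicit false

namespace CfsgLib.JankoFour

open Cfsg CfsgLib.ThreeTrans

variable {G : Type*} [Group G] [Finite G]

/-- Conjugates of the centre are preserved by squaring. -/
theorem conj_sq {z g : G} (hz : z * z = 1) : (g * z * g⁻¹) * (g * z * g⁻¹) = 1 := by
  rw [conj_mul, hz]; simp

namespace Frame

variable {S : Setting G} (F : Frame S)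
include F

/-- An involution of `C` outside the kernel is conjugate to `t0` or `t0 * z`. -/
theorem inv_C {t : G} (ht : t ∈ S.C) (h2 : t * t = 1) (hne : S.f t ≠ 1) :
    ∃ c ∈ S.C, c * t * c⁻¹ = F.t0 ∨ c * t * c⁻¹ = F.t0 * S.z := by
  haveI : Fact (Nat.Prime 2) := ⟨Nat.prime_two⟩
  have o1 : orderOf (S.f t) = 2 := orderOf_eq_prime (by rw [pow_two, ← S.f_mul_C ht ht, h2, S.f_one]) hne
  have o2 : orderOf (S.f F.t0) = 2 := orderOf_eq_prime (by rw [pow_two, F.q_sq_one F.t0_q]) F.t0_ne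
  obtain ⟨g, hg⟩ := isConj_iff.1 ((F.hcfg.htwo _ o1).trans (F.hcfg.htwo _ o2).symm)
  obtain ⟨c, hc, rfl⟩ := S.exists_C g
  have htC : c * t * c⁻¹ ∈ S.C := mul_mem (mul_mem hc ht) (inv_mem hc)
  set k := F.t0⁻¹ * (c * t * c⁻¹) with hk
  have hkC : k ∈ S.C := mul_mem (inv_mem F.t0_q.1) htC
  have hk1 : S.f k = 1 := by
    rw [hk, S.f_mul_C (inv_mem F.t0_q.1) htC, S.f_inv_C F.t0_q.1, S.f_conj_C hc ht, hg, inv_mul_cancel]
  have e : c * t * c⁻¹ = F.t0 * k := by rw [hk, mul_inv_cancel_left]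
  have h4 : k ^ 2 ^ 2 = 1 := by
    have : (c * t * c⁻¹) ^ 4 = 1 := by rw [show (4 : ℕ) = 2 * 2 from rfl, pow_mul, pow_two (c * t * c⁻¹), conj_mul, h2]; simp
    rwa [e, (S.ker_central hkC hk1 F.t0_q.1).symm.mul_pow, F.t0_q.2.2, one_mul] at this
  refine ⟨c, hc, ?_⟩
  rcases S.ker_two hkC hk1 h4 with r | r
  · exact Or.inl (by rw [e, r, mul_one])
  · exact Or.inr (by rw [e, r])

theorem p_C {c : G} (hc : c ∈ S.C) : c * F.p * c⁻¹ = F.p := by
  rw [(F.commute_p hc).eq, mul_inv_cancel_right]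

/-- No conjugate of `z` under `N(P)` other than `z` commutes with `z`. -/
theorem isolated {g : G} (hg : ∀ q ∈ S.P, g * q * g⁻¹ ∈ S.P) (h : Commute (g * S.z * g⁻¹) S.z) :
    g * S.z * g⁻¹ = S.z := by
  haveI : Fact (Nat.Prime 2) := ⟨Nat.prime_two⟩
  set t := g * S.z * g⁻¹ with ht
  have ht2 : t * t = 1 := conj_sq S.hE.mul_self_z
  have hq0 : g * F.p * g⁻¹ ≠ 1 := fun e => F.p_ne (conj_eq_one_iff.1 e)
  have htC : t ∈ S.C := by
    refine S.mem_C_of_comm h (hg _ F.hpP) hq0 ?_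
    rw [ht]; exact LargeData.commute_conj_iff'.2 (S.P_commute_z F.hpP).symm
  by_cases hf : S.f t = 1
  · rcases S.ker_two htC hf (n := 1) (by rw [pow_one, pow_two, ht2]) with e | e
    · exact absurd (conj_eq_one_iff.1 e) S.hE.z_ne_one
    · exact e
  obtain ⟨c, hc, hct⟩ := F.inv_C htC ht2 hf
  have hcz := commute_z hc
  obtain ⟨u, v, hu, hv, huv⟩ : ∃ u v, u ∈ F.W 0 ∧ v ∈ F.W 0 ∧ u * v * u⁻¹ * v⁻¹ = S.z := by
    obtain ⟨x, hx, -, hx1, hxz⟩ := (F.plane 0).exists_sing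
    obtain ⟨u, hu, v, hv, -, -, e⟩ := (F.plane 0).centralizer_nonabelian hx hx1 hxz
    exact ⟨u, v, hu, hv, e⟩
  have key : ∀ x ∈ F.W 0, ∃ k, (k = 1 ∨ k = S.z) ∧ g⁻¹ * (c⁻¹ * x⁻¹ * c * k) * g ∈ S.E := by
    intro x hx
    have hP := F.plane 0
    set r := pc F.p x with hr
    have hrW : r ∈ F.W 0 := hP.hpW x hx
    have hr2 : pc F.p r ∈ F.W 0 := hP.hpW r hrW
    set r' := c⁻¹ * r * c with hr'
    have hr't : Commute r' t := by
      have h1 : Commute r (c * t * c⁻¹) := by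
        rcases hct with e | e <;> rw [e]
        · exact (F.t0_W hrW).symm
        · exact (F.t0_W hrW).symm.mul_right (S.hE.commute_z (F.mem_W0.1 hrW).1)
      have := (LargeData.commute_conj_iff' (g := c⁻¹)).2 h1
      rwa [inv_inv, show c⁻¹ * (c * t * c⁻¹) * c = t by group] at this
    have hr'E : r' ∈ S.E := by
      have := S.hE.conj_mem hcz.inv_left (F.mem_W0.1 hrW).1
      rwa [inv_inv] at this
    set d := r' * F.p * r'⁻¹ * F.p⁻¹ with hd
    have hdE : d ∈ S.E := by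
      rw [hd, show r' * F.p * r'⁻¹ * F.p⁻¹ = r' * (F.p * r'⁻¹ * F.p⁻¹) by group]
      exact mul_mem hr'E (S.hE.conj_mem (S.P_commute_z F.hpP) (inv_mem hr'E))
    have hdEP : g⁻¹ * d * g ∈ S.E ⊔ S.P := by
      have hg' : g⁻¹ * F.p * g ∈ S.P := by
        have hinj : Function.Injective (fun q : S.P => (⟨g * q * g⁻¹, hg q q.2⟩ : S.P)) := fun a b e =>
          Subtype.ext (mul_left_cancel (mul_right_cancel (congrArg Subtype.val e)))
        obtain ⟨q, hq⟩ := Finite.surjective_of_injective hinj ⟨F.p, F.hpP⟩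
        have : g * q * g⁻¹ = F.p := congrArg Subtype.val hq
        rw [← this, show g⁻¹ * (g * q * g⁻¹) * g = (q : G) by group]
        exact q.2
      have hz' : Commute (g⁻¹ * r' * g) S.z := by
        have := (LargeData.commute_conj_iff' (g := g⁻¹)).2 hr't
        rwa [inv_inv, ht, show g⁻¹ * (g * S.z * g⁻¹) * g = S.z by group] at this
      have h1 := mul_mem (S.hEPn _ hz' _ (Subgroup.mem_sup_right hg')) (Subgroup.mem_sup_right (inv_mem hg') : _ ∈ S.E ⊔ S.P)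
      rwa [show g⁻¹ * r' * g * (g⁻¹ * F.p * g) * (g⁻¹ * r' * g)⁻¹ * (g⁻¹ * F.p * g)⁻¹ = g⁻¹ * d * g by
        rw [hd]; group] at h1
    have hd4 : d ^ 2 ^ 2 = 1 := by
      rw [show (2 : ℕ) ^ 2 = 2 * 2 from rfl, pow_mul, pow_two d]
      rcases S.hE.eq_or (S.hE.sq_mem hdE) with e | e <;> rw [e]
      · exact one_pow _
      · rw [pow_two]; exact S.hE.mul_self_z
    have hdg : g⁻¹ * d * g ∈ S.E := S.two_mem_E hdEP (n := 2) (by
      rw [show g⁻¹ * d * g = g⁻¹ * d * g⁻¹⁻¹ by group, conj_pow, hd4]; simp)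
    -- `d` is `x⁻¹` up to the centre
    have hd' : ∃ k, (k = 1 ∨ k = S.z) ∧ d = c⁻¹ * x⁻¹ * c * k := by
      have hcp : c * F.p * c⁻¹ = F.p := F.p_C hc
      have e1 : d = c⁻¹ * (r * (pc F.p r)⁻¹) * c := by
        rw [hd, hr', pc]
        conv_rhs => rw [← hcp]
        rw [show c⁻¹ * (r * (c * F.p * c⁻¹ * r * (c * F.p * c⁻¹)⁻¹)⁻¹) * c =
          (c⁻¹ * r * c) * F.p * (c⁻¹ * r * c)⁻¹ * F.p⁻¹ by group]
      have e2 : ∀ k, k = 1 ∨ k = S.z → c⁻¹ * (x⁻¹ * k) * c = c⁻¹ * x⁻¹ * c * k := by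
        rintro k (rfl | rfl)
        · group
        · rw [show c⁻¹ * (x⁻¹ * S.z) * c = c⁻¹ * x⁻¹ * (S.z * c) by group, ← hcz.eq]; group
      have e3 : r * (pc F.p r)⁻¹ = x⁻¹ * ((x * r * pc F.p r) * (pc F.p r * pc F.p r)⁻¹) := by group
      have hm : ∀ {u}, u = 1 ∨ u = S.z → u ∈ Subgroup.zpowers S.z := by
        rintro u (rfl | rfl); exacts [one_mem _, Subgroup.mem_zpowers _]
      refine ⟨_, S.hE.eq_or (mul_mem (hm (hP.orbit_fix hx)) (inv_mem (hm (hP.hsq _ hr2)))), ?_⟩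
      rw [e1, e3, hr]
      exact e2 _ (S.hE.eq_or (mul_mem (hm (hP.orbit_fix hx)) (inv_mem (hm (hP.hsq _ hr2)))))
    obtain ⟨k, hk, hdk⟩ := hd'
    exact ⟨k, hk, hdk ▸ hdg⟩
  obtain ⟨k, hk, hu'⟩ := key u⁻¹ (inv_mem hu)
  obtain ⟨l, hl, hv'⟩ := key v⁻¹ (inv_mem hv)
  rw [inv_inv] at hu' hv'
  set A := c⁻¹ * u * c with hA
  set B := c⁻¹ * v * c with hB
  have hAz : Commute A S.z := (hcz.inv_left.mul_left (S.hE.commute_z (F.mem_W0.1 hu).1)).mul_left hcz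
  have hBz : Commute B S.z := (hcz.inv_left.mul_left (S.hE.commute_z (F.mem_W0.1 hv).1)).mul_left hcz
  have cen : ∀ {k}, (k = 1 ∨ k = S.z) → ∀ {X : G}, Commute X S.z → Commute X k := by
    rintro k (rfl | rfl) X hX
    exacts [Commute.one_right X, hX]
  have hkl : Commute k l := cen hl (cen hk (Commute.refl S.z)).symm
  have hcm : (A * k) * (B * l) * (A * k)⁻¹ * (B * l)⁻¹ = S.z := by
    have cAl : Commute A l := cen hl hAz
    have cBk : Commute B k := cen hk hBz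
    calc (A * k) * (B * l) * (A * k)⁻¹ * (B * l)⁻¹ = A * (k * B) * (l * k⁻¹) * A⁻¹ * l⁻¹ * B⁻¹ := by group
      _ = A * (B * k) * (k⁻¹ * l) * A⁻¹ * l⁻¹ * B⁻¹ := by rw [← cBk.eq, hkl.inv_left.symm.eq]
      _ = A * B * (l * A⁻¹) * l⁻¹ * B⁻¹ := by group
      _ = A * B * (A⁻¹ * l) * l⁻¹ * B⁻¹ := by rw [cAl.inv_left.eq]
      _ = c⁻¹ * (u * v * u⁻¹ * v⁻¹) * c := by rw [hA, hB]; group
      _ = S.z := by rw [huv, mul_assoc, ← hcz.eq, inv_mul_cancel_left]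
  have hcomm := S.hE.comm_mem hu' hv'
  rw [show g⁻¹ * (A * k) * g * (g⁻¹ * (B * l) * g) * (g⁻¹ * (A * k) * g)⁻¹ *
    (g⁻¹ * (B * l) * g)⁻¹ = g⁻¹ * ((A * k) * (B * l) * (A * k)⁻¹ * (B * l)⁻¹) * g by group, hcm] at hcomm
  rcases S.hE.eq_or hcomm with e | e
  · exfalso
    exact S.hE.z_ne_one (by rw [show S.z = g * (g⁻¹ * S.z * g) * g⁻¹ by group, e]; group)
  · have e' : g * (g⁻¹ * S.z * g) * g⁻¹ = g * S.z * g⁻¹ := by rw [e]
    rw [← mul_assoc, mul_inv_cancel_left, mul_inv_cancel_right] at e'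
    rw [ht, ← e']

/-- Elements of order three in the centralizer of two conjugates of `z` linked inside their centralizer. -/
theorem move {g k x : G} (hx3 : x ^ 3 = 1) (hx1 : x ≠ 1) (hxt : Commute x (g * S.z * g⁻¹))
    (hk : Commute k x) (ht : Commute (k * (g * S.z * g⁻¹) * k⁻¹) (g * S.z * g⁻¹))
    (hne : k * (g * S.z * g⁻¹) * k⁻¹ ≠ g * S.z * g⁻¹) :
    ∃ c, c * S.z * c⁻¹ = g * S.z * g⁻¹ ∧ c * F.a * c⁻¹ = x := by
  set x' := g⁻¹ * x * g with hx'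
  have hx'z : Commute x' S.z := by
    have := (LargeData.commute_conj_iff' (g := g⁻¹)).2 hxt
    rwa [inv_inv, show g⁻¹ * (g * S.z * g⁻¹) * g = S.z by group] at this
  have hx'3 : x' ^ 3 = 1 := by rw [hx', show g⁻¹ * x * g = g⁻¹ * x * g⁻¹⁻¹ by group, conj_pow, hx3]; simp
  by_cases hEP : x' ∈ S.E ⊔ S.P
  · exfalso
    obtain ⟨e, he, heq⟩ := S.three_conj hEP hx'3
    set q := e * x' * e⁻¹ with hq
    have hq1 : q ≠ 1 := fun r => hx1 (by
      have r' : x' = 1 := conj_eq_one_iff.1 r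
      rw [show x = g * x' * g⁻¹ by rw [hx']; group, r']; group)
    set m := e * g⁻¹ * k * g * e⁻¹ with hm
    have hmq : Commute m q := by
      have := (LargeData.commute_conj_iff' (g := e * g⁻¹)).2 hk
      rwa [show e * g⁻¹ * k * (e * g⁻¹)⁻¹ = m by rw [hm]; group,
        show e * g⁻¹ * x * (e * g⁻¹)⁻¹ = q by rw [hq, hx']; group] at this
    obtain ⟨p0, hp0, -, hP⟩ := S.exists_p
    have hmP : ∀ r ∈ S.P, m * r * m⁻¹ ∈ S.P := by
      intro r hr
      have : Commute m r := by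
        have hmp : Commute m p0 := by
          rcases hP q heq with r' | r' | r'
          · exact absurd r' hq1
          · exact r' ▸ hmq
          · simpa [r'] using hmq.inv_right
        rcases hP r hr with rfl | rfl | rfl
        exacts [Commute.one_right m, hmp, hmp.inv_right]
      rwa [this.eq, mul_inv_cancel_right]
    have hez : e * S.z * e⁻¹ = S.z := by rw [(S.hE.commute_z he).eq, mul_inv_cancel_right]
    have he' : e⁻¹ * S.z * e = S.z := by rw [mul_assoc, ← (S.hE.commute_z he).eq, inv_mul_cancel_left]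
    have hmz : m * S.z * m⁻¹ = e * (g⁻¹ * (k * (g * S.z * g⁻¹) * k⁻¹) * g) * e⁻¹ := by
      rw [hm, show e * g⁻¹ * k * g * e⁻¹ * S.z * (e * g⁻¹ * k * g * e⁻¹)⁻¹ =
        e * g⁻¹ * k * g * (e⁻¹ * S.z * e) * g⁻¹ * k⁻¹ * g * e⁻¹ by group, he']
      group
    have hc : Commute (m * S.z * m⁻¹) S.z := by
      rw [hmz]
      have := (LargeData.commute_conj_iff' (g := e * g⁻¹)).2 ht
      rwa [show e * g⁻¹ * (g * S.z * g⁻¹) * (e * g⁻¹)⁻¹ = e * S.z * e⁻¹ by group, hez,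
        show ∀ X, e * g⁻¹ * X * (e * g⁻¹)⁻¹ = e * (g⁻¹ * X * g) * e⁻¹ from fun X => by group] at this
    have := F.isolated hmP hc
    rw [hmz] at this
    refine hne ?_
    calc k * (g * S.z * g⁻¹) * k⁻¹
        = g * (e⁻¹ * (e * (g⁻¹ * (k * (g * S.z * g⁻¹) * k⁻¹) * g) * e⁻¹) * e) * g⁻¹ := by group
      _ = g * S.z * g⁻¹ := by rw [this, he']
  · obtain ⟨h, hh, e⟩ := F.three_classify_H hx'z hx'3 hEP
    refine ⟨g * h⁻¹, ?_, ?_⟩
    · rw [show g * h⁻¹ * S.z * (g * h⁻¹)⁻¹ = g * (h⁻¹ * S.z * h) * g⁻¹ by group, mul_assoc h⁻¹, ← hh.eq,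
        inv_mul_cancel_left]
    · rw [← e, hx']; group

end Frame

end CfsgLib.JankoFour
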