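import Cfsg.Agent.Lib.JankoFour.Coords

/-!
# Lines of a plane and operators of 2-power order (owner: helper14)

An element `g` of 2-power order commuting with the element of order three either centralizes the plane or
moves it; in the second case its centralizer in the plane is elementary abelian of order 8 and the other
non-central involutions form one orbit up to the centre.
-/

set_option autoImplicit false
set_option synthInstance.maxSize 4000
set_option synthInstance.maxHeartbeats 400000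

namespace CfsgLib.JankoFour

open PlaneCode

variable {G : Type*} [Group G] {z p : G} {W : Subgroup G}

/-- An element acting on the plane as a 2-element commuting with `p`. -/
structure Op (z : G) (W : Subgroup G) (p g : G) : Prop where
  hz : Commute g z
  hp : Commute g p
  hW : ∀ x ∈ W, g * x * g⁻¹ ∈ W
  h4 : ∀ x ∈ W, g ^ 4 * x * (g ^ 4)⁻¹ = x

/-- Equality up to a power of `p` and the centre. -/
def Near (z p u v : G) : Prop :=
  v = u ∨ v = z * u ∨ v = pc p u ∨ v = z * pc p u ∨ v = pc p (pc p u) ∨ v = z * pc p (pc p u)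

namespace Plane

variable (h : Plane z W p) [Finite G] {g g' : G}
include h

theorem get_op (hg : Op z W p g) (B : Coords z W p) :
    ∃ Y F : Code, IsOp Y F ∧ ∀ s, g * B.val s * g⁻¹ = B.val (op Y F s) :=
  B.exists_op h hg.hz hg.hp hg.hW hg.h4

theorem op_fix_exact (hg : Op z W p g) {x : G} (hx : x ∈ W)
    (hfx : g * x * g⁻¹ = x ∨ g * x * g⁻¹ = z * x) : Commute g x := by
  obtain ⟨B⟩ := h.exists_coords
  obtain ⟨Y, F, hop, hg⟩ := h.get_op hg B
  obtain ⟨s, rfl⟩ := B.val_surj h hx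
  have hzc : B.val zc = z := by simp [Coords.val, zc, bb]
  have := PlaneCode.op_fix Y F hop s (by
    rcases hfx with e | e <;> rw [hg] at e
    · exact Or.inl (B.val_injective h e)
    · exact Or.inr (B.val_injective h (by rw [B.val_mul h, hzc]; exact e)))
  refine mul_inv_eq_iff_eq_mul.1 ?_
  rw [hg, this]

/-- The element moves the plane. -/
def Moving (W : Subgroup G) (g : G) : Prop := ∃ x ∈ W, ¬ Commute g x

omit h [Finite G] in
theorem not_moving {g : G} : ¬ Moving W g ↔ ∀ x ∈ W, Commute g x := by simp [Moving]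

theorem op_moving (hg : Op z W p g) (hm : Moving W g) (B : Coords z W p) :
    ∃ Y F : Code, IsOp Y F ∧ (Y, F) ≠ (gy, gf) ∧ ∀ s, g * B.val s * g⁻¹ = B.val (op Y F s) := by
  obtain ⟨Y, F, hop, hg'⟩ := h.get_op hg B
  refine ⟨Y, F, hop, fun e => ?_, hg'⟩
  obtain ⟨x, hx, hgx⟩ := hm
  obtain ⟨s, rfl⟩ := B.val_surj h hx
  obtain ⟨rfl, rfl⟩ := Prod.mk.inj e
  exact hgx (mul_inv_eq_iff_eq_mul.1 (by rw [hg', op_id]))

/-- Two moving elements with a product of 2-power order act equally. -/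
theorem op_same (hg : Op z W p g) (hg' : Op z W p g') (hm : Moving W g) (hm' : Moving W g')
    (hgg : Op z W p (g * g')) {x : G} (hx : x ∈ W) : g * x * g⁻¹ = g' * x * g'⁻¹ := by
  obtain ⟨B⟩ := h.exists_coords
  obtain ⟨Y, F, hop, hne, e⟩ := h.op_moving hg hm B
  obtain ⟨Y', F', hop', hne', e'⟩ := h.op_moving hg' hm' B
  have hpair := op_pair Y F hop hne Y' F' hop' hne' fun s => B.val_injective h (by
    rw [← e, ← e', ← e, ← e', ← e, ← e', ← e, ← e']
    conv_rhs => rw [← hgg.h4 (B.val s) (B.val_mem h s)]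
    simp only [pow_succ, pow_zero, one_mul, mul_inv_rev, mul_assoc])
  obtain ⟨s, rfl⟩ := B.val_surj h hx
  obtain ⟨rfl, rfl⟩ := Prod.mk.inj hpair
  rw [e, e']

section moving

variable (hg : Op z W p g) (hm : Moving W g)
include hg hm

theorem fix_sq {x : G} (hx : x ∈ W) (hgx : Commute g x) : x * x = 1 := by
  obtain ⟨B⟩ := h.exists_coords
  obtain ⟨Y, F, hop, hne, e⟩ := h.op_moving hg hm B
  obtain ⟨s, rfl⟩ := B.val_surj h hx
  rw [← B.val_mul h, (op_facts Y F hop hne).2.1 s (B.val_injective h (by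
    rw [← e]; exact mul_inv_eq_iff_eq_mul.2 hgx.eq)), B.val_one h]

theorem fix_comm {x y : G} (hx : x ∈ W) (hgx : Commute g x) (hy : y ∈ W) (hgy : Commute g y) :
    Commute x y := by
  obtain ⟨B⟩ := h.exists_coords
  obtain ⟨Y, F, hop, hne, e⟩ := h.op_moving hg hm B
  obtain ⟨s, rfl⟩ := B.val_surj h hx
  obtain ⟨t, rfl⟩ := B.val_surj h hy
  have := (op_facts Y F hop hne).2.2.1 s t (B.val_injective h (by rw [← e]; exact mul_inv_eq_iff_eq_mul.2 hgx.eq))
    (B.val_injective h (by rw [← e]; exact mul_inv_eq_iff_eq_mul.2 hgy.eq))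
  show _ = _
  rw [← B.val_mul h, ← B.val_mul h, this]

theorem op_involutive {x : G} (hx : x ∈ W) : g * (g * x * g⁻¹) * g⁻¹ = x := by
  obtain ⟨B⟩ := h.exists_coords
  obtain ⟨Y, F, hop, hne, e⟩ := h.op_moving hg hm B
  obtain ⟨s, rfl⟩ := B.val_surj h hx
  rw [e, e, (op_facts Y F hop hne).1]

/-- Fixed points are commutators up to the centre. -/
theorem fix_image {x : G} (hx : x ∈ W) (hgx : Commute g x) :
    ∃ r ∈ W, x = r * (g * r * g⁻¹) ∨ x = z * (r * (g * r * g⁻¹)) := by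
  obtain ⟨B⟩ := h.exists_coords
  obtain ⟨Y, F, hop, hne, e⟩ := h.op_moving hg hm B
  obtain ⟨s, rfl⟩ := B.val_surj h hx
  obtain ⟨r, hr⟩ := (op_facts Y F hop hne).2.2.2.1 s (B.val_injective h (by
    rw [← e]; exact mul_inv_eq_iff_eq_mul.2 hgx.eq))
  refine ⟨B.val r, B.val_mem h r, ?_⟩
  rw [e, ← B.val_mul h]
  rcases hr with rfl | rfl
  · exact Or.inl rfl
  · exact Or.inr (by rw [B.val_mul h]; simp [Coords.val, zc, bb])

theorem image_fix {r : G} (hr : r ∈ W) : Commute g (r * (g * r * g⁻¹)) := by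
  obtain ⟨B⟩ := h.exists_coords
  obtain ⟨Y, F, hop, hne, e⟩ := h.op_moving hg hm B
  obtain ⟨s, rfl⟩ := B.val_surj h hr
  refine mul_inv_eq_iff_eq_mul.1 ?_
  rw [e, ← B.val_mul h, e, (op_facts Y F hop hne).2.2.2.2.1]

theorem exists_fix : ∃ x ∈ W, Commute g x ∧ x ≠ 1 ∧ x ≠ z := by
  obtain ⟨B⟩ := h.exists_coords
  obtain ⟨Y, F, hop, hne, e⟩ := h.op_moving hg hm B
  obtain ⟨s, hs, h1, h2⟩ := (op_facts Y F hop hne).2.2.2.2.2.1
  refine ⟨B.val s, B.val_mem h s, mul_inv_eq_iff_eq_mul.1 (by rw [e, hs]), fun r => h1 ?_, fun r => h2 ?_⟩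
  · exact B.val_injective h (r.trans (B.val_one h).symm)
  · exact B.val_injective h (r.trans (by simp [Coords.val, zc, bb]))

theorem exists_moved : ∃ x ∈ W, x * x = 1 ∧ ¬ Commute g x := by
  obtain ⟨B⟩ := h.exists_coords
  obtain ⟨Y, F, hop, hne, e⟩ := h.op_moving hg hm B
  obtain ⟨s, hs, h1⟩ := (op_facts Y F hop hne).2.2.2.2.2.2.1
  refine ⟨B.val s, B.val_mem h s, by rw [← B.val_mul h, hs, B.val_one h], fun r => h1 ?_⟩
  exact B.val_injective h (by rw [← e]; exact mul_inv_eq_iff_eq_mul.2 r.eq)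

omit hg hm in
theorem near_val (B : Coords z W p) {u t : Code}
    (hn : t = u ∨ t = mul zc u ∨ t = pcc u ∨ t = mul zc (pcc u) ∨ t = pcc (pcc u) ∨ t = mul zc (pcc (pcc u))) :
    Near z p (B.val u) (B.val t) := by
  have hzc : B.val zc = z := by simp [Coords.val, zc, bb]
  rcases hn with rfl | rfl | rfl | rfl | rfl | rfl <;>
    simp [Near, B.val_mul h, B.val_pc h, hzc]

theorem fix_near {x y : G} (hx : x ∈ W) (hgx : Commute g x) (hx1 : x ≠ 1) (hxz : x ≠ z)
    (hy : y ∈ W) (hgy : Commute g y) (hy1 : y ≠ 1) (hyz : y ≠ z) : Near z p x y := by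
  obtain ⟨B⟩ := h.exists_coords
  obtain ⟨Y, F, hop, hne, e⟩ := h.op_moving hg hm B
  obtain ⟨s, rfl⟩ := B.val_surj h hx
  obtain ⟨t, rfl⟩ := B.val_surj h hy
  have hzc : B.val zc = z := by simp [Coords.val, zc, bb]
  exact h.near_val B ((op_facts Y F hop hne).2.2.2.2.2.2.2 s t
    (B.val_injective h (by rw [← e]; exact mul_inv_eq_iff_eq_mul.2 hgx.eq)) (fun r => hx1 (r ▸ B.val_one h))
    (fun r => hxz (r ▸ hzc)) (B.val_injective h (by rw [← e]; exact mul_inv_eq_iff_eq_mul.2 hgy.eq))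
    (fun r => hy1 (r ▸ B.val_one h)) (fun r => hyz (r ▸ hzc)))

/-- The moved involutions are one orbit up to the centre. -/
theorem moved_near {x y : G} (hx : x ∈ W) (hx2 : x * x = 1) (hgx : ¬ Commute g x)
    (hy : y ∈ W) (hy2 : y * y = 1) (hgy : ¬ Commute g y) : Near z p x y ∨ Near z p (g * x * g⁻¹) y := by
  obtain ⟨B⟩ := h.exists_coords
  obtain ⟨Y, F, hop, hne, e⟩ := h.op_moving hg hm B
  obtain ⟨s, rfl⟩ := B.val_surj h hx
  obtain ⟨t, rfl⟩ := B.val_surj h hy
  have hsq : ∀ q, B.val q * B.val q = 1 → mul q q = one := fun q hq =>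
    B.val_injective h (by rw [B.val_mul h, hq, B.val_one h])
  obtain ⟨u, hu, hn⟩ := op_moved Y F hop hne s t (hsq _ hx2)
    (fun r => hgx (mul_inv_eq_iff_eq_mul.1 (by rw [e, r]))) (hsq _ hy2)
    (fun r => hgy (mul_inv_eq_iff_eq_mul.1 (by rw [e, r])))
  rcases hu with rfl | rfl
  · exact Or.inl (h.near_val B hn)
  · exact Or.inr (e s ▸ h.near_val B hn)

/-- The elementary abelian groups of order 8 through a moved involution. -/
theorem moved_eight {e x : G} (he : e ∈ W) (he2 : e * e = 1) (hge : ¬ Commute g e) (hx : x ∈ W)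
    (hx2 : x * x = 1) (hxe : Commute x e) (hx1 : x ≠ 1) (hxz : x ≠ z) (hxne : x ≠ e) (hxze : x ≠ z * e) :
    (x = pc p e ∨ x = z * pc p e ∨ x = pc p (pc p e) ∨ x = z * pc p (pc p e)) ∨
      (Commute g x ∧ e * x * (e * x) = 1 ∧ ¬ Commute g (e * x)) ∨ (Commute g (e * x) ∧ ¬ Commute g x) := by
  obtain ⟨B⟩ := h.exists_coords
  obtain ⟨Y, F, hop, hne, hform⟩ := h.op_moving hg hm B
  obtain ⟨s, rfl⟩ := B.val_surj h he
  obtain ⟨t, rfl⟩ := B.val_surj h hx
  have hzc : B.val zc = z := by simp [Coords.val, zc, bb]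
  have inj := B.val_injective h
  have hc : ∀ q, Commute g (B.val q) ↔ op Y F q = q := fun q =>
    ⟨fun r => inj (by rw [← hform]; exact mul_inv_eq_iff_eq_mul.2 r.eq),
      fun r => mul_inv_eq_iff_eq_mul.1 (by rw [hform, r])⟩
  rcases op_eight Y F hop hne s t (inj (by rw [B.val_mul h, he2, B.val_one h])) (fun r => hge ((hc _).2 r))
      (inj (by rw [B.val_mul h, hx2, B.val_one h]))
      (inj (by rw [B.val_mul h, B.val_mul h, hxe.eq])) (fun r => hx1 (r ▸ B.val_one h))
      (fun r => hxz (r ▸ hzc)) (fun r => hxne (r ▸ rfl)) (fun r => hxze (by rw [r, B.val_mul h, hzc])) with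
    r | ⟨r1, r2, r3⟩ | ⟨r1, r2⟩
  · refine Or.inl ?_
    rcases r with rfl | rfl | rfl | rfl <;> simp [B.val_mul h, B.val_pc h, hzc]
  · refine Or.inr (Or.inl ⟨(hc _).2 r1, ?_, ?_⟩)
    · rw [← B.val_mul h, ← B.val_mul h, r2, B.val_one h]
    · rw [← B.val_mul h, hc]; exact r3
  · refine Or.inr (Or.inr ⟨?_, fun r => r2 ((hc _).1 r)⟩)
    rw [← B.val_mul h, hc]; exact r1

/-- The line of a moved involution is its own centralizer. -/
theorem line_centralizer {e x : G} (he : e ∈ W) (he2 : e * e = 1) (hge : ¬ Commute g e) (hx : x ∈ W)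
    (hxe : Commute x e) (hxp : Commute x (pc p e)) : (x = 1 ∨ x = z) ∨ Near z p e x := by
  obtain ⟨B⟩ := h.exists_coords
  obtain ⟨Y, F, hop, hne, hform⟩ := h.op_moving hg hm B
  obtain ⟨s, rfl⟩ := B.val_surj h he
  obtain ⟨t, rfl⟩ := B.val_surj h hx
  have hzc : B.val zc = z := by simp [Coords.val, zc, bb]
  have inj := B.val_injective h
  have hcom : ∀ {a b : Code}, Commute (B.val a) (B.val b) → Com a b := fun {a b} r =>
    inj (by rw [B.val_mul h, B.val_mul h]; exact r)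
  rcases PlaneCode.line_centralizer Y F hop hne s t (inj (by rw [B.val_mul h, he2, B.val_one h]))
      (fun r => hge (mul_inv_eq_iff_eq_mul.1 (by rw [hform, r]))) (hcom hxe) (hcom (B.val_pc h s ▸ hxp)) with
    r | r | r
  · exact Or.inl (Or.inl (by rw [r, B.val_one h]))
  · exact Or.inl (Or.inr (by rw [r, hzc]))
  · exact Or.inr (h.near_val B r)

theorem card_fix : Nat.card ↥(W ⊓ Subgroup.centralizer ({g} : Set G)) = 8 := by
  obtain ⟨B⟩ := h.exists_coords
  obtain ⟨Y, F, hop, hne, e⟩ := h.op_moving hg hm B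
  have h8 : ∀ Y F : Code, IsOp Y F → (Y, F) ≠ (gy, gf) →
      (Finset.univ.filter fun q : Code => op Y F q = q).card = 8 := by
    unfold IsOp; decide +kernel
  rw [← h8 Y F hop hne, ← Nat.card_eq_finsetCard]
  refine (Nat.card_congr (Equiv.ofBijective (fun q : ↥(Finset.univ.filter fun q : Code => op Y F q = q) =>
    (⟨B.val q, B.val_mem h _, ?_⟩ : ↥(W ⊓ Subgroup.centralizer ({g} : Set G)))) ⟨?_, ?_⟩)).symm
  · have := (Finset.mem_filter.1 q.2).2
    refine Subgroup.mem_centralizer_singleton_iff.2 (mul_inv_eq_iff_eq_mul.1 (?_ : g * B.val q * g⁻¹ = _)).symm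
    rw [e, this]
  · exact fun a b r => Subtype.ext (B.val_injective h (congrArg Subtype.val r))
  · rintro ⟨x, hx, hxg⟩
    obtain ⟨s, rfl⟩ := B.val_surj h hx
    refine ⟨⟨s, Finset.mem_filter.2 ⟨Finset.mem_univ _, B.val_injective h ?_⟩⟩, rfl⟩
    rw [← e, mul_inv_eq_iff_eq_mul]; exact (Subgroup.mem_centralizer_singleton_iff.1 hxg).symm

end moving

theorem centralizer_nonabelian {w : G} (hw : w ∈ W) (hw1 : w ≠ 1) (hwz : w ≠ z) :
    ∃ x ∈ W, ∃ y ∈ W, Commute x w ∧ Commute y w ∧ x * y * x⁻¹ * y⁻¹ = z := by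
  obtain ⟨B⟩ := h.exists_coords
  obtain ⟨s, rfl⟩ := B.val_surj h hw
  have hzc : B.val zc = z := by simp [Coords.val, zc, bb]
  obtain ⟨a, b, ha, hb, hab⟩ := PlaneCode.centralizer_nonabelian s (fun r => hw1 (r ▸ B.val_one h))
    (fun r => hwz (r ▸ hzc))
  have hcom : ∀ {a b : Code}, Com a b → Commute (B.val a) (B.val b) := fun {a b} r => by
    show _ = _; rw [← B.val_mul h, ← B.val_mul h, r]
  refine ⟨_, B.val_mem h a, _, B.val_mem h b, hcom ha, hcom hb, ?_⟩
  rcases h.hcomm _ (B.val_mem h a) _ (B.val_mem h b) with r | r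
  · exfalso
    refine hab (B.val_injective h ?_)
    rw [B.val_mul h, B.val_mul h]; exact mul_inv_eq_iff_eq_mul.1 r
  · rw [r, mul_inv_cancel_right]

theorem count_inv : Nat.card {x : ↥W // (x : G) * x = 1} = 20 := by
  obtain ⟨B⟩ := h.exists_coords
  rw [← PlaneCode.count_inv, ← Nat.card_eq_finsetCard]
  refine (Nat.card_congr (Equiv.ofBijective (fun q : ↥(Finset.univ.filter fun q : Code => mul q q = one) =>
    (⟨⟨B.val q, B.val_mem h _⟩, ?_⟩ : {x : ↥W // (x : G) * x = 1})) ⟨?_, ?_⟩)).symm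
  · show B.val q * B.val q = 1
    rw [← B.val_mul h, (Finset.mem_filter.1 q.2).2, B.val_one h]
  · exact fun a b r => Subtype.ext (B.val_injective h (congrArg (fun t => ((t : ↥W) : G)) (congrArg Subtype.val r)))
  · rintro ⟨⟨x, hx⟩, hx2⟩
    obtain ⟨s, rfl⟩ := B.val_surj h hx
    exact ⟨⟨s, Finset.mem_filter.2 ⟨Finset.mem_univ _, B.val_injective h (by
      rw [B.val_mul h, B.val_one h]; exact hx2)⟩⟩, rfl⟩

end Plane

end CfsgLib.JankoFour
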