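import Cfsg.Agent.Lib.JankoFour.Planes
import Cfsg.Agent.Lib.JankoFour.Lines

/-!
# The action of the lifted four group on the three planes (owner: helper14)

`IsQ` describes the 2-elements of `C` centralizing `a`. One non-trivial class of them centralizes the plane
`W 0`; conjugation by `b` moves this class around.
-/

set_option autoImplicit false

namespace CfsgLib.JankoFour

open Cfsg CfsgLib.ThreeTrans
open CfsgLib.JankoFour.M22 (Grp)

variable {G : Type*} [Group G] [Finite G]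

namespace Setting

variable (S : Setting G)

theorem conj_C {n c : G} (hn : S.Norm n) (hc : c ∈ S.C) : n * c * n⁻¹ ∈ S.C := by
  obtain ⟨hcz, hcP⟩ := S.mem_C.1 hc
  refine S.mem_C.2 ⟨(hn.1.mul_left hcz).mul_left hn.1.inv_left, fun q hq => ?_⟩
  have h1 := (hn.inv S).2 q hq
  rw [inv_inv] at h1
  have := (LargeData.commute_conj_iff' (g := n)).2 (hcP _ h1)
  rwa [show n * (n⁻¹ * q * n) * n⁻¹ = q by group] at this

end Setting

namespace Frame

variable {S : Setting G} (F : Frame S)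

theorem plane (i : ℕ) : Plane S.z (F.W i) F.p where
  hz := S.hE.mul_self_z
  hz1 := S.hE.z_ne_one
  hzW := F.z_mem i
  hzc x hx := S.hE.commute_z (S.mem_fixE.1 hx).1
  hcard := F.card_W_all i
  hcomm x hx y hy := S.hE.conj_eq_or (S.mem_fixE.1 hx).1 (S.mem_fixE.1 hy).1
  hsq x hx := S.hE.eq_or (S.hE.sq_mem (S.mem_fixE.1 hx).1)
  hcenter x hx hc := S.hE.eq_or (F.center_W i hx hc)
  hp := F.p_pow
  hpz := S.P_commute_z F.hpP
  hpW x hx := S.commute_fixE (F.commute_p (F.el_mem i)).symm (S.P_commute_z F.hpP) hx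
  hfix x hx e := S.hE.eq_or (F.fixed_p (S.mem_fixE.1 hx).1 (mul_inv_eq_iff_eq_mul.1 e).symm)

theorem W_one {i : ℕ} (h : i % 3 = 0) : F.W i = F.W 0 := by rw [← F.W_mod i, h]

theorem el_zero : F.el 0 = F.a := by simp [el]

theorem mem_W0 {x : G} : x ∈ F.W 0 ↔ x ∈ S.E ∧ Commute x F.a := by rw [W, S.mem_fixE, F.el_zero]

/-- Two-elements of `C` centralizing `a`. -/
def IsQ (q : G) : Prop := q ∈ S.C ∧ Commute q F.a ∧ q ^ 4 = 1

theorem q_el {q : G} (hq : F.IsQ q) (i : ℕ) : Commute q (F.el i) :=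
  hq.2.1.mul_right ((F.commute_p hq.1).pow_right i)

theorem q_z {q : G} (hq : F.IsQ q) : Commute q S.z := commute_z hq.1

theorem q_W {q : G} (hq : F.IsQ q) {i : ℕ} {x : G} (hx : x ∈ F.W i) : q * x * q⁻¹ ∈ F.W i :=
  S.commute_fixE (F.q_el hq i) (F.q_z hq) hx

theorem q_op {q : G} (hq : F.IsQ q) (i : ℕ) : Op S.z (F.W i) F.p q :=
  ⟨F.q_z hq, F.commute_p hq.1, fun _ hx => F.q_W hq hx, fun x _ => by rw [hq.2.2]; simp⟩

theorem q_v : F.IsQ F.v := ⟨F.hvC, F.hav.symm, F.hv4⟩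

theorem q_w : F.IsQ F.w := ⟨F.hwC, F.haw.symm, F.hw4⟩

/-- The image in the Mathieu group of an element of `C` commuting with `a`. -/
theorem cent_image {c : G} (hc : c ∈ S.C) (hca : Commute c F.a) :
    ∃ i j l : ℕ, S.f c = S.f F.v ^ i * S.f F.w ^ j * S.f F.a ^ l := by
  obtain ⟨i, j, k, l, e⟩ := F.hcfg.hcent (S.f c) (by
    show _ = _; rw [← S.f_mul_C hc F.haC, ← S.f_mul_C F.haC hc, hca.eq])
  refine ⟨i, j, l, ?_⟩
  have hk : k % 3 = 0 := by
    by_contra hk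
    set q := F.v ^ i * F.w ^ j with hq
    have hqC : q ∈ S.C := mul_mem (pow_mem F.hvC i) (pow_mem F.hwC j)
    set m := (q * F.b ^ k * F.a ^ l)⁻¹ * c with hm
    have hmC : q * F.b ^ k * F.a ^ l ∈ S.C := mul_mem (mul_mem hqC (pow_mem F.hbC k)) (pow_mem F.haC l)
    have hm1 : S.f m = 1 := by
      rw [hm, S.f_mul_C (inv_mem hmC) hc, S.f_inv_C hmC, S.f_mul_C (mul_mem hqC (pow_mem F.hbC k))
        (pow_mem F.haC l), S.f_mul_C hqC (pow_mem F.hbC k), hq, S.f_mul_C (pow_mem F.hvC i) (pow_mem F.hwC j),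
        S.f_pow_C F.hvC, S.f_pow_C F.hwC, S.f_pow_C F.hbC, S.f_pow_C F.haC, e, inv_mul_cancel]
    have hma : Commute m F.a := S.ker_central (mul_mem (inv_mem hmC) hc) hm1 F.haC
    have hqa : Commute q F.a := (F.hav.symm.pow_left i).mul_left (F.haw.symm.pow_left j)
    have hb : Commute (F.b ^ k) F.a := by
      have e2 : F.b ^ k = q⁻¹ * c * m⁻¹ * (F.a ^ l)⁻¹ := by rw [hm]; group
      rw [e2]
      exact ((hqa.inv_left.mul_left hca).mul_left hma.inv_left).mul_left ((Commute.refl F.a).pow_left l).inv_left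
    have hbi : ∀ n : ℕ, F.b ^ n * F.a * (F.b ^ n)⁻¹ = F.el n := by
      intro n
      induction n with
      | zero => simp [el]
      | succ n ih =>
        rw [pow_succ', show F.b * F.b ^ n * F.a * (F.b * F.b ^ n)⁻¹ = F.b * (F.b ^ n * F.a * (F.b ^ n)⁻¹) * F.b⁻¹
          by group, ih, F.b_el]
    have h1 := hbi k
    rw [hb.eq, mul_inv_cancel_right, el, left_eq_mul] at h1
    have h3 := orderOf_dvd_of_pow_eq_one h1
    rw [F.hp3] at h3
    omega
  rw [e, pow_eq_pow_mod k F.hcfg.hs, hk, pow_zero, mul_one]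

/-- The image of an element of `IsQ`. -/
theorem q_image {q : G} (hq : F.IsQ q) :
    S.f q = 1 ∨ S.f q = S.f F.v ∨ S.f q = S.f F.w ∨ S.f q = S.f F.v * S.f F.w := by
  obtain ⟨i, j, l, e⟩ := F.cent_image hq.1 hq.2.1
  have h := F.hcfg
  have c1 : Commute (S.f F.v ^ i * S.f F.w ^ j) (S.f F.a ^ l) :=
    ((h.hrv.symm.pow_left i).mul_left (h.hrw.symm.pow_left j)).pow_right l
  have hv4 : (S.f F.v ^ i * S.f F.w ^ j) ^ 4 = 1 := by
    rw [(h.hvw.pow_pow i j).mul_pow, ← pow_mul, ← pow_mul,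
      pow_eq_pow_mod (i * 4) (show S.f F.v ^ 2 = 1 by rw [pow_two, h.hv]),
      pow_eq_pow_mod (j * 4) (show S.f F.w ^ 2 = 1 by rw [pow_two, h.hw]),
      show i * 4 % 2 = 0 by omega, show j * 4 % 2 = 0 by omega, pow_zero, pow_zero, one_mul]
  have h4 : (S.f F.a ^ l) ^ 4 = 1 := by
    have : S.f q ^ 4 = 1 := by rw [← S.f_pow_C hq.1, hq.2.2, S.f_one]
    rwa [e, c1.mul_pow, hv4, one_mul] at this
  rw [← pow_mul, pow_eq_pow_mod _ h.hr, show l * 4 % 3 = l % 3 by omega, ← pow_eq_pow_mod _ h.hr] at h4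
  rw [h4, mul_one, pow_eq_pow_mod i (show S.f F.v ^ 2 = 1 by rw [pow_two, h.hv]),
    pow_eq_pow_mod j (show S.f F.w ^ 2 = 1 by rw [pow_two, h.hw])] at e
  rcases Nat.mod_two_eq_zero_or_one i with r | r <;> rcases Nat.mod_two_eq_zero_or_one j with r' | r' <;>
    simp [r, r'] at e <;> simp [e]

theorem q_sq_one {q : G} (hq : F.IsQ q) : S.f q * S.f q = 1 := by
  have h := F.hcfg
  rcases F.q_image hq with e | e | e | e <;> rw [e]
  · exact one_mul 1
  · exact h.hv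
  · exact h.hw
  · rw [show S.f F.v * S.f F.w * (S.f F.v * S.f F.w) = S.f F.v * (S.f F.w * S.f F.v) * S.f F.w by group,
      ← h.hvw.eq, show S.f F.v * (S.f F.v * S.f F.w) * S.f F.w = (S.f F.v * S.f F.v) * (S.f F.w * S.f F.w) by group,
      h.hv, h.hw, one_mul]

theorem q_fcomm {q q' : G} (hq : F.IsQ q) (hq' : F.IsQ q') : Commute (S.f q) (S.f q') := by
  have h := F.hcfg
  rcases F.q_image hq with e | e | e | e <;> rcases F.q_image hq' with e' | e' | e' | e' <;> rw [e, e'] <;>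
    first | exact Commute.one_left _ | exact Commute.one_right _ | exact Commute.refl _ | exact h.hvw |
      exact h.hvw.symm | exact (Commute.refl _).mul_right h.hvw | exact h.hvw.symm.mul_right (Commute.refl _) |
      exact ((Commute.refl _).mul_left h.hvw.symm) | exact (h.hvw.mul_left (Commute.refl _))

theorem q_sq {q : G} (hq : F.IsQ q) : q * q = 1 ∨ q * q = S.z :=
  S.ker_two (mul_mem hq.1 hq.1) (by rw [S.f_mul_C hq.1 hq.1, F.q_sq_one hq]) (n := 1)
    (by rw [pow_one, ← pow_two, ← pow_mul]; exact hq.2.2)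

theorem q_mul {q q' : G} (hq : F.IsQ q) (hq' : F.IsQ q') : F.IsQ (q * q') := by
  refine ⟨mul_mem hq.1 hq'.1, hq.2.1.mul_left hq'.2.1, ?_⟩
  set k := q * q' * (q * q') with hk
  have hcs : ∀ {x : G}, x = 1 ∨ x = S.z → x * x = 1 := by
    rintro x (rfl | rfl)
    exacts [one_mul 1, S.hE.mul_self_z]
  have hzq : Commute S.z q := (F.q_z hq).symm
  rw [show (q * q') ^ 4 = k * k by rw [hk]; simp [pow_succ, mul_assoc]]
  refine hcs ?_
  have e := S.two_comm hq.1 hq'.1 (n := 2) hq'.2.2 (F.q_fcomm hq hq')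
  have e' : q * q' = q' * q ∨ q * q' = q' * S.z * q :=
    e.imp mul_inv_eq_iff_eq_mul.1 mul_inv_eq_iff_eq_mul.1
  rcases e' with r | r
  · have hk' : k = q' * q * (q * q') := by rw [hk]; nth_rewrite 1 [r]; rfl
    rw [hk', show q' * q * (q * q') = q' * (q * q) * q' by group]
    rcases F.q_sq hq with s | s <;> rw [s]
    · rw [mul_one]; exact F.q_sq hq'
    · rw [(F.q_z hq').eq, mul_assoc]
      rcases F.q_sq hq' with s' | s' <;> rw [s']
      · exact Or.inr (mul_one _)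
      · exact Or.inl S.hE.mul_self_z
  · have hk' : k = q' * S.z * q * (q * q') := by rw [hk]; nth_rewrite 1 [r]; rfl
    rw [hk', show q' * S.z * q * (q * q') = q' * (S.z * (q * q)) * q' by group]
    rcases F.q_sq hq with s | s <;> rw [s]
    · rw [mul_one, (F.q_z hq').eq, mul_assoc]
      rcases F.q_sq hq' with s' | s' <;> rw [s']
      · exact Or.inr (mul_one _)
      · exact Or.inl S.hE.mul_self_z
    · rw [S.hE.mul_self_z, mul_one]; exact F.q_sq hq'

theorem q_inv {q : G} (hq : F.IsQ q) : F.IsQ q⁻¹ :=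
  ⟨inv_mem hq.1, hq.2.1.inv_left, by rw [inv_pow, hq.2.2, inv_one]⟩

/-- Lifts are unique up to `z`. -/
theorem q_eq {q q' : G} (hq : F.IsQ q) (hq' : F.IsQ q') (e : S.f q = S.f q') : q' = q ∨ q' = q * S.z := by
  have h := F.q_mul (F.q_inv hq) hq'
  rcases S.ker_two h.1 (by rw [S.f_mul_C (inv_mem hq.1) hq'.1, S.f_inv_C hq.1, e, inv_mul_cancel]) (n := 2)
    h.2.2 with r | r
  · exact Or.inl (inv_mul_eq_one.1 r).symm
  · exact Or.inr (by rw [← r, mul_inv_cancel_left])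

theorem q_conj_b {q : G} (hq : F.IsQ q) : F.IsQ (F.b * q * F.b⁻¹) := by
  refine ⟨mul_mem (mul_mem F.hbC hq.1) (inv_mem F.hbC), ?_, by rw [conj_pow, hq.2.2]; simp⟩
  have h := (LargeData.commute_conj_iff' (g := F.b)).2 hq.2.1
  rw [F.hba] at h
  have hp := (LargeData.commute_conj_iff' (g := F.b)).2 (F.commute_p hq.1)
  rw [(F.commute_p F.hbC).eq, mul_inv_cancel_right] at hp
  have := h.mul_right hp.inv_right
  rwa [mul_inv_cancel_right] at this

/-- `q` centralizes the plane. -/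
def Kills (q : G) (i : ℕ) : Prop := ∀ x ∈ F.W i, Commute q x

theorem kills_iff_not_moving {q : G} {i : ℕ} : F.Kills q i ↔ ¬ Plane.Moving (F.W i) q := Plane.not_moving.symm

theorem kills_conj {q : G} {i : ℕ} (h : F.Kills q i) : F.Kills (F.b * q * F.b⁻¹) (i + 1) := by
  intro x hx
  have hb3 : F.b⁻¹ = F.b ^ 2 := inv_eq_of_mul_eq_one_left (by rw [← pow_succ]; exact F.hb)
  have hx' : F.b⁻¹ * x * F.b ∈ F.W i := by
    rw [← F.W_mod i, show i % 3 = (i + 1 + 1 + 1) % 3 by omega, F.W_mod, hb3]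
    have e : F.b = (F.b ^ 2)⁻¹ := by rw [← hb3, inv_inv]
    conv => arg 2; arg 2; rw [e]
    rw [pow_two, show F.b * F.b * x * (F.b * F.b)⁻¹ = F.b * (F.b * x * F.b⁻¹) * F.b⁻¹ by group]
    exact F.b_W (F.b_W hx)
  have := (LargeData.commute_conj_iff' (g := F.b)).2 (h _ hx')
  rwa [show F.b * (F.b⁻¹ * x * F.b) * F.b⁻¹ = x by group] at this

theorem kills_mul {q q' : G} {i : ℕ} (h : F.Kills q i) (h' : F.Kills q' i) : F.Kills (q * q') i :=
  fun x hx => (h x hx).mul_left (h' x hx)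

theorem kills_eq {q q' : G} (hq : F.IsQ q) (hq' : F.IsQ q') (e : S.f q = S.f q') {i : ℕ} (h : F.Kills q i) :
    F.Kills q' i := by
  rcases F.q_eq hq hq' e with r | r
  · rw [r]; exact h
  · rw [r]; exact F.kills_mul h fun x hx => (S.hE.commute_z (S.mem_fixE.1 hx).1).symm

theorem not_kills_all : ¬ (F.Kills F.v 0 ∧ F.Kills F.w 0) := by
  rintro ⟨hv, hw⟩
  have hvw : F.Kills (F.v * F.w) 0 := F.kills_mul hv hw
  have h := F.hcfg
  have hcw : F.IsQ (F.b * F.w * F.b⁻¹) := F.q_conj_b F.q_w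
  have efw : S.f (F.b * F.w * F.b⁻¹) = S.f (F.v * F.w) := by
    rw [S.f_conj_C F.hbC F.hwC, S.f_mul_C F.hvC F.hwC, h.hsw]
  -- both generators kill every plane
  have step : ∀ i, F.Kills F.v i ∧ F.Kills F.w i → F.Kills F.v (i + 1) ∧ F.Kills F.w (i + 1) := by
    rintro i ⟨a1, a2⟩
    have b1 : F.Kills F.w (i + 1) := F.hw ▸ F.kills_conj a1
    have b2 : F.Kills (F.v * F.w) (i + 1) := F.kills_eq hcw (F.q_mul F.q_v F.q_w) efw (F.kills_conj a2)
    refine ⟨fun x hx => ?_, b1⟩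
    have := (b2 x hx).mul_left (b1 x hx).inv_left
    rwa [mul_inv_cancel_right] at this
  have h0 : F.Kills F.v 0 ∧ F.Kills F.w 0 := ⟨hv, hw⟩
  have h1 := step 0 h0
  have h2 := step 1 h1
  have hvE : F.v ∈ Subgroup.zpowers S.z := by
    rw [← S.hE.hcent, Subgroup.mem_centralizer_iff]
    intro e he
    obtain ⟨x, hx, y, hy, t, ht, rfl⟩ := F.decomp he
    exact (((h0.1 x hx).mul_right (h1.1 y hy)).mul_right (h2.1 t ht)).symm.eq
  refine F.hcfg.hv1 ((S.f_eq_one_iff (S.C_le_H0 F.hvC)).2 (Subgroup.mem_sup_left (S.mem_E_of_zpowers hvE)))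

/-- The kernel on the first plane. -/
theorem exists_kernel : ∃ t, F.IsQ t ∧ S.f t ≠ 1 ∧ F.Kills t 0 ∧
    ∀ q, F.IsQ q → F.Kills q 0 → S.f q = 1 ∨ S.f q = S.f t := by
  have h := F.hcfg
  have hP := F.plane 0
  have hv := F.q_v
  have hw := F.q_w
  have hvw := F.q_mul hv hw
  have efvw := S.f_mul_C F.hvC F.hwC
  have hne : S.f F.v * S.f F.w ≠ 1 := fun e => h.hne (by
    rw [eq_inv_of_mul_eq_one_left e]; exact inv_eq_of_mul_eq_one_left h.hw)
  obtain ⟨t, ht, ht1, htk⟩ : ∃ t, F.IsQ t ∧ S.f t ≠ 1 ∧ F.Kills t 0 := by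
    by_cases h1 : F.Kills F.v 0
    · exact ⟨F.v, hv, h.hv1, h1⟩
    by_cases h2 : F.Kills F.w 0
    · exact ⟨F.w, hw, h.hw1, h2⟩
    rw [kills_iff_not_moving, not_not] at h1 h2
    refine ⟨F.v * F.w, hvw, efvw ▸ hne, fun x hx => ?_⟩
    have e : ∀ {y}, y ∈ F.W 0 → F.v * y * F.v⁻¹ = F.w * y * F.w⁻¹ := fun hy =>
      hP.op_same (F.q_op hv 0) (F.q_op hw 0) h1 h2 (F.q_op hvw 0) hy
    refine mul_inv_eq_iff_eq_mul.1 ?_
    rw [show F.v * F.w * x * (F.v * F.w)⁻¹ = F.v * (F.w * x * F.w⁻¹) * F.v⁻¹ by group, e (F.q_W hw hx)]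
    exact hP.op_involutive (F.q_op hw 0) h2 hx
  refine ⟨t, ht, ht1, htk, fun q hq hqk => ?_⟩
  by_contra hcon
  rw [not_or] at hcon
  refine F.not_kills_all ?_
  have hprod := F.q_mul ht hq
  have hpk := F.kills_mul htk hqk
  have key : ∀ g, F.IsQ g → S.f g = S.f t ∨ S.f g = S.f q ∨ S.f g = S.f t * S.f q → F.Kills g 0 := by
    rintro g hg (e | e | e)
    · exact F.kills_eq ht hg e.symm htk
    · exact F.kills_eq hq hg e.symm hqk
    · exact F.kills_eq hprod hg (by rw [S.f_mul_C ht.1 hq.1, e]) hpk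
  have sq1 := F.hcfg.hv
  have sq2 := F.hcfg.hw
  have aa : ∀ u, S.f F.v * (S.f F.v * u) = u := fun u => by rw [← mul_assoc, sq1, one_mul]
  have bb' : ∀ u, S.f F.w * (S.f F.w * u) = u := fun u => by rw [← mul_assoc, sq2, one_mul]
  have ab : ∀ u, S.f F.w * (S.f F.v * u) = S.f F.v * (S.f F.w * u) := fun u => by
    rw [← mul_assoc, ← h.hvw.eq, mul_assoc]
  have ab0 : S.f F.w * S.f F.v = S.f F.v * S.f F.w := h.hvw.symm.eq
  constructor <;> refine key _ (by assumption) ?_ <;>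
    rcases F.q_image ht with e | e | e | e <;> rcases F.q_image hq with e' | e' | e' | e' <;>
    first
    | exact absurd e ht1
    | exact absurd e' hcon.1
    | exact absurd (e'.trans e.symm) hcon.2
    | simp [e, e', mul_assoc, sq1, sq2, aa, bb', ab, ab0]

/-- The chosen kernel. -/
noncomputable def t0 : G := F.exists_kernel.choose

theorem t0_q : F.IsQ F.t0 := F.exists_kernel.choose_spec.1

theorem t0_ne : S.f F.t0 ≠ 1 := F.exists_kernel.choose_spec.2.1

theorem t0_W {x : G} (hx : x ∈ F.W 0) : Commute F.t0 x := F.exists_kernel.choose_spec.2.2.1 x hx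

theorem t0_unique {q : G} (hq : F.IsQ q) (h : F.Kills q 0) : S.f q = 1 ∨ S.f q = S.f F.t0 :=
  F.exists_kernel.choose_spec.2.2.2 q hq h

theorem kills_one_iff {q : G} (hq : F.IsQ q) :
    F.Kills q 0 ↔ S.f q = 1 ∨ S.f q = S.f F.t0 := by
  refine ⟨F.t0_unique hq, fun h => ?_⟩
  rcases h with e | e
  · exact F.kills_eq (⟨one_mem _, Commute.one_left _, one_pow _⟩) hq (by rw [S.f_one, e]) fun x _ => Commute.one_left x
  · exact F.kills_eq F.t0_q hq e.symm fun x hx => F.t0_W hx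

/-- The second kernel. -/
noncomputable def t1 : G := F.b * F.t0 * F.b⁻¹

theorem t1_q : F.IsQ F.t1 := F.q_conj_b F.t0_q

theorem t1_kills : F.Kills F.t1 1 := F.kills_conj fun _ hx => F.t0_W hx

/-- The four images. -/
theorem four : S.f F.t1 ≠ 1 ∧ S.f F.t1 ≠ S.f F.t0 ∧
    S.f (F.b * F.t1 * F.b⁻¹) = S.f F.t0 * S.f F.t1 ∧
    ∀ q, F.IsQ q → S.f q = 1 ∨ S.f q = S.f F.t0 ∨ S.f q = S.f F.t1 ∨ S.f q = S.f F.t0 * S.f F.t1 := by
  have h := F.hcfg
  have e1 : S.f F.t1 = S.f F.b * S.f F.t0 * (S.f F.b)⁻¹ := S.f_conj_C F.hbC F.t0_q.1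
  have e2 : S.f (F.b * F.t1 * F.b⁻¹) = S.f F.b * S.f F.t1 * (S.f F.b)⁻¹ := S.f_conj_C F.hbC F.t1_q.1
  rw [e2, e1]
  have aa : ∀ u, S.f F.v * (S.f F.v * u) = u := fun u => by rw [← mul_assoc, h.hv, one_mul]
  have bb' : ∀ u, S.f F.w * (S.f F.w * u) = u := fun u => by rw [← mul_assoc, h.hw, one_mul]
  have ab : ∀ u, S.f F.w * (S.f F.v * u) = S.f F.v * (S.f F.w * u) := fun u => by
    rw [← mul_assoc, ← h.hvw.eq, mul_assoc]
  have ab0 : S.f F.w * S.f F.v = S.f F.v * S.f F.w := h.hvw.symm.eq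
  have svw : S.f F.b * (S.f F.v * S.f F.w) * (S.f F.b)⁻¹ = S.f F.v := by
    rw [show S.f F.b * (S.f F.v * S.f F.w) * (S.f F.b)⁻¹ =
      (S.f F.b * S.f F.v * (S.f F.b)⁻¹) * (S.f F.b * S.f F.w * (S.f F.b)⁻¹) by group, h.hsv, h.hsw, ab, h.hw,
      mul_one]
  have hvw1 : S.f F.v * S.f F.w ≠ 1 := fun e => h.hne (by
    rw [eq_inv_of_mul_eq_one_left e]; exact inv_eq_of_mul_eq_one_left h.hw)
  rcases F.q_image F.t0_q with e | e | e | e
  · exact absurd e F.t0_ne
  · rw [e, h.hsv, h.hsw]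
    refine ⟨h.hw1, h.hne.symm, rfl, fun q hq => ?_⟩
    exact F.q_image hq
  · rw [e, h.hsw, svw]
    refine ⟨hvw1, fun r => h.hv1 (mul_eq_right.1 r), by rw [ab, h.hw, mul_one], fun q hq => ?_⟩
    rcases F.q_image hq with r | r | r | r
    · exact Or.inl r
    · exact Or.inr (Or.inr (Or.inr (by rw [r, ab, h.hw, mul_one])))
    · exact Or.inr (Or.inl r)
    · exact Or.inr (Or.inr (Or.inl r))
  · rw [e, svw, h.hsv]
    refine ⟨h.hv1, fun r => h.hw1 (mul_eq_left.1 r.symm), by rw [mul_assoc, ab0, aa], fun q hq => ?_⟩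
    rcases F.q_image hq with r | r | r | r
    · exact Or.inl r
    · exact Or.inr (Or.inr (Or.inl r))
    · exact Or.inr (Or.inr (Or.inr (by rw [r, mul_assoc, ab0, aa])))
    · exact Or.inr (Or.inl r)

theorem t1_moves : Plane.Moving (F.W 0) F.t1 := by
  by_contra hc
  rw [← F.kills_iff_not_moving] at hc
  rcases F.t0_unique F.t1_q hc with e | e
  exacts [F.four.1 e, F.four.2.1 e]

theorem t0_moves {i : ℕ} (hi : i = 1 ∨ i = 2) : Plane.Moving (F.W i) F.t0 := by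
  by_contra hc
  rw [← F.kills_iff_not_moving] at hc
  have h1 := F.t1_q
  obtain ⟨f1, f2, f3, -⟩ := F.four
  -- move the plane back to the first one
  have hW0 : ∀ q, F.Kills q 3 → F.Kills q 0 := fun q hq x hx => hq x (by rwa [F.W_one (by norm_num)])
  rcases hi with rfl | rfl
  · have h3 : F.Kills (F.b * F.t1 * F.b⁻¹) 3 := F.kills_conj (F.kills_conj hc)
    rcases F.t0_unique (F.q_conj_b h1) (hW0 _ h3) with e | e <;> rw [f3] at e
    · refine f2 ?_
      have ht := F.q_sq_one F.t0_q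
      rw [eq_inv_of_mul_eq_one_right e]
      exact inv_eq_of_mul_eq_one_left ht
    · exact f1 (mul_eq_left.1 e)
  · rcases F.t0_unique h1 (hW0 _ (F.kills_conj hc)) with e | e
    exacts [f1 e, f2 e]

end Frame

end CfsgLib.JankoFour
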