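import Cfsg.Agent.Lib.JankoFour.Kernel

/-!
# Elements of order three and the centralizer of `a` in `H` (owner: helper14)
-/

set_option autoImplicit false

namespace CfsgLib.JankoFour

open Cfsg CfsgLib.ThreeTrans
open CfsgLib.JankoFour.M22 (Grp)

variable {G : Type*} [Group G] [Finite G]

namespace Setting

variable (S : Setting G)

theorem mem_C_of_comm {x q : G} (hx : Commute x S.z) (hq : q ∈ S.P) (hq1 : q ≠ 1) (hxq : Commute x q) :
    x ∈ S.C := by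
  refine S.mem_C.2 ⟨hx, fun r hr => ?_⟩
  obtain ⟨g, hg, -, hP⟩ := S.exists_p
  rcases hP q hq with rfl | rfl | rfl
  · exact absurd rfl hq1
  · rcases hP r hr with rfl | rfl | rfl
    exacts [Commute.one_right x, hxq, hxq.inv_right]
  · have hxg : Commute x g := by simpa using hxq.inv_right
    rcases hP r hr with rfl | rfl | rfl
    exacts [Commute.one_right x, hxg, hxg.inv_right]

end Setting

namespace Frame

variable {S : Setting G} (F : Frame S)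

theorem hab : S.f F.a ≠ 1 := F.hcfg.hr1

theorem b_pow_el (n i : ℕ) : F.b ^ n * F.el i * (F.b ^ n)⁻¹ = F.el (i + n) := by
  induction n with
  | zero => simp
  | succ n ih =>
    rw [pow_succ', show F.b * F.b ^ n * F.el i * (F.b * F.b ^ n)⁻¹ = F.b * (F.b ^ n * F.el i * (F.b ^ n)⁻¹) * F.b⁻¹
      by group, ih, F.b_el, add_assoc]

/-- All non-central elements of order three of `C` are conjugate in `C`. -/
theorem three_classify {x : G} (hx : x ∈ S.C) (hx3 : x ^ 3 = 1) (hne : S.f x ≠ 1) :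
    ∃ c ∈ S.C, c * x * c⁻¹ = F.a := by
  haveI : Fact (Nat.Prime 3) := ⟨Nat.prime_three⟩
  have h3 : S.f x ^ 3 = 1 := by rw [← S.f_pow_C hx, hx3, S.f_one]
  obtain ⟨g, hg⟩ := isConj_iff.1 (F.hcfg.hthree _ (orderOf_eq_prime h3 hne))
  obtain ⟨c, hc, rfl⟩ := S.exists_C g
  have hxC : c * x * c⁻¹ ∈ S.C := mul_mem (mul_mem hc hx) (inv_mem hc)
  set k := F.a⁻¹ * (c * x * c⁻¹) with hk
  have hkC : k ∈ S.C := mul_mem (inv_mem F.haC) hxC
  have hk1 : S.f k = 1 := by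
    rw [hk, S.f_mul_C (inv_mem F.haC) hxC, S.f_inv_C F.haC, S.f_conj_C hc hx, hg, inv_mul_cancel]
  have e : c * x * c⁻¹ = F.a * k := by rw [hk, mul_inv_cancel_left]
  have hk3 : k ^ 3 = 1 := by
    have : (c * x * c⁻¹) ^ 3 = 1 := by rw [conj_pow, hx3]; simp
    rwa [e, (S.ker_central hkC hk1 F.haC).symm.mul_pow, F.ha, one_mul] at this
  obtain ⟨i, hi⟩ := F.P_eq (S.ker_three hkC hk1 (n := 1) (by rw [pow_one]; exact hk3))
  refine ⟨F.b ^ (2 * i) * c, mul_mem (pow_mem F.hbC _) hc, ?_⟩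
  rw [show F.b ^ (2 * i) * c * x * (F.b ^ (2 * i) * c)⁻¹ =
    F.b ^ (2 * i) * (c * x * c⁻¹) * (F.b ^ (2 * i))⁻¹ by group, e, hi, ← el, F.b_pow_el,
    ← F.el_mod, show (i + 2 * i) % 3 = 0 by omega, F.el_zero]

/-- An outer element centralizing `a`. -/
theorem exists_outer_a : ∃ n, S.Norm n ∧ n ∉ S.H0 ∧ Commute n F.a := by
  obtain ⟨n, hn, hn0⟩ := S.exists_outer
  have hna : n * F.a * n⁻¹ ∈ S.C := S.conj_C hn F.haC
  have h3 : (n * F.a * n⁻¹) ^ 3 = 1 := by rw [conj_pow, F.ha]; simp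
  have hne : S.f (n * F.a * n⁻¹) ≠ 1 := by
    intro e
    have h1 := S.hEPn n⁻¹ hn.1.inv_left _ ((S.f_eq_one_iff (S.C_le_H0 hna)).1 e)
    rw [show n⁻¹ * (n * F.a * n⁻¹) * n⁻¹⁻¹ = F.a by group] at h1
    exact F.hab ((S.f_eq_one_iff (S.C_le_H0 F.haC)).2 h1)
  obtain ⟨c, hc, e⟩ := F.three_classify hna h3 hne
  refine ⟨c * n, (S.norm_of_mem_C hc).mul S hn, fun h => hn0 ?_, mul_inv_eq_iff_eq_mul.1 ?_⟩
  · simpa using mul_mem (inv_mem (S.C_le_H0 hc)) h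
  · rw [show c * n * F.a * (c * n)⁻¹ = c * (n * F.a * n⁻¹) * c⁻¹ by group, e]

/-- An element of `H` centralizing `a` is a product of an element of the plane and one normalizing `P`. -/
theorem cent_a_decomp {h : G} (hh : Commute h S.z) (ha : Commute h F.a) :
    ∃ x ∈ F.W 0, ∃ m, S.Norm m ∧ Commute m F.a ∧ h = x * m := by
  obtain ⟨e, he, n, hn, rfl⟩ := S.C_pair hh
  have haz := commute_z F.haC
  set q := n * F.p * n⁻¹ with hq
  have hqP : q ∈ S.P := hn.2 _ F.hpP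
  have hq1 : q ≠ 1 := fun r => F.p_ne (conj_eq_one_iff.1 r)
  have hca : Commute F.a (e * q * e⁻¹) := by
    rw [show e * q * e⁻¹ = e * n * F.p * (e * n)⁻¹ by rw [hq]; group]
    exact (ha.symm.mul_right (F.commute_p F.haC)).mul_right ha.symm.inv_right
  have haq : Commute F.a q := (S.mem_C.1 F.haC).2 q hqP
  set d := e⁻¹ * (F.a * e * F.a⁻¹) with hd
  have hdE : d ∈ S.E := mul_mem (inv_mem he) (S.hE.conj_mem haz he)
  have e2 : (F.a * e * F.a⁻¹) * q * (F.a * e * F.a⁻¹)⁻¹ = e * q * e⁻¹ := by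
    rw [show (F.a * e * F.a⁻¹) * q * (F.a * e * F.a⁻¹)⁻¹ = F.a * (e * (F.a⁻¹ * q * F.a) * e⁻¹) * F.a⁻¹ by group,
      mul_assoc F.a⁻¹, ← haq.eq, inv_mul_cancel_left, hca.eq, mul_inv_cancel_right]
  have hdq : Commute d q := mul_inv_eq_iff_eq_mul.1 (by
    rw [hd, show e⁻¹ * (F.a * e * F.a⁻¹) * q * (e⁻¹ * (F.a * e * F.a⁻¹))⁻¹ =
      e⁻¹ * ((F.a * e * F.a⁻¹) * q * (F.a * e * F.a⁻¹)⁻¹) * e by group, e2]
    group)
  have hdz : d ∈ Subgroup.zpowers S.z := by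
    rw [← S.hCP]
    refine ⟨hdE, Subgroup.mem_centralizer_iff.2 fun r hr => ?_⟩
    exact ((S.mem_C.1 (S.mem_C_of_comm (S.hE.commute_z hdE) hqP hq1 hdq)).2 r hr).eq.symm
  have hea : Commute e F.a := by
    rcases S.hE.eq_or hdz with r | r
    · exact (mul_inv_eq_iff_eq_mul.1 (inv_mul_eq_one.1 r).symm).symm
    · exfalso
      have e1 : F.a * e * F.a⁻¹ = e * S.z := by rw [← r, hd, mul_inv_cancel_left]
      have e3 : F.a ^ 3 * e * (F.a ^ 3)⁻¹ = e * S.z := by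
        rw [show F.a ^ 3 * e * (F.a ^ 3)⁻¹ = F.a * (F.a * (F.a * e * F.a⁻¹) * F.a⁻¹) * F.a⁻¹ by
          rw [pow_succ, pow_two]; group, e1]
        have hz : F.a * S.z * F.a⁻¹ = S.z := by rw [haz.eq, mul_inv_cancel_right]
        have hz2 : F.a * (e * S.z) * F.a⁻¹ = e := by
          rw [show F.a * (e * S.z) * F.a⁻¹ = (F.a * e * F.a⁻¹) * (F.a * S.z * F.a⁻¹) by group, e1, hz, mul_assoc,
            S.hE.mul_self_z, mul_one]
        rw [hz2, e1]
      rw [F.ha, one_mul, inv_one, mul_one, left_eq_mul] at e3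
      exact S.hE.z_ne_one e3
  refine ⟨e, F.mem_W0.2 ⟨he, hea⟩, n, hn, ?_, rfl⟩
  have := hea.inv_left.mul_left ha
  rwa [inv_mul_cancel_left] at this

/-- Inner elements: the plane, the four group and `⟨a, p⟩`. -/
theorem cent_a_inner {h : G} (h0 : h ∈ S.H0) (ha : Commute h F.a) :
    ∃ x ∈ F.W 0, ∃ q, F.IsQ q ∧ ∃ y ∈ F.A, h = x * q * y := by
  obtain ⟨x, hx, m, hm, hma, rfl⟩ := F.cent_a_decomp (mem_centralizer_singleton_iff'.1 (S.hH0 h0)) ha
  have hm0 : m ∈ S.H0 := by simpa using mul_mem (inv_mem (S.hEH0 (F.mem_W0.1 hx).1)) h0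
  have hmC := S.norm_inner_mem_C hm hm0
  obtain ⟨i, j, l, e⟩ := F.cent_image hmC hma
  have hq : ∀ {n : ℕ} {g : G}, F.IsQ g → F.IsQ (g ^ n) := fun {n g} hg => by
    induction n with
    | zero => rw [pow_zero]; exact ⟨one_mem _, Commute.one_left _, one_pow _⟩
    | succ n ih => rw [pow_succ]; exact F.q_mul ih hg
  have hqq : F.IsQ (F.v ^ i * F.w ^ j) := F.q_mul (hq F.q_v) (hq F.q_w)
  have hC : F.v ^ i * F.w ^ j * F.a ^ l ∈ S.C := mul_mem hqq.1 (pow_mem F.haC l)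
  set k := (F.v ^ i * F.w ^ j * F.a ^ l)⁻¹ * m with hk
  have hk1 : S.f k = 1 := by
    rw [hk, S.f_mul_C (inv_mem hC) hmC, S.f_inv_C hC, S.f_mul_C hqq.1 (pow_mem F.haC l),
      S.f_mul_C (pow_mem F.hvC i) (pow_mem F.hwC j), S.f_pow_C F.hvC, S.f_pow_C F.hwC, S.f_pow_C F.haC, e,
      inv_mul_cancel]
  obtain ⟨r, hr, c, hc, hkrc⟩ := S.C_ker (mul_mem (inv_mem hC) hmC) hk1
  obtain ⟨n, rfl⟩ := F.P_eq hr
  have hcq : F.IsQ c := by
    rcases S.hE.eq_or hc with rfl | rfl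
    · exact ⟨one_mem _, Commute.one_left _, one_pow _⟩
    · exact ⟨S.z_mem_C, (commute_z F.haC).symm, by rw [pow_succ, pow_succ, pow_two, S.hE.mul_self_z]; simp [S.hE.mul_self_z]⟩
  refine ⟨x, hx, F.v ^ i * F.w ^ j * c, F.q_mul hqq hcq, F.a ^ l * F.p ^ n, F.mem_A.2 ⟨l, n, rfl⟩, ?_⟩
  have hm' : m = F.v ^ i * F.w ^ j * F.a ^ l * (F.p ^ n * c) := by rw [← hkrc, mul_inv_cancel_left]
  have hcc : Commute c (F.a ^ l * F.p ^ n) :=
    (hcq.2.1.pow_right l).mul_right ((F.commute_p hcq.1).pow_right n)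
  rw [hm', show x * (F.v ^ i * F.w ^ j * c) * (F.a ^ l * F.p ^ n) =
    x * (F.v ^ i * F.w ^ j * (c * (F.a ^ l * F.p ^ n))) by group, hcc.eq]
  group

/-- The action of an outer element centralizing `a` on the four group. -/
theorem outer_action {n : G} (hn : S.Norm n) (hn0 : n ∉ S.H0) (hna : Commute n F.a) :
    S.f (n * F.t0 * n⁻¹) = S.f F.t0 ∧
      ∀ q, F.IsQ q → S.f q ≠ 1 → S.f q ≠ S.f F.t0 → S.f (n * q * n⁻¹) = S.f q * S.f F.t0 := by
  obtain ⟨f1, f2, f3, f4⟩ := F.four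
  have hq : ∀ {q}, F.IsQ q → F.IsQ (n * q * n⁻¹) := fun {q} hq => ⟨S.conj_C hn hq.1, by
    have := (LargeData.commute_conj_iff' (g := n)).2 hq.2.1
    rwa [hna.eq, mul_inv_cancel_right] at this, by rw [conj_pow, hq.2.2]; simp⟩
  have hne : ∀ {q}, F.IsQ q → S.f q ≠ 1 → S.f (n * q * n⁻¹) ≠ 1 := by
    intro q hq' h1 e
    have h2 := S.hEPn n⁻¹ hn.1.inv_left _ ((S.f_eq_one_iff (S.C_le_H0 (hq hq').1)).1 e)
    rw [show n⁻¹ * (n * q * n⁻¹) * n⁻¹⁻¹ = q by group] at h2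
    exact h1 ((S.f_eq_one_iff (S.C_le_H0 hq'.1)).2 h2)
  have hninv : ∀ i, n * F.el i * n⁻¹ = F.el (2 * i) := by
    intro i
    have hnp : n * F.p * n⁻¹ = F.p ^ 2 := (S.outer_inverts hn hn0 F.hpP).trans
      (inv_eq_of_mul_eq_one_right (by rw [← pow_succ']; exact F.p_pow))
    rw [el, el, show n * (F.a * F.p ^ i) * n⁻¹ = (n * F.a * n⁻¹) * (n * F.p ^ i * n⁻¹) by group, hna.eq,
      mul_inv_cancel_right, ← conj_pow, hnp, ← pow_mul]
  have hkill : ∀ {q} i, F.Kills q i → F.Kills (n * q * n⁻¹) (2 * i) := by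
    intro q i hk x hx
    have hx' : n⁻¹ * x * n ∈ F.W i := by
      have := S.conj_fixE hn.1.inv_left hx
      rw [inv_inv] at this
      rwa [← hninv, show n⁻¹ * (n * F.el i * n⁻¹) * n = F.el i by group] at this
    have := (LargeData.commute_conj_iff' (g := n)).2 (hk _ hx')
    rwa [show n * (n⁻¹ * x * n) * n⁻¹ = x by group] at this
  have h0 : S.f (n * F.t0 * n⁻¹) = S.f F.t0 :=
    (F.t0_unique (hq F.t0_q) (hkill 0 fun x hx => F.t0_W hx)).resolve_left (hne F.t0_q F.t0_ne)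
  have hW3 : ∀ q, F.Kills q 3 → F.Kills q 0 := fun q hq x hx => hq x (by rwa [F.W_one (by norm_num)])
  -- the second kernel goes to the third
  have h1 : S.f (n * F.t1 * n⁻¹) = S.f F.t0 * S.f F.t1 := by
    have hk := hW3 _ (F.kills_conj (hkill 1 F.t1_kills))
    have hQ := F.q_conj_b (hq F.t1_q)
    have ef : S.f (F.b * (n * F.t1 * n⁻¹) * F.b⁻¹) = S.f F.b * S.f (n * F.t1 * n⁻¹) * (S.f F.b)⁻¹ :=
      S.f_conj_C F.hbC (hq F.t1_q).1
    rcases F.t0_unique hQ hk with e | e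
    · exfalso
      rw [ef, conj_eq_one_iff] at e
      exact hne F.t1_q f1 e
    · rcases f4 _ (hq F.t1_q) with r | r | r | r
      · exact absurd r (hne F.t1_q f1)
      · exfalso
        rw [ef, r, ← S.f_conj_C F.hbC F.t0_q.1] at e
        exact f2 e
      · exfalso
        rw [ef, r, ← S.f_conj_C F.hbC F.t1_q.1, f3] at e
        exact f1 (mul_eq_left.1 e)
      · exact r
  refine ⟨h0, fun q hqq q1 q2 => ?_⟩
  have hc := F.q_fcomm F.t0_q F.t1_q
  have st := F.q_sq_one F.t0_q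
  have hs : ∀ {g}, F.IsQ g → S.f g = S.f F.t0 * S.f F.t1 → S.f (n * g * n⁻¹) = S.f F.t1 := by
    intro g hg e
    have hprod := F.q_mul F.t0_q F.t1_q
    have hm : S.f (n * g * n⁻¹) = S.f (n * (F.t0 * F.t1) * n⁻¹) := by
      rcases F.q_eq hprod hg (by rw [S.f_mul_C F.t0_q.1 F.t1_q.1, e]) with r | r
      · rw [r]
      · rw [r, show n * (F.t0 * F.t1 * S.z) * n⁻¹ = (n * (F.t0 * F.t1) * n⁻¹) * (n * S.z * n⁻¹) by group,
          hn.1.eq, mul_inv_cancel_right, S.f_mul_C (hq hprod).1 S.z_mem_C,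
          (S.f_eq_one_iff S.z_mem_H0).2 (Subgroup.mem_sup_left S.hE.z_mem), mul_one]
    rw [hm, show n * (F.t0 * F.t1) * n⁻¹ = (n * F.t0 * n⁻¹) * (n * F.t1 * n⁻¹) by group,
      S.f_mul_C (hq F.t0_q).1 (hq F.t1_q).1, h0, h1, ← mul_assoc, st, one_mul]
  rcases f4 q hqq with r | r | r | r
  · exact absurd r q1
  · exact absurd r q2
  · rw [r, ← hc.eq, ← h1]
    rcases F.q_eq F.t1_q hqq r.symm with s | s
    · rw [s]
    · rw [s, show n * (F.t1 * S.z) * n⁻¹ = (n * F.t1 * n⁻¹) * (n * S.z * n⁻¹) by group, hn.1.eq,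
        mul_inv_cancel_right, S.f_mul_C (hq F.t1_q).1 S.z_mem_C,
        (S.f_eq_one_iff S.z_mem_H0).2 (Subgroup.mem_sup_left S.hE.z_mem), mul_one]
  · rw [hs hqq r, r, hc.eq, mul_assoc, st, mul_one]

/-- A 3-element of `E ⊔ ⟨y⟩` is conjugate into `⟨y⟩`. -/
theorem conj_into {y x : G} (hyz : Commute y S.z) (hy : y ^ 3 = 1) (hy1 : y ≠ 1) {e : G} (he : e ∈ S.E)
    (hx : x = e * y) (hx3 : x ^ 3 = 1) (hx1 : x ≠ 1) : ∃ d ∈ S.E, d * x * d⁻¹ ∈ Subgroup.zpowers y := by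
  haveI : Fact (Nat.Prime 3) := ⟨Nat.prime_three⟩
  set Y := Subgroup.zpowers y with hY
  have hYn : Y ≤ Subgroup.normalizer (S.E : Set G) := Subgroup.zpowers_le.2
    (S.hE.hnorm (mem_centralizer_singleton_iff'.2 hyz.eq))
  set K := Y ⊔ S.E with hK
  have hyo : orderOf y = 3 := orderOf_eq_prime hy hy1
  have hxo : orderOf x = 3 := orderOf_eq_prime hx3 hx1
  have hYc : Nat.card Y = 3 := by rw [hY, Nat.card_zpowers, hyo]
  have hdisj : ∀ w ∈ Y, w ∈ S.E → w = 1 := by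
    intro w hw hwE
    have a : orderOf (⟨w, hw⟩ : Y) ∣ 3 := hYc ▸ orderOf_dvd_natCard _
    have b : orderOf (⟨w, hwE⟩ : S.E) ∣ 2 ^ 13 := S.hcard ▸ orderOf_dvd_natCard _
    rw [← Subgroup.orderOf_coe] at a b
    exact orderOf_eq_one_iff.1 (Nat.eq_one_of_dvd_coprimes (by norm_num) a b)
  have hKc : Nat.card K = 3 * 2 ^ 13 := by
    have hbij : Function.Bijective (fun q : ↥Y × ↥S.E =>
        (⟨q.1 * q.2, mul_mem (Subgroup.mem_sup_left q.1.2) (Subgroup.mem_sup_right q.2.2)⟩ : ↥K)) := by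
      constructor
      · rintro ⟨q, d⟩ ⟨q', d'⟩ h
        have h' : (q : G) * d = q' * d' := congrArg Subtype.val h
        have hq : (q' : G)⁻¹ * q = d' * (d : G)⁻¹ := by
          calc (q' : G)⁻¹ * q = (q' : G)⁻¹ * (q * d) * (d : G)⁻¹ := by group
            _ = _ := by rw [h']; group
        have h1 := hdisj _ (mul_mem (inv_mem q'.2) q.2) (hq ▸ mul_mem d'.2 (inv_mem d.2))
        have hqq : (q : G) = q' := (inv_mul_eq_one.1 h1).symm
        rw [hqq] at h'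
        exact Prod.ext (Subtype.ext hqq) (Subtype.ext (mul_left_cancel h'))
      · rintro ⟨k, hk⟩
        obtain ⟨q, hq, d, hd, rfl⟩ := (CfsgLib.Core.mem_sup_iff_mul hYn).1 hk
        exact ⟨(⟨q, hq⟩, ⟨d, hd⟩), rfl⟩
    rw [← Nat.card_congr (Equiv.ofBijective _ hbij), Nat.card_prod, hYc, S.hcard]
  have hf : (Nat.card K).factorization 3 = 1 := by
    rw [hKc, Nat.factorization_mul (by norm_num) (by norm_num), Finsupp.add_apply,
      Nat.Prime.factorization_self Nat.prime_three, Nat.factorization_eq_zero_of_not_dvd (by norm_num)]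
  let P₀ : Sylow 3 K := Sylow.ofCard (Y.subgroupOf K) (by
    rw [Nat.card_congr (Subgroup.subgroupOfEquivOfLe (le_sup_left : Y ≤ K)).toEquiv, hYc, hf, pow_one])
  have hxK : x ∈ K := hx ▸ mul_mem (Subgroup.mem_sup_right he) (Subgroup.mem_sup_left (Subgroup.mem_zpowers y))
  obtain ⟨k, hk, hke⟩ := CfsgLib.Core.exists_conj_of_card_eq P₀ (Q := Subgroup.zpowers x) (Subgroup.zpowers_le.2 hxK)
    (by rw [Nat.card_zpowers, hxo, Sylow.coe_ofCard, Subgroup.map_subgroupOf_eq_of_le le_sup_left, hYc])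
  rw [Sylow.coe_ofCard, Subgroup.map_subgroupOf_eq_of_le le_sup_left, CfsgLib.Core.conj_smul_eq_map] at hke
  obtain ⟨q0, hq0, hq0x⟩ : x ∈ Y.map (MulAut.conj k).toMonoidHom := hke ▸ Subgroup.mem_zpowers x
  obtain ⟨q, hq, d, hd, hkd⟩ := (CfsgLib.Core.mem_sup_iff_mul hYn).1 (inv_mem hk)
  refine ⟨d, hd, ?_⟩
  rw [← hq0x, show (MulAut.conj k).toMonoidHom q0 = k * q0 * k⁻¹ from rfl,
    show k = d⁻¹ * q⁻¹ by rw [← inv_inv k, hkd]; group,
    show d * (d⁻¹ * q⁻¹ * q0 * (d⁻¹ * q⁻¹)⁻¹) * d⁻¹ = q⁻¹ * q0 * q by group]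
  exact mul_mem (mul_mem (inv_mem hq) hq0) hq

/-- Elements of order three outside `E ⊔ P` are conjugate to `a`. -/
theorem three_classify_H {x : G} (hxz : Commute x S.z) (hx3 : x ^ 3 = 1) (hx : x ∉ S.E ⊔ S.P) :
    ∃ h, Commute h S.z ∧ h * x * h⁻¹ = F.a := by
  haveI : Fact (Nat.Prime 3) := ⟨Nat.prime_three⟩
  have hx1 : x ≠ 1 := fun e => hx (e ▸ one_mem _)
  have hx0 : x ∈ S.H0 := S.mem_of_odd hxz (by rw [orderOf_eq_prime hx3 hx1]; decide)
  have hne : S.f x ≠ 1 := fun e => hx ((S.f_eq_one_iff hx0).1 e)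
  have h3 : S.f x ^ 3 = 1 := by rw [← S.f_pow hx0, hx3, S.f_one]
  obtain ⟨g, hg⟩ := isConj_iff.1 (F.hcfg.hthree _ (orderOf_eq_prime h3 hne))
  obtain ⟨c, hc, rfl⟩ := S.exists_C g
  have hc0 := S.C_le_H0 hc
  have hcz := commute_z hc
  set x' := c * x * c⁻¹ with hx'
  have hx'0 : x' ∈ S.H0 := mul_mem (mul_mem hc0 hx0) (inv_mem hc0)
  have hfx' : S.f x' = S.f F.a := by rw [hx', S.f_conj hc0 hx0, hg]
  have hk : x' * F.a⁻¹ ∈ S.E ⊔ S.P := (S.f_eq_one_iff (mul_mem hx'0 (inv_mem (S.C_le_H0 F.haC)))).1 (by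
    rw [S.f_mul hx'0 (inv_mem (S.C_le_H0 F.haC)), S.f_inv_C F.haC, hfx', mul_inv_cancel])
  obtain ⟨q, hq, e, he, hqe⟩ := S.mem_EP.1 hk
  obtain ⟨i, rfl⟩ := F.P_eq hq
  have heq : x' = (F.p ^ i * e * (F.p ^ i)⁻¹) * F.el i := by
    rw [el, (F.commute_p F.haC).pow_right i |>.eq,
      show F.p ^ i * e * (F.p ^ i)⁻¹ * (F.p ^ i * F.a) = F.p ^ i * e * F.a by group, ← hqe, inv_mul_cancel_right]
  have he' : F.p ^ i * e * (F.p ^ i)⁻¹ ∈ S.E :=
    S.hE.conj_mem ((S.P_commute_z F.hpP).pow_left i) he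
  have hx'3 : x' ^ 3 = 1 := by rw [hx', conj_pow, hx3]; simp
  have hx'1 : x' ≠ 1 := fun r => hx1 (conj_eq_one_iff.1 r)
  have hel1 : F.el i ≠ 1 := fun r => by
    have := congrArg S.f r
    rw [el, S.f_mul_C F.haC (pow_mem F.hpC i),
      (S.f_eq_one_iff (S.C_le_H0 (pow_mem F.hpC i))).2 (Subgroup.mem_sup_right (pow_mem F.hpP i)), mul_one,
      S.f_one] at this
    exact F.hab this
  obtain ⟨d, hd, hdx⟩ := conj_into (commute_z (F.el_mem i)) (F.el_pow i) hel1 he' heq hx'3 hx'1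
  have hdC : d * x' * d⁻¹ ∈ S.C := (Subgroup.zpowers_le.2 (F.el_mem i)) hdx
  have hd0 := S.hEH0 hd
  obtain ⟨c', hc', e'⟩ := F.three_classify hdC (by rw [conj_pow, hx'3]; simp) (by
    rw [S.f_conj hd0 hx'0, (S.f_eq_one_iff hd0).2 (Subgroup.mem_sup_left hd), hfx']
    simpa using F.hab)
  refine ⟨c' * d * c, ((commute_z hc').mul_left (S.hE.commute_z hd)).mul_left hcz, ?_⟩
  rw [show c' * d * c * x * (c' * d * c)⁻¹ = c' * (d * (c * x * c⁻¹) * d⁻¹) * c'⁻¹ by group, ← hx', e']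

/-- The normal form of an inner involution outside `E`. -/
theorem inner_involution {t : G} (ht0 : t ∈ S.H0) (ht : t * t = 1) (htE : t ∉ S.E) :
    ∃ h, Commute h S.z ∧ ∃ x ∈ F.W 0, h * t * h⁻¹ = x * F.t0 := by
  haveI : Fact (Nat.Prime 2) := ⟨Nat.prime_two⟩
  have hft : S.f t ≠ 1 := fun e => htE
    (S.two_mem_E ((S.f_eq_one_iff ht0).1 e) (n := 1) (by rw [pow_one, pow_two, ht]))
  have o1 : orderOf (S.f t) = 2 := orderOf_eq_prime (by rw [pow_two, ← S.f_mul ht0 ht0, ht, S.f_one]) hft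
  have o2 : orderOf (S.f F.t0) = 2 := orderOf_eq_prime (by rw [pow_two, F.q_sq_one F.t0_q]) F.t0_ne
  obtain ⟨g, hg⟩ := isConj_iff.1 ((F.hcfg.htwo _ o1).trans (F.hcfg.htwo _ o2).symm)
  obtain ⟨c, hc, rfl⟩ := S.exists_C g
  have hc0 := S.C_le_H0 hc
  set t' := c * t * c⁻¹ with ht'
  have ht'0 : t' ∈ S.H0 := mul_mem (mul_mem hc0 ht0) (inv_mem hc0)
  have ht'2 : t' * t' = 1 := by rw [ht', conj_mul, ht]; simp
  have hs0 := S.C_le_H0 F.t0_q.1
  have hsz := F.q_z F.t0_q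
  have hk : t' * F.t0⁻¹ ∈ S.E ⊔ S.P := (S.f_eq_one_iff (mul_mem ht'0 (inv_mem hs0))).1 (by
    rw [S.f_mul ht'0 (inv_mem hs0), S.f_inv_C F.t0_q.1, ht', S.f_conj hc0 ht0, hg, mul_inv_cancel])
  obtain ⟨q, hq, e, he, hqe⟩ := S.mem_EP.1 hk
  have et : t' = q * e * F.t0 := by rw [← hqe, inv_mul_cancel_right]
  have hsq : Commute F.t0 q := (S.mem_C.1 F.t0_q.1).2 q hq
  have htE2 : F.t0 * F.t0 ∈ S.E := by
    rcases F.q_sq F.t0_q with r | r <;> rw [r]
    exacts [one_mem _, S.hE.z_mem]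
  have hqz : Commute q S.z := S.P_commute_z hq
  have hqq : q * q ∈ S.E := by
    set A := (q * e * q⁻¹) * ((q * q) * (F.t0 * e * F.t0⁻¹) * (q * q)⁻¹) with hA
    have e2 : A * (q * q) * (F.t0 * F.t0) = 1 := by
      rw [← ht'2, et, hA]
      calc q * e * q⁻¹ * (q * q * (F.t0 * e * F.t0⁻¹) * (q * q)⁻¹) * (q * q) * (F.t0 * F.t0)
          = q * e * (q * F.t0) * e * F.t0 := by group
        _ = q * e * (F.t0 * q) * e * F.t0 := by rw [hsq.eq]
        _ = _ := by group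
    have hAE : A ∈ S.E := mul_mem (S.hE.conj_mem hqz he)
      (S.hE.conj_mem (hqz.mul_left hqz) (S.hE.conj_mem hsz he))
    have : q * q = A⁻¹ * (A * (q * q) * (F.t0 * F.t0)) * (F.t0 * F.t0)⁻¹ := by group
    rw [this, e2]
    exact mul_mem (mul_mem (inv_mem hAE) (one_mem _)) (inv_mem htE2)
  have hq1 : q = 1 := by
    have h1 := S.P_inf_E (mul_mem hq hq) hqq
    have h3 := S.P_pow_three hq
    rwa [pow_succ, pow_two, h1, one_mul] at h3
  rw [hq1, one_mul] at et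
  -- decompose along the planes
  obtain ⟨x, hx, y, hy, u, hu, rfl⟩ := F.decomp he
  set y' := F.t0 * y * F.t0⁻¹ with hy'
  set u' := F.t0 * u * F.t0⁻¹ with hu'
  have hy'W : y' ∈ F.W 1 := F.q_W F.t0_q hy
  have hu'W : u' ∈ F.W 2 := F.q_W F.t0_q hu
  have c01 : ∀ {r s : G}, r ∈ F.W 0 → s ∈ F.W 1 → Commute r s := fun a b => F.commute_W (by decide) a b
  have c02 : ∀ {r s : G}, r ∈ F.W 0 → s ∈ F.W 2 → Commute r s := fun a b => F.commute_W (by decide) a b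
  have c12 : ∀ {r s : G}, r ∈ F.W 1 → s ∈ F.W 2 → Commute r s := fun a b => F.commute_W (by decide) a b
  have hsx : F.t0 * x = x * F.t0 := (F.t0_W hx).eq
  have hprod : (y * y') * (u * u') = (x * x)⁻¹ * (F.t0 * F.t0)⁻¹ := by
    have e1 : x * y * u * F.t0 * (x * y * u * F.t0) = x * y * u * x * y' * u' * (F.t0 * F.t0) := by
      rw [show x * y * u * F.t0 * (x * y * u * F.t0) = x * y * u * (F.t0 * x) * y * u * F.t0 by group, hsx, hy', hu']
      group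
    rw [← et, ht'2] at e1
    have e2 : x * y * u * x * y' * u' = (x * x) * ((y * y') * (u * u')) := by
      calc x * y * u * x * y' * u' = x * ((y * u) * x) * y' * u' := by group
        _ = x * (x * (y * u)) * y' * u' := by rw [((c01 hx hy).mul_right (c02 hx hu)).eq]
        _ = x * x * y * (u * y') * u' := by group
        _ = x * x * y * (y' * u) * u' := by rw [(c12 hy'W hu).eq]
        _ = _ := by group
    rw [e2] at e1
    calc y * y' * (u * u') = (x * x)⁻¹ * (x * x * (y * y' * (u * u')) * (F.t0 * F.t0)) * (F.t0 * F.t0)⁻¹ := by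
          group
      _ = _ := by rw [← e1, mul_one]
  have hyz : y * y' = 1 ∨ y * y' = S.z := by
    refine S.hE.eq_or (F.center_W 1 (mul_mem hy hy'W) fun w hw => ?_)
    have h1 : Commute w ((x * x)⁻¹ * (F.t0 * F.t0)⁻¹) := by
      refine ((c01 hx hw).symm.mul_right (c01 hx hw).symm).inv_right.mul_right ?_
      rcases F.q_sq F.t0_q with r | r <;> rw [r]
      · exact (Commute.one_right w).inv_right
      · exact (S.hE.commute_z (S.mem_fixE.1 hw).1).inv_right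
    rw [← hprod] at h1
    have := h1.mul_right ((c12 hw hu).mul_right (c12 hw hu'W)).inv_right
    rwa [mul_inv_cancel_right] at this
  have hyi : y⁻¹ = y ∨ y⁻¹ = S.z * y := by
    rcases (F.plane 1).hsq y hy with r | r
    · exact Or.inl (inv_eq_of_mul_eq_one_left r)
    · exact Or.inr (inv_eq_of_mul_eq_one_left (by rw [mul_assoc, r, S.hE.mul_self_z]))
  have hui : u⁻¹ = u ∨ u⁻¹ = S.z * u := by
    rcases (F.plane 2).hsq u hu with r | r
    · exact Or.inl (inv_eq_of_mul_eq_one_left r)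
    · exact Or.inr (inv_eq_of_mul_eq_one_left (by rw [mul_assoc, r, S.hE.mul_self_z]))
  have huz : u * u' = 1 ∨ u * u' = S.z := by
    refine S.hE.eq_or (F.center_W 2 (mul_mem hu hu'W) fun w hw => ?_)
    have h1 : Commute w (y * y' * (u * u')) := by
      rw [hprod]
      refine ((c02 hx hw).symm.mul_right (c02 hx hw).symm).inv_right.mul_right ?_
      rcases F.q_sq F.t0_q with r | r <;> rw [r]
      · exact (Commute.one_right w).inv_right
      · exact (S.hE.commute_z (S.mem_fixE.1 hw).1).inv_right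
    have := ((c12 hy hw).symm.mul_right (c12 hy'W hw).symm).inv_right.mul_right h1
    rwa [inv_mul_cancel_left] at this
  have fix : ∀ {w w' : G}, w ∈ S.E → (w⁻¹ = w ∨ w⁻¹ = S.z * w) → (w * w' = 1 ∨ w * w' = S.z) →
      w' = w ∨ w' = S.z * w := by
    intro w w' hwE hi hp
    have e : w' = w⁻¹ ∨ w' = S.z * w⁻¹ := hp.imp eq_inv_of_mul_eq_one_right fun r => by
      rw [← (S.hE.commute_z (inv_mem hwE)).eq, ← r, inv_mul_cancel_left]
    rcases hi with r | r <;> rcases e with s | s <;> rw [r] at s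
    · exact Or.inl s
    · exact Or.inr s
    · exact Or.inr s
    · exact Or.inl (by rw [s, ← mul_assoc, S.hE.mul_self_z, one_mul])
  have cy := (F.plane 1).op_fix_exact (F.q_op F.t0_q 1) hy (fix (S.mem_fixE.1 hy).1 hyi hyz)
  have cu := (F.plane 2).op_fix_exact (F.q_op F.t0_q 2) hu (fix (S.mem_fixE.1 hu).1 hui huz)
  obtain ⟨r, hr, hyr⟩ := (F.plane 1).fix_image (F.q_op F.t0_q 1) (F.t0_moves (Or.inl rfl)) hy cy
  obtain ⟨s, hs, hus⟩ := (F.plane 2).fix_image (F.q_op F.t0_q 2) (F.t0_moves (Or.inr rfl)) hu cu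
  -- conjugate by `r * s`
  refine ⟨r * s * c, ((S.hE.commute_z (S.mem_fixE.1 hr).1).mul_left (S.hE.commute_z (S.mem_fixE.1 hs).1)).mul_left
    (commute_z hc), ?_⟩
  rw [show r * s * c * t * (r * s * c)⁻¹ = r * s * (c * t * c⁻¹) * (r * s)⁻¹ by group, ← ht', et]
  set r' := F.t0 * r * F.t0⁻¹ with hr'
  set s' := F.t0 * s * F.t0⁻¹ with hs'
  have hr'W : r' ∈ F.W 1 := F.q_W F.t0_q hr
  have hs'W : s' ∈ F.W 2 := F.q_W F.t0_q hs
  have e1 : r * s * (x * y * u * F.t0) * (r * s)⁻¹ = x * (r * y * r'⁻¹) * (s * u * s'⁻¹) * F.t0 := by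
    calc r * s * (x * y * u * F.t0) * (r * s)⁻¹
        = ((r * s) * x) * y * u * ((F.t0 * s * F.t0⁻¹)⁻¹ * (F.t0 * r * F.t0⁻¹)⁻¹) * F.t0 := by group
      _ = x * (r * (s * y) * (u * s'⁻¹) * r'⁻¹) * F.t0 := by
          rw [← ((c01 hx hr).mul_right (c02 hx hs)).eq, ← hr', ← hs']; group
      _ = x * (r * (y * s) * (u * s'⁻¹) * r'⁻¹) * F.t0 := by rw [(c12 hy hs).eq]
      _ = x * (r * y * ((s * (u * s'⁻¹)) * r'⁻¹)) * F.t0 := by group
      _ = x * (r * y * (r'⁻¹ * (s * (u * s'⁻¹)))) * F.t0 := by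
          rw [(c12 (inv_mem hr'W) (mul_mem hs (mul_mem hu (inv_mem hs'W)))).eq]
      _ = _ := by group
  rw [e1]
  -- both brackets are central
  have cen : ∀ {i : ℕ} {r r' y : G}, r ∈ F.W i → r' ∈ F.W i → (y = r * r' ∨ y = S.z * (r * r')) →
      r * y * r'⁻¹ ∈ Subgroup.zpowers S.z := by
    intro i r r' y hr hr' hy
    have hrr : r * r ∈ Subgroup.zpowers S.z := S.hE.sq_mem (S.mem_fixE.1 hr).1
    rcases hy with rfl | rfl
    · rw [show r * (r * r') * r'⁻¹ = r * r by group]; exact hrr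
    · rw [show r * (S.z * (r * r')) * r'⁻¹ = (r * S.z) * r by group, (S.hE.commute_z (S.mem_fixE.1 hr).1).eq,
        mul_assoc]
      exact mul_mem (Subgroup.mem_zpowers _) hrr
  refine ⟨x * ((r * y * r'⁻¹) * (s * u * s'⁻¹)), mul_mem hx (Subgroup.zpowers_le.2 (F.z_mem 0)
    (mul_mem (cen hr hr'W hyr) (cen hs hs'W hus))), by group⟩

theorem cent_a_card_le : ∀ X : Finset Grp, (∀ g ∈ X, Commute g (S.f F.a)) → X.card ≤ 36 := by
  classical
  intro X hX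
  let φ : Fin 2 × Fin 2 × Fin 3 × Fin 3 → Grp := fun q =>
    S.f F.v ^ (q.1 : ℕ) * S.f F.w ^ (q.2.1 : ℕ) * S.f F.b ^ (q.2.2.1 : ℕ) * S.f F.a ^ (q.2.2.2 : ℕ)
  have hsub : X ⊆ Finset.univ.image φ := by
    intro g hg
    obtain ⟨i, j, k, l, e⟩ := F.hcfg.hcent g (hX g hg)
    rw [Finset.mem_image]
    refine ⟨(⟨i % 2, by omega⟩, ⟨j % 2, by omega⟩, ⟨k % 3, by omega⟩, ⟨l % 3, by omega⟩), Finset.mem_univ _, ?_⟩
    show S.f F.v ^ (i % 2) * S.f F.w ^ (j % 2) * S.f F.b ^ (k % 3) * S.f F.a ^ (l % 3) = g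
    rw [← pow_eq_pow_mod i (show S.f F.v ^ 2 = 1 by rw [pow_two, F.hcfg.hv]),
      ← pow_eq_pow_mod j (show S.f F.w ^ 2 = 1 by rw [pow_two, F.hcfg.hw]),
      ← pow_eq_pow_mod k F.hcfg.hs, ← pow_eq_pow_mod l F.hcfg.hr, e]
  refine (Finset.card_le_card hsub).trans (Finset.card_image_le.trans ?_)
  simp

end Frame

end CfsgLib.JankoFour
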