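import Cfsg.Agent.Lib.JankoFour.M22Data
import Cfsg.Agent.Lib.Fusion.MathieuSimple
import Cfsg.Agent.Lib.Sporadic.MathieuTwoCentralizer
import Cfsg.Agent.Lib.Sporadic.MathieuAut
import Cfsg.Agent.Lib.Sporadic.OctadStab
import Cfsg.Agent.Lib.Sporadic.Census
import Cfsg.Agent.Lib.Sporadic.MathieuTwoTwoAut

/-!
# Local facts about the Mathieu group on 22 points (owner: helper14)

One class of involutions, one class of elements of order three and their centralizers, the 2-rank, and
elements of order 7 and 11 centralize no involution.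
-/

set_option autoImplicit false

namespace CfsgLib.JankoFour.M22

open Cfsg CfsgLib.Sporadic CfsgLib.Sporadic.MathieuAut MulAction
open scoped Pointwise

/-- The group. -/
abbrev Grp : Type := ↥Spor.M22

local notation "M" => Grp

/-- The packed number is that of the element. -/
def RepM (g : M) (p : ℕ) : Prop := Rep (g : Equiv.Perm GolayPt) p

theorem repM_mul {g h : M} {p q : ℕ} (a : RepM g p) (b : RepM h q) : RepM (g * h) (pmul p q) := a.mul b

theorem eq_of_packed {g h g' h' : M} {p q p' q' : ℕ} (a : RepM g p) (b : RepM h q) (a' : RepM g' p')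
    (b' : RepM h' q') (e : Nat.beq (pmul p q) (pmul p' q') = true) : g * h = g' * h' :=
  Subtype.ext (Fusion.Cert.eq_of_beq (a.mul b) (a'.mul b') e)

theorem exists_repM {p : ℕ} (h : Fusion.in22 p = true) : ∃ g : M, RepM g p := by
  obtain ⟨σ, hσ, hr⟩ := Fusion.in22_sound p h
  exact ⟨⟨σ, hσ⟩, hr⟩

theorem fix23 (g : M) : (g : Equiv.Perm GolayPt) none = none := (M22Aut.mem_M22.1 g.2).2.1

theorem fix0 (g : M) : (g : Equiv.Perm GolayPt) (some 0) = some 0 := (M22Aut.mem_M22.1 g.2).2.2

/-- The element as one of M24. -/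
def up (g : M) : ↥M24 := ⟨g, (M22Aut.mem_M22.1 g.2).1⟩

theorem up_mul (g h : M) : up (g * h) = up g * up h := rfl

theorem up_injective : Function.Injective up := fun _ _ h => Subtype.ext (congrArg (fun x : ↥M24 => (x : Equiv.Perm GolayPt)) h)


/-! ### elements of order 7 and 11 -/

theorem not_commute_seven_eleven {x t : M} (hx : orderOf x = 7 ∨ orderOf x = 11) (ht : orderOf t = 2) :
    ¬ Commute x t := by
  intro hc
  have hox : orderOf (up x) = orderOf x :=
    orderOf_injective (MonoidHom.mk' up up_mul) up_injective x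
  have ht2 : up t * up t = 1 := by
    rw [← up_mul, ← pow_two, ← ht, pow_orderOf_eq_one]; rfl
  have ht1 : up t ≠ 1 := fun e => by
    rw [show t = 1 from up_injective (e.trans rfl), orderOf_one] at ht
    omega
  obtain ⟨o, ho, hoi⟩ := fixed_eq_octad ht2 ht1 (a := (none : GolayPt)) (fix23 t)
  have h0 : (none : GolayPt) ∈ o := (hoi _).1 (fix23 t)
  have h1 : (some 0 : GolayPt) ∈ o := (hoi _).1 (fix0 t)
  have hinv : ∀ z ∈ o, up x • z ∈ o := fun z hz => by
    rw [← hoi] at hz ⊢
    rw [← mul_smul, ← up_mul, ← hc.eq, up_mul, mul_smul, hz]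
  have hall : ∀ q : ℕ, q.Prime → (q = 7 ∨ q = 11) → orderOf x = q → False := by
    intro q hq hq' hxq
    haveI := Fact.mk hq
    have hm := fixed_modEq (hox.trans hxq) o hinv
    have hle : (o.filter fun z => up x • z = z).card ≤ 8 := ho.2 ▸ Finset.card_filter_le _ _
    have hge : 2 ≤ (o.filter fun z => up x • z = z).card :=
      (show ({none, some 0} : Finset GolayPt).card = 2 from rfl) ▸ Finset.card_le_card (fun z hz => by
        simp only [Finset.mem_insert, Finset.mem_singleton] at hz
        rw [Finset.mem_filter]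
        rcases hz with rfl | rfl
        exacts [⟨h0, fix23 x⟩, ⟨h1, fix0 x⟩])
    rw [ho.2, Nat.ModEq] at hm
    have h8 : (o.filter fun z => up x • z = z).card = 8 := by
      rcases hq' with rfl | rfl <;> omega
    have hfix : ∀ z ∈ o, up x • z = z := fun z hz => by
      have := Finset.eq_of_subset_of_card_le (Finset.filter_subset (fun z => up x • z = z) o)
        (by rw [ho.2, h8])
      exact (Finset.mem_filter.1 (this.symm ▸ hz : z ∈ o.filter fun z => up x • z = z)).2
    have hsq := sq_eq_one_of_fix ho hfix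
    have h2 : orderOf x ∣ 2 := by
      rw [← hox]; exact orderOf_dvd_of_pow_eq_one (by first | exact hsq | rw [pow_two]; exact hsq)
    have := Nat.le_of_dvd (by norm_num) h2
    rcases hq' with rfl | rfl <;> omega
  rcases hx with h | h
  exacts [hall 7 (by norm_num) (Or.inl rfl) h, hall 11 (by norm_num) (Or.inr rfl) h]

/-! ### a Sylow 2-subgroup -/

/-- The listed 128 elements. -/
noncomputable def sylowList : List ℕ := Fusion.Cert.elems Fusion.g22 7

theorem exists_sylow : ∃ S : Sylow 2 M, (∀ g : M, g ∈ (S : Subgroup M) ↔ ∃ p ∈ sylowList, RepM g p) ∧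
    ∀ p ∈ sylowList, Fusion.Cert.Canon p := by
  haveI : Fact (Nat.Prime 2) := ⟨Nat.prime_two⟩
  have hchk := Fusion.chk22
  simp only [Fusion.Cert.chk, Bool.and_eq_true, Bool.or_eq_true, Nat.blt_eq, Nat.beq_eq,
    forallLt_iff] at hchk
  obtain ⟨⟨⟨⟨⟨-, -⟩, hpc⟩, -⟩, -⟩, -⟩ := hchk
  have hex : ∀ j, ∃ τ : Equiv.Perm GolayPt, j < 7 → τ ∈ Spor.M22 ∧ Rep τ (Fusion.g22.getD j pone) := by
    intro j
    by_cases h : j < 7
    · obtain ⟨τ, h1, h2⟩ := Fusion.in22_sound _ (hpc j h).1.1
      exact ⟨τ, fun _ => ⟨h1, h2⟩⟩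
    · exact ⟨1, fun h' => absurd h' h⟩
  choose σ hσ using hex
  have hL : ∀ j, j ≤ 7 → Fusion.Cert.Listed Fusion.g22 σ j := by
    intro j
    induction j with
    | zero => exact fun _ => Fusion.Cert.listed_zero
    | succ j ih =>
      exact fun hj => Fusion.Cert.listed_succ (ih (by omega)) (hσ j (by omega)).2
        (fun i hi => (hσ i (by omega)).2) (hpc j (by omega)).1.2 (hpc j (by omega)).2
  obtain ⟨hmem, hrep, hcard⟩ := hL 7 le_rfl
  have hle : Fusion.Cert.genPerm σ 7 ≤ Spor.M22 := by
    rw [Fusion.Cert.genPerm, Subgroup.closure_le]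
    rintro _ ⟨i, hi, rfl⟩
    exact (hσ i hi).1
  have hc : Nat.card ((Fusion.Cert.genPerm σ 7).subgroupOf Spor.M22) = 2 ^ 7 :=
    (Nat.card_congr (Subgroup.subgroupOfEquivOfLe hle).toEquiv).trans hcard
  have hf : (Nat.card M).factorization 2 = 7 := by
    rw [card_sporM22, show (443520 : ℕ) = 2 ^ 7 * 3465 from rfl, Nat.factorization_mul (by norm_num) (by norm_num),
      Finsupp.add_apply, Nat.Prime.factorization_pow Nat.prime_two, Finsupp.single_eq_same,
      Nat.factorization_eq_zero_of_not_dvd (by norm_num)]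
  refine ⟨Sylow.ofCard _ (by rw [hc, hf]), fun g => ?_, fun p hp => (hrep p hp).choose_spec.2⟩
  rw [Sylow.coe_ofCard]
  exact hmem (g : Equiv.Perm GolayPt)

/-! ### involutions -/

theorem two_ok : twoCerts.all (fun e => Fusion.in22 e.2 && Nat.beq (pmul e.2 e.1) (pmul pv e.2)) = true ∧
    (Fusion.Cert.elems Fusion.g22 7).all (fun p => ! Nat.beq (pmul p p) pone || Nat.beq p pone ||
      (twoCerts.map Prod.fst).any (Nat.beq p)) = true := by
  decide +kernel

theorem isConj_pv {v : M} (hv : RepM v pv) {t : M} (ht : orderOf t = 2) : IsConj t v := by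
  haveI : Fact (Nat.Prime 2) := ⟨Nat.prime_two⟩
  obtain ⟨S, hS, hcan⟩ := exists_sylow
  obtain ⟨S', hS'⟩ := (IsPGroup.of_card (G := Subgroup.zpowers t) (n := 1)
    (by rw [Nat.card_zpowers, ht, pow_one])).exists_le_sylow
  obtain ⟨c, hc⟩ := MulAction.exists_smul_eq M S' S
  have hmem : c * t * c⁻¹ ∈ (S : Subgroup M) := by
    rw [← hc, Sylow.coe_subgroup_smul]
    exact Subgroup.smul_mem_pointwise_smul t (MulAut.conj c) _ (hS' (Subgroup.mem_zpowers t))
  obtain ⟨p, hp, hpr⟩ := (hS _).1 hmem
  have h2 : c * t * c⁻¹ * (c * t * c⁻¹) = 1 := by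
    rw [conj_mul, ← pow_two, ← ht, pow_orderOf_eq_one]; simp
  have h1 : c * t * c⁻¹ ≠ 1 := fun e => by
    rw [conj_eq_one_iff.1 e, orderOf_one] at ht; omega
  obtain ⟨hok, hall⟩ := two_ok
  rw [List.all_eq_true] at hok hall
  have hp' := hall p hp
  simp only [Bool.or_eq_true, Bool.not_eq_true'] at hp'
  rcases hp' with (h | h) | h
  · rw [(Fusion.Cert.beq_pone_iff hpr hpr).2 (congrArg Subtype.val h2)] at h
    exact absurd h (by simp)
  · rw [Nat.eq_of_beq_eq_true h] at hpr
    exact absurd (Subtype.ext (Sporadic.Rep.unique hpr Rep.one)) h1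
  · rw [List.any_eq_true] at h
    obtain ⟨q, hq, hqp⟩ := h
    obtain ⟨e, he, rfl⟩ := List.mem_map.1 hq
    have hok' := hok e he
    rw [Bool.and_eq_true] at hok'
    obtain ⟨d, hd⟩ := exists_repM hok'.1
    rw [← Nat.eq_of_beq_eq_true hqp] at hok'
    have key := eq_of_packed hd hpr hv hd hok'.2
    refine isConj_iff.2 ⟨d * c, ?_⟩
    calc d * c * t * (d * c)⁻¹ = d * (c * t * c⁻¹) * d⁻¹ := by group
      _ = v := by rw [key, mul_inv_cancel_right]

/-! ### the 2-rank -/

/-- No chain of `d` commuting independent candidates, chosen in list order. -/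
noncomputable def noChain (d : ℕ) : List ℕ → List ℕ → Bool :=
  Nat.rec (fun _ _ => false) (fun k ih cand span => List.rec true (fun x rest r => r &&
    (Fusion.Cert.memL x span ||
      Nat.blt (Fusion.Cert.filterL rest (Fusion.Cert.comm x)).length ((2 ^ k - 1) * (2 * span.length)) ||
      ih (Fusion.Cert.filterL rest (Fusion.Cert.comm x)) (span ++ span.map fun s => pmul s x))) cand) d

theorem rank_ok : noChain 5 (Fusion.Cert.filterL (Fusion.Cert.elems Fusion.g22 7) fun p =>
    Nat.beq (pmul p p) pone && ! Nat.beq p pone) [pone] = true := by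
  decide +kernel

theorem card_lt_of_noChain {A : Subgroup M} (hab : ∀ a ∈ A, ∀ b ∈ A, a * b = b * a)
    (hsq : ∀ a ∈ A, a * a = 1) :
    ∀ (d : ℕ) (cand span : List ℕ) (S : Subgroup M), S ≤ A →
      (∀ p ∈ span, ∃ g ∈ S, RepM g p) → span.length = Nat.card S → (∀ p ∈ cand, Fusion.Cert.Canon p) →
      (∀ p ∈ span, Fusion.Cert.Canon p) →
      (∀ g ∈ A, g ≠ 1 → g ∈ S ∨ ∃ p ∈ cand, RepM g p) →
      noChain d cand span = true → Nat.card A < 2 ^ d * Nat.card S := by
  intro d
  induction d with
  | zero => intro cand span S _ _ _ _ _ _ h; exact absurd h (by simp [noChain])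
  | succ d ih =>
    intro cand span S hSA hspan hlen hcc hcs hcand h
    induction cand with
    | nil =>
      by_contra hlt
      rw [not_lt] at hlt
      have hAS : A = S := le_antisymm (fun g hg => by
        by_cases hg1 : g = 1
        · exact hg1 ▸ one_mem S
        · exact (hcand g hg hg1).resolve_right (by simp)) hSA
      have hpos : 0 < Nat.card S := Nat.card_pos
      rw [hAS] at hlt
      have h2 : 2 ≤ 2 ^ (d + 1) := by
        calc 2 = 2 ^ 1 := rfl
          _ ≤ 2 ^ (d + 1) := Nat.pow_le_pow_right (by norm_num) (by omega)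
      nlinarith
    | cons x rest ihl =>
    have h' : (noChain (d + 1) rest span && (Fusion.Cert.memL x span ||
        Nat.blt (Fusion.Cert.filterL rest (Fusion.Cert.comm x)).length ((2 ^ d - 1) * (2 * span.length)) ||
        noChain d (Fusion.Cert.filterL rest (Fusion.Cert.comm x)) (span ++ span.map fun s => pmul s x))) =
        true := h
    rw [Bool.and_eq_true] at h'
    by_cases hx : ∃ a ∈ A, a ∉ S ∧ RepM a x
    swap
    · refine ihl (fun p hp => hcc p (List.mem_cons_of_mem _ hp)) (fun g hg hg1 => ?_) h'.1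
      rcases hcand g hg hg1 with hgS | ⟨p, hp, hpr⟩
      · exact Or.inl hgS
      · rcases List.mem_cons.1 hp with rfl | hp
        · exact Or.inl (not_not.1 fun hgS => hx ⟨g, hg, hgS, hpr⟩)
        · exact Or.inr ⟨p, hp, hpr⟩
    obtain ⟨a, haA, haS, hxr⟩ := hx
    by_contra hlt
    rw [not_lt] at hlt
    have hstep := h'.2
    let S' : Subgroup M :=
      { carrier := {g | g ∈ S ∨ g * a ∈ S}
        one_mem' := Or.inl (one_mem S)
        mul_mem' := by
          rintro g k (hg | hg) (hk | hk)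
          · exact Or.inl (mul_mem hg hk)
          · exact Or.inr (by rw [mul_assoc]; exact mul_mem hg hk)
          · refine Or.inr ?_
            have hkA : k ∈ A := hSA hk
            rw [mul_assoc, hab k hkA a haA, ← mul_assoc]
            exact mul_mem hg hk
          · refine Or.inl ?_
            have hkA : k ∈ A := by
              have := mul_mem (hSA hk) (inv_mem haA)
              simpa using this
            have e : g * a * (k * a) = g * k := by
              calc g * a * (k * a) = g * (a * k) * a := by group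
                _ = g * (k * a) * a := by rw [hab a haA k hkA]
                _ = g * k * (a * a) := by group
                _ = g * k := by rw [hsq a haA, mul_one]
            exact e ▸ mul_mem hg hk
        inv_mem' := by
          rintro g (hg | hg)
          · exact Or.inl (inv_mem hg)
          · refine Or.inr ?_
            have hgA : g ∈ A := by
              have := mul_mem (hSA hg) (inv_mem haA)
              simpa using this
            rw [show g⁻¹ = g from inv_eq_of_mul_eq_one_left (hsq g hgA)]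
            exact hg }
    have hS'A : S' ≤ A := by
      rintro g (hg | hg)
      · exact hSA hg
      · have := mul_mem (hSA hg) (inv_mem haA)
        simpa using this
    have hSS' : S < S' := lt_of_le_of_ne (fun g hg => Or.inl hg) fun e =>
      haS (e ▸ (Or.inr (by rw [hsq a haA]; exact one_mem S) : a ∈ S'))
    have hcard' : 2 * Nat.card S ≤ Nat.card S' := by
      obtain ⟨k, hk⟩ := Subgroup.card_dvd_of_le hSS'.le
      rcases k with _ | _ | k
      · have : 0 < Nat.card S' := Nat.card_pos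
        omega
      · exact absurd (Subgroup.eq_of_le_of_card_ge hSS'.le (by omega)) hSS'.ne
      · rw [hk, mul_comm]
        exact Nat.mul_le_mul_left _ (by omega)
    have hup : Nat.card S' ≤ 2 * Nat.card S := by
      classical
      let f : ↥S × Bool → ↥S' := fun q => cond q.2 ⟨q.1 * a, Or.inr (by
        show (q.1 : M) * a * a ∈ S
        rw [mul_assoc, hsq a haA, mul_one]; exact q.1.2)⟩ ⟨q.1, Or.inl q.1.2⟩
      have hf : Function.Surjective f := by
        rintro ⟨g, hg | hg⟩
        · exact ⟨(⟨g, hg⟩, false), rfl⟩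
        · exact ⟨(⟨g * a, hg⟩, true), Subtype.ext (by show g * a * a = g; rw [mul_assoc, hsq a haA, mul_one])⟩
      refine (Nat.card_le_card_of_surjective f hf).trans ?_
      rw [Nat.card_prod, Nat.card_eq_fintype_card (α := Bool), Fintype.card_bool, mul_comm]
    have hrest : ∀ g ∈ A, g ∉ S' → ∃ p ∈ Fusion.Cert.filterL rest (Fusion.Cert.comm x), RepM g p := by
      intro g hgA hgS'
      have hg1 : g ≠ 1 := fun e => hgS' (e ▸ one_mem S')
      rcases hcand g hgA hg1 with hgS | ⟨p, hp, hpr⟩
      · exact absurd (Or.inl hgS) hgS'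
      · rcases List.mem_cons.1 hp with rfl | hp
        · exfalso
          refine hgS' ?_
          rw [show g = a from Subtype.ext (Sporadic.Rep.unique hpr hxr)]
          exact Or.inr (by rw [hsq a haA]; exact one_mem S)
        · refine ⟨p, Fusion.Cert.mem_filterL.2 ⟨hp, ?_⟩, hpr⟩
          exact (Fusion.Cert.beq_pmul_iff hxr hpr hpr hxr).2 (congrArg Subtype.val (hab a haA g hgA))
    have hlen' : (span ++ span.map fun s => pmul s x).length = Nat.card S' := by
      rw [List.length_append, List.length_map, hlen]; omega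
    rw [Bool.or_eq_true, Bool.or_eq_true] at hstep
    rcases hstep with (hm | hsmall) | hgo
    · obtain ⟨g, hg, hgr⟩ := hspan x (Fusion.Cert.memL_iff.1 hm)
      exact haS ((Subtype.ext (Sporadic.Rep.unique hxr hgr) : a = g) ▸ hg)
    · classical
      rw [Nat.blt_eq] at hsmall
      set c' := Fusion.Cert.filterL rest (Fusion.Cert.comm x)
      let f : {g : ↥A // (g : M) ∉ S'} → ↥c'.toFinset := fun g =>
        ⟨(hrest _ g.1.2 g.2).choose, List.mem_toFinset.2 (hrest _ g.1.2 g.2).choose_spec.1⟩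
      have hf : Function.Injective f := fun g k e => by
        have e' : (hrest _ g.1.2 g.2).choose = (hrest _ k.1.2 k.2).choose := congrArg Subtype.val e
        have h1 := (hrest _ g.1.2 g.2).choose_spec.2
        rw [e'] at h1
        exact Subtype.ext (Subtype.ext (Subtype.ext (Sporadic.Rep.unique h1 (hrest _ k.1.2 k.2).choose_spec.2)))
      have hcardc : Nat.card {g : ↥A // (g : M) ∉ S'} ≤ c'.length := by
        refine (Nat.card_le_card_of_injective f hf).trans ?_
        rw [Nat.card_eq_fintype_card, Fintype.card_coe]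
        exact List.toFinset_card_le c'
      have hsplit : Nat.card A ≤ Nat.card S' + Nat.card {g : ↥A // (g : M) ∉ S'} := by
        let φ : ↥A → ↥S' ⊕ {g : ↥A // (g : M) ∉ S'} := fun g =>
          if hg : (g : M) ∈ S' then Sum.inl ⟨g, hg⟩ else Sum.inr ⟨g, hg⟩
        refine (Nat.card_le_card_of_injective φ fun g k e => ?_).trans (Nat.card_sum).le
        simp only [φ] at e
        split_ifs at e with h1 h2
        · simp only [Sum.inl.injEq, Subtype.mk.injEq] at e
          exact Subtype.ext e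
        · simpa using e
      rw [hlen] at hsmall
      have hp : 1 ≤ 2 ^ d := Nat.one_le_two_pow
      obtain ⟨m, hm⟩ := Nat.exists_eq_add_of_le hp
      rw [pow_succ, hm] at hlt
      rw [hm, Nat.add_sub_cancel_left] at hsmall
      nlinarith
    have hnew := ih (Fusion.Cert.filterL rest (Fusion.Cert.comm x)) (span ++ span.map fun s => pmul s x) S'
      hS'A (fun p hp => by
        rcases List.mem_append.1 hp with hp | hp
        · obtain ⟨g, hg, hgr⟩ := hspan p hp
          exact ⟨g, Or.inl hg, hgr⟩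
        · obtain ⟨s, hs, rfl⟩ := List.mem_map.1 hp
          obtain ⟨g, hg, hgr⟩ := hspan s hs
          exact ⟨g * a, Or.inr (by rw [mul_assoc, hsq a haA, mul_one]; exact hg), repM_mul hgr hxr⟩)
      hlen' (fun p hp => hcc p (List.mem_cons_of_mem _ (Fusion.Cert.mem_filterL.1 hp).1))
      (fun p hp => by
        rcases List.mem_append.1 hp with hp | hp
        · exact hcs p hp
        · obtain ⟨s, hs, rfl⟩ := List.mem_map.1 hp
          obtain ⟨g, -, hgr⟩ := hspan s hs
          exact Fusion.Cert.canon_pmul hgr hxr)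
      (fun g hgA _ => by
        by_cases hgS' : g ∈ S'
        · exact Or.inl hgS'
        · exact Or.inr (hrest g hgA hgS'))
      hgo
    have hpos : 0 < 2 ^ d := Nat.two_pow_pos d
    rw [pow_succ] at hlt
    nlinarith

theorem elementary_le_sixteen {A : Subgroup M} (hab : ∀ a ∈ A, ∀ b ∈ A, a * b = b * a)
    (hsq : ∀ a ∈ A, a * a = 1) : Nat.card A ≤ 16 := by
  haveI : Fact (Nat.Prime 2) := ⟨Nat.prime_two⟩
  obtain ⟨S, hS, hcan⟩ := exists_sylow
  have hp : IsPGroup 2 A := fun g => ⟨1, by
    rw [pow_one, pow_two]; exact Subtype.ext (hsq g g.2)⟩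
  obtain ⟨S', hS'⟩ := hp.exists_le_sylow
  obtain ⟨c, hc⟩ := MulAction.exists_smul_eq M S' S
  let B : Subgroup M := A.map (MulAut.conj c).toMonoidHom
  have hBS : B ≤ (S : Subgroup M) := by
    rintro _ ⟨g, hg, rfl⟩
    rw [← hc, Sylow.coe_subgroup_smul]
    exact Subgroup.smul_mem_pointwise_smul g (MulAut.conj c) _ (hS' hg)
  have hB : Nat.card B = Nat.card A := Subgroup.card_map_of_injective (MulAut.conj c).injective
  have h := card_lt_of_noChain (A := B)
    (by rintro _ ⟨g, hg, rfl⟩ _ ⟨k, hk, rfl⟩; rw [← map_mul, hab g hg k hk, map_mul])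
    (by rintro _ ⟨g, hg, rfl⟩; rw [← map_mul, hsq g hg, map_one])
    5 _ [pone] ⊥ bot_le
    (fun p hp => ⟨1, one_mem _, by rw [List.mem_singleton.1 hp]; exact Rep.one⟩) (by simp)
    (fun p hp => hcan p (Fusion.Cert.mem_filterL.1 hp).1)
    (fun p hp => by rw [List.mem_singleton.1 hp]; exact Fusion.Cert.canon_pone)
    (fun g hg hg1 => by
      obtain ⟨p, hp, hpr⟩ := (hS g).1 (hBS hg)
      refine Or.inr ⟨p, Fusion.Cert.mem_filterL.2 ⟨hp, ?_⟩, hpr⟩
      obtain ⟨g', hg', rfl⟩ := hg
      rw [Bool.and_eq_true, Bool.not_eq_true']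
      refine ⟨(Fusion.Cert.beq_pone_iff hpr hpr).2 ?_, Bool.eq_false_iff.2 fun e => hg1 ?_⟩
      · exact congrArg Subtype.val (show (MulAut.conj c).toMonoidHom g' * (MulAut.conj c).toMonoidHom g' = 1 by
          rw [← map_mul, hsq g' hg', map_one])
      · rw [Nat.eq_of_beq_eq_true e] at hpr
        exact Subtype.ext (Sporadic.Rep.unique hpr Rep.one))
    rank_ok
  rw [hB, Subgroup.card_bot] at h
  have h5 : Nat.card A < 32 := by simpa using h
  obtain ⟨n, hn⟩ := IsPGroup.iff_card.1 hp
  rw [hn] at h5 ⊢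
  have : n < 5 := (Nat.pow_lt_pow_iff_right (by norm_num : 1 < 2)).1 (by simpa using h5)
  calc (2 : ℕ) ^ n ≤ 2 ^ 4 := Nat.pow_le_pow_right (by norm_num) (by omega)
    _ = 16 := rfl

/-! ### elements of order three -/

theorem three_gens_ok : [pr, ps, pv, pw].all Fusion.in22 = true ∧
    Nat.beq (pmul pr (pmul pr pr)) pone = true ∧ Nat.beq pr pone = false ∧
    Nat.beq (pmul ps (pmul ps ps)) pone = true ∧
    Nat.beq (pmul pr ps) (pmul ps pr) = true ∧ Nat.beq (pmul pr pv) (pmul pv pr) = true ∧
    Nat.beq (pmul pr pw) (pmul pw pr) = true ∧ Nat.beq (pmul pv pw) (pmul pw pv) = true ∧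
    Nat.beq (pmul pv pv) pone = true ∧ Nat.beq (pmul pw pw) pone = true ∧
    Nat.beq (pmul ps pv) (pmul pw ps) = true ∧
    Nat.beq (pmul ps pw) (pmul (pmul pv pw) ps) = true ∧
    Nat.beq pv pone = false ∧ Nat.beq pw pone = false ∧ Nat.beq pv pw = false ∧
    [1, 2, 3, 4].all (fun i => Nat.beq (pget pr i) i) = true ∧
    Nat.beq (pget pv 1) 2 = true ∧ Nat.beq (pget pw 1) 3 = true ∧ Nat.beq (pget (pmul pv pw) 1) 4 = true ∧
    Nat.beq (pget ps 1) 1 = true ∧ Nat.beq (pget ps 2) 3 = true ∧ Nat.beq (pget (pmul ps ps) 2) 4 = true := by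
  decide +kernel

/-- The configuration of the centralizer of an element of order three. -/
structure Config (r s v w : M) : Prop where
  hr : r ^ 3 = 1
  hr1 : r ≠ 1
  hs : s ^ 3 = 1
  hrs : Commute r s
  hrv : Commute r v
  hrw : Commute r w
  hvw : Commute v w
  hv : v * v = 1
  hw : w * w = 1
  hsv : s * v * s⁻¹ = w
  hsw : s * w * s⁻¹ = v * w
  hv1 : v ≠ 1
  hw1 : w ≠ 1
  hne : v ≠ w
  hcent : ∀ u : M, Commute u r → ∃ i j k l : ℕ, u = v ^ i * w ^ j * s ^ k * r ^ l
  hthree : ∀ x : M, orderOf x = 3 → IsConj x r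
  htwo : ∀ t : M, orderOf t = 2 → IsConj t v

theorem three_cycle_ok : Nat.beq (popc 8536111) 8 = true ∧ inCode 8536111 = true ∧
    Nat.beq (pget pr 5) 14 = true ∧ Nat.beq (pget pr 14) 17 = true ∧
    forallLt 24 (fun i => (Nat.beq (bitAt 8536111 i) 1) == [23, 0, 1, 2, 3, 5, 14, 17].elem i) = true ∧
    forallLt 24 (fun i => Nat.beq (pget pr i) i == [23, 0, 1, 2, 3, 4].elem i) = true := by
  decide +kernel

theorem three_ok : threeCerts.all (fun e => Fusion.in22 e.2 && Nat.beq (pmul e.2 pr) (pmul e.1 e.2)) = true ∧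
    forallLt 3 (fun i => forallLt 3 (fun j =>
      (Nat.beq i 0 && Nat.beq j 0) || (! Nat.beq (pmul (ppow pr i) (ppow ps j)) pone &&
        (threeCerts.map Prod.fst).any (Nat.beq (pmul (ppow pr i) (ppow ps j)))))) = true := by
  decide +kernel

theorem pt_apply {g : M} {p : ℕ} (h : RepM g p) {i j : ℕ} (hi : i < 24) (hj : j < 24)
    (e : Nat.beq (pget p i) j = true) : (g : Equiv.Perm GolayPt) (pt i) = pt j := by
  refine ix_injective ?_
  rw [← h (pt i), ix_pt hi, ix_pt hj, Nat.eq_of_beq_eq_true e]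

theorem fix_pt23 (g : M) : (g : Equiv.Perm GolayPt) (pt 23) = pt 23 := by
  rw [show pt 23 = (none : GolayPt) by decide +kernel]; exact fix23 g

theorem fix_pt0 (g : M) : (g : Equiv.Perm GolayPt) (pt 0) = pt 0 := by
  rw [show pt 0 = (some 0 : GolayPt) by decide +kernel]; exact fix0 g

theorem fixed_pt {r : M} (hr : RepM r pr) (z : GolayPt) :
    (r : Equiv.Perm GolayPt) z = z ↔ ix z ∈ [23, 0, 1, 2, 3, 4] := by
  obtain ⟨-, -, -, -, -, h⟩ := three_cycle_ok
  have h' := forallLt_elim h (ix_lt z)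
  rw [beq_iff_eq, Bool.eq_iff_iff, Nat.beq_eq, List.elem_iff] at h'
  rw [← h', hr z, ix_inj]

theorem kernel_six {r u : M} (hr : RepM r pr) (hc : Commute u r)
    (h1 : (u : Equiv.Perm GolayPt) (pt 1) = pt 1) (h2 : (u : Equiv.Perm GolayPt) (pt 2) = pt 2)
    (h3 : (u : Equiv.Perm GolayPt) (pt 3) = pt 3) (h4 : (u : Equiv.Perm GolayPt) (pt 4) = pt 4) :
    ∃ l : ℕ, u = r ^ l := by
  classical
  obtain ⟨hpop, hcode, h514, h1417, hbits, -⟩ := three_cycle_ok
  set o := setOfMask 8536111 with ho_def
  have ho : o ∈ octads := by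
    rw [mem_octads_iff, ho_def, maskOf_setOfMask (by norm_num)]
    exact ⟨hcode, Nat.eq_of_beq_eq_true hpop⟩
  have hmem : ∀ z, z ∈ o ↔ ix z ∈ [23, 0, 1, 2, 3, 5, 14, 17] := fun z => by
    have h' := forallLt_elim hbits (ix_lt z)
    rw [beq_iff_eq, Bool.eq_iff_iff, Nat.beq_eq, List.elem_iff] at h'
    rw [← h', ho_def, mem_setOfMask, bitAt_eq]
    simp [Bool.toNat, Nat.beq_eq]
  have hr5 : (r : Equiv.Perm GolayPt) (pt 5) = pt 14 := pt_apply hr (by norm_num) (by norm_num) h514
  have hr14 : (r : Equiv.Perm GolayPt) (pt 14) = pt 17 := pt_apply hr (by norm_num) (by norm_num) h1417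
  -- five fixed points of `u` lie in the octad
  have hfive : ∀ i ∈ [23, 0, 1, 2, 3], (u : Equiv.Perm GolayPt) (pt i) = pt i := by
    intro i hi
    simp only [List.mem_cons, List.not_mem_nil, or_false] at hi
    rcases hi with rfl | rfl | rfl | rfl | rfl
    exacts [fix_pt23 u, fix_pt0 u, h1, h2, h3]
  have huo : up u • o = o := by
    have ho' : up u • o ∈ octads := (smul_mem_octads (up u).2).2 ho
    by_contra hne
    have h5 : ({pt 23, pt 0, pt 1, pt 2, pt 3} : Finset GolayPt) ⊆ (up u • o) ∩ o := by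
      intro z hz
      simp only [Finset.mem_insert, Finset.mem_singleton] at hz
      have hzo : z ∈ o ∧ (u : Equiv.Perm GolayPt) z = z := by
        rcases hz with rfl | rfl | rfl | rfl | rfl <;>
          exact ⟨(hmem _).2 (by rw [ix_pt (by norm_num)]; simp), hfive _ (by simp)⟩
      exact Finset.mem_inter.2 ⟨Finset.mem_smul_finset.2 ⟨z, hzo.1, hzo.2⟩, hzo.1⟩
    have := Finset.card_le_card h5
    rw [show ({pt 23, pt 0, pt 1, pt 2, pt 3} : Finset GolayPt).card = 5 by decide +kernel] at this
    rcases card_inter_octads ho' ho hne with h | h | h <;> omega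
  have h5o : (u : Equiv.Perm GolayPt) (pt 5) ∈ o := by
    rw [← huo]
    exact Finset.mem_smul_finset.2 ⟨pt 5, (hmem _).2 (by rw [ix_pt (by norm_num)]; simp), rfl⟩
  have hcases : (u : Equiv.Perm GolayPt) (pt 5) = pt 5 ∨ (u : Equiv.Perm GolayPt) (pt 5) = pt 14 ∨
      (u : Equiv.Perm GolayPt) (pt 5) = pt 17 := by
    have h' := (hmem _).1 h5o
    simp only [List.mem_cons, List.not_mem_nil, or_false] at h'
    have back : ∀ i ∈ [23, 0, 1, 2, 3], ix ((u : Equiv.Perm GolayPt) (pt 5)) ≠ i := by
      intro i hi e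
      have hi24 : i < 24 := e ▸ ix_lt _
      have h5i : pt i = (u : Equiv.Perm GolayPt) (pt 5) := by rw [← e, pt_ix]
      have := (u : Equiv.Perm GolayPt).injective ((hfive i hi).trans h5i)
      have := congrArg ix this
      rw [ix_pt hi24, ix_pt (by norm_num)] at this
      simp only [List.mem_cons, List.not_mem_nil, or_false] at hi
      omega
    rcases h' with h | h | h | h | h | h | h | h
    · exact absurd h (back _ (by simp))
    · exact absurd h (back _ (by simp))
    · exact absurd h (back _ (by simp))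
    · exact absurd h (back _ (by simp))
    · exact absurd h (back _ (by simp))
    · exact Or.inl ((pt_ix _).symm.trans (congrArg pt h))
    · exact Or.inr (Or.inl ((pt_ix _).symm.trans (congrArg pt h)))
    · exact Or.inr (Or.inr ((pt_ix _).symm.trans (congrArg pt h)))
  have key : ∀ x : M, Commute x r → (∀ i ∈ [23, 0, 1, 2, 3], (x : Equiv.Perm GolayPt) (pt i) = pt i) →
      (x : Equiv.Perm GolayPt) (pt 4) = pt 4 → (x : Equiv.Perm GolayPt) (pt 5) = pt 5 → x = 1 := by
    intro x hx hx5 hx4 h55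
    have hcomm : ∀ z, (x : Equiv.Perm GolayPt) ((r : Equiv.Perm GolayPt) z) =
        (r : Equiv.Perm GolayPt) ((x : Equiv.Perm GolayPt) z) := fun z =>
      congrArg (fun g : M => (g : Equiv.Perm GolayPt) z) hx.eq
    have h14 : (x : Equiv.Perm GolayPt) (pt 14) = pt 14 := by rw [← hr5, hcomm, h55]
    have h17 : (x : Equiv.Perm GolayPt) (pt 17) = pt 17 := by rw [← hr14, hcomm, h14]
    refine up_injective ((fix_regular ho (p := pt 4) ?_).1 (up x) (fun z hz => ?_) hx4)
    · rw [hmem, ix_pt (by norm_num)]; simp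
    · show (x : Equiv.Perm GolayPt) z = z
      have hz' := (hmem z).1 hz
      rw [← pt_ix z]
      simp only [List.mem_cons, List.not_mem_nil, or_false] at hz'
      rcases hz' with h | h | h | h | h | h | h | h <;> rw [h]
      exacts [hx5 _ (by simp), hx5 _ (by simp), hx5 _ (by simp), hx5 _ (by simp), hx5 _ (by simp), h55, h14, h17]
  have hrfix : ∀ (k : ℕ) (i : ℕ), i ∈ [23, 0, 1, 2, 3, 4] →
      ((r ^ k : M) : Equiv.Perm GolayPt) (pt i) = pt i := by
    intro k i hi
    have hi24 : i < 24 := by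
      simp only [List.mem_cons, List.not_mem_nil, or_false] at hi
      omega
    induction k with
    | zero => rfl
    | succ k ih =>
      rw [pow_succ]
      show ((r ^ k : M) : Equiv.Perm GolayPt) ((r : Equiv.Perm GolayPt) (pt i)) = pt i
      rw [(fixed_pt hr (pt i)).2 (by rw [ix_pt hi24]; exact hi), ih]
  obtain ⟨l, hl⟩ : ∃ l : ℕ, ((r ^ l : M) : Equiv.Perm GolayPt) (pt 5) = (u : Equiv.Perm GolayPt) (pt 5) := by
    rcases hcases with h | h | h
    · exact ⟨0, by rw [h]; rfl⟩
    · exact ⟨1, by rw [h, pow_one, hr5]⟩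
    · refine ⟨2, ?_⟩
      rw [h, pow_two]
      show (r : Equiv.Perm GolayPt) ((r : Equiv.Perm GolayPt) (pt 5)) = pt 17
      rw [hr5, hr14]
  refine ⟨l, inv_mul_eq_one.1 (key ((r ^ l)⁻¹ * u) ((Commute.inv_left (Commute.pow_left rfl l)).mul_left hc)
    (fun i hi => ?_) ?_ ?_) |>.symm⟩
  · show ((r ^ l : M) : Equiv.Perm GolayPt)⁻¹ ((u : Equiv.Perm GolayPt) (pt i)) = pt i
    rw [hfive i hi, Equiv.Perm.inv_eq_iff_eq]
    exact (hrfix l i (by simp only [List.mem_cons, List.not_mem_nil, or_false] at hi ⊢; omega)).symm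
  · show ((r ^ l : M) : Equiv.Perm GolayPt)⁻¹ ((u : Equiv.Perm GolayPt) (pt 4)) = pt 4
    rw [h4, Equiv.Perm.inv_eq_iff_eq]
    exact (hrfix l 4 (by simp)).symm
  · show ((r ^ l : M) : Equiv.Perm GolayPt)⁻¹ ((u : Equiv.Perm GolayPt) (pt 5)) = pt 5
    rw [Equiv.Perm.inv_eq_iff_eq]
    exact hl.symm

/-- No involution commuting with the element of order three fixes exactly two of its four moved-fixed points. -/
theorem no_transposition {r u : M} (hr : RepM r pr) (hr3 : r ^ 3 = 1) (hc : Commute u r)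
    (h1 : (u : Equiv.Perm GolayPt) (pt 1) = pt 1) (h2 : (u : Equiv.Perm GolayPt) (pt 2) = pt 2)
    (h3 : (u : Equiv.Perm GolayPt) (pt 3) = pt 4) (h4 : (u : Equiv.Perm GolayPt) (pt 4) = pt 3) : False := by
  classical
  have hu2 : ∃ l : ℕ, u * u = r ^ l := kernel_six hr (hc.mul_left hc)
    (by show (u : Equiv.Perm GolayPt) ((u : Equiv.Perm GolayPt) (pt 1)) = pt 1; rw [h1, h1])
    (by show (u : Equiv.Perm GolayPt) ((u : Equiv.Perm GolayPt) (pt 2)) = pt 2; rw [h2, h2])
    (by show (u : Equiv.Perm GolayPt) ((u : Equiv.Perm GolayPt) (pt 3)) = pt 3; rw [h3, h4])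
    (by show (u : Equiv.Perm GolayPt) ((u : Equiv.Perm GolayPt) (pt 4)) = pt 4; rw [h4, h3])
  obtain ⟨l, hl⟩ := hu2
  set t := u ^ 3 with ht
  have ht2 : t * t = 1 := by
    rw [ht, ← pow_add, show 3 + 3 = 2 * 3 from rfl, pow_mul, pow_two, hl, ← pow_mul, mul_comm, pow_mul, hr3,
      one_pow]
  have tval : ∀ z, (t : Equiv.Perm GolayPt) z =
      (u : Equiv.Perm GolayPt) ((u : Equiv.Perm GolayPt) ((u : Equiv.Perm GolayPt) z)) := fun z => by
    rw [ht, pow_succ, pow_succ, pow_one]; rfl
  have htc : Commute t r := hc.pow_left 3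
  have ht1 : t ≠ 1 := fun e => by
    have := tval (pt 3)
    rw [e, h3, h4, h3] at this
    exact absurd this (by decide +kernel)
  obtain ⟨o, ho, hoi⟩ := fixed_eq_octad (z := up t) (by rw [← up_mul, ht2]; rfl)
    (fun e => ht1 (up_injective (e.trans rfl))) (a := (none : GolayPt)) (fix23 t)
  have hrx : orderOf (up r) = 3 := by
    haveI : Fact (Nat.Prime 3) := ⟨Nat.prime_three⟩
    refine orderOf_eq_prime ?_ ?_
    · rw [pow_succ, pow_two, ← up_mul, ← up_mul, ← pow_two, ← pow_succ, hr3]; rfl
    · intro e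
      have := pt_apply hr (i := 5) (j := 14) (by norm_num) (by norm_num) three_cycle_ok.2.2.1
      rw [show (r : Equiv.Perm GolayPt) = 1 from congrArg (fun x : ↥M24 => (x : Equiv.Perm GolayPt)) e] at this
      exact absurd this (by decide +kernel)
  haveI : Fact (Nat.Prime 3) := ⟨Nat.prime_three⟩
  have hinv : ∀ z ∈ o, up r • z ∈ o := fun z hz => by
    rw [← hoi] at hz ⊢
    rw [← mul_smul, ← up_mul, htc.eq, up_mul, mul_smul, hz]
  have hm := fixed_modEq hrx o hinv
  have e4 : o.filter (fun z => up r • z = z) = ({pt 23, pt 0, pt 1, pt 2} : Finset GolayPt) := by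
    ext z
    rw [Finset.mem_filter, ← hoi]
    show (t : Equiv.Perm GolayPt) z = z ∧ (r : Equiv.Perm GolayPt) z = z ↔ _
    rw [fixed_pt hr]
    constructor
    · rintro ⟨htz, hz⟩
      simp only [List.mem_cons, List.not_mem_nil, or_false] at hz
      simp only [Finset.mem_insert, Finset.mem_singleton]
      rcases hz with h | h | h | h | h | h <;> have hz' : z = pt _ := (pt_ix z).symm.trans (congrArg pt h)
      · exact Or.inl hz'
      · exact Or.inr (Or.inl hz')
      · exact Or.inr (Or.inr (Or.inl hz'))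
      · exact Or.inr (Or.inr (Or.inr hz'))
      · rw [hz', tval, h3, h4, h3] at htz
        exact absurd htz (by decide +kernel)
      · rw [hz', tval, h4, h3, h4] at htz
        exact absurd htz (by decide +kernel)
    · intro hz
      simp only [Finset.mem_insert, Finset.mem_singleton] at hz
      rcases hz with rfl | rfl | rfl | rfl <;> refine ⟨?_, by rw [ix_pt (by norm_num)]; simp⟩
      exacts [by rw [tval, fix_pt23, fix_pt23, fix_pt23], by rw [tval, fix_pt0, fix_pt0, fix_pt0],
        by rw [tval, h1, h1, h1], by rw [tval, h2, h2, h2]]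
  rw [e4, ho.2, show ({pt 23, pt 0, pt 1, pt 2} : Finset GolayPt).card = 4 by decide +kernel, Nat.ModEq] at hm
  omega

theorem exists_config : ∃ r s v w : M, Config r s v w := by
  haveI : Fact (Nat.Prime 3) := ⟨Nat.prime_three⟩
  obtain ⟨hin, er, er1, es, ers, erv, erw, evw, ev, ew, esv, esw, ev1, ew1, evne, efix, v12, w13, vw14, s11, s23,
    ss24⟩ := three_gens_ok
  rw [List.all_eq_true] at hin
  obtain ⟨r, hr⟩ := exists_repM (hin pr (by simp))
  obtain ⟨s, hs⟩ := exists_repM (hin ps (by simp))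
  obtain ⟨v, hv⟩ := exists_repM (hin pv (by simp))
  obtain ⟨w, hw⟩ := exists_repM (hin pw (by simp))
  have eq1 : ∀ {g : M} {p : ℕ}, RepM g p → Nat.beq p pone = true → g = 1 := fun hg e => by
    rw [Nat.eq_of_beq_eq_true e] at hg
    exact Subtype.ext (Sporadic.Rep.unique hg Rep.one)
  have cube : ∀ {g : M} {p : ℕ}, RepM g p → Nat.beq (pmul p (pmul p p)) pone = true → g ^ 3 = 1 :=
    fun {g p} hg e => by
      rw [pow_succ', pow_two]; exact eq1 (repM_mul hg (repM_mul hg hg)) e
  have canon : ∀ {p : ℕ}, Nat.beq p pone = false → ∀ {g : M}, RepM g p → Nat.beq (pmul p pone) p = true → g ≠ 1 := by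
    intro p e g hg hc heq
    rw [Bool.eq_false_iff] at e
    refine e ?_
    rw [Fusion.Cert.eq_of_rep (heq ▸ hg : RepM 1 p) Rep.one (Nat.eq_of_beq_eq_true hc) Fusion.Cert.canon_pone]
    simp
  have hr3 := cube hr er
  have hs3 := cube hs es
  have hvv : v * v = 1 := eq1 (repM_mul hv hv) ev
  have hww : w * w = 1 := eq1 (repM_mul hw hw) ew
  have crs : Commute r s := eq_of_packed hr hs hs hr ers
  have crv : Commute r v := eq_of_packed hr hv hv hr erv
  have crw : Commute r w := eq_of_packed hr hw hw hr erw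
  have rfix : ∀ i ∈ [1, 2, 3, 4], (r : Equiv.Perm GolayPt) (pt i) = pt i := by
    intro i hi
    have := (List.all_eq_true.1 efix) i hi
    simp only [List.mem_cons, List.not_mem_nil, or_false] at hi
    exact pt_apply hr (by omega) (by omega) this
  have hcent : ∀ u : M, Commute u r → ∃ i j k l : ℕ, u = v ^ i * w ^ j * s ^ k * r ^ l := by
    intro u hu
    -- the image of `pt 1` is among the four
    have perm : ∀ x : M, Commute x r → ∀ i ∈ [1, 2, 3, 4],
        ∃ j ∈ [1, 2, 3, 4], (x : Equiv.Perm GolayPt) (pt i) = pt j := by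
      intro x hx i hi
      have hi24 : i < 24 := by simp only [List.mem_cons, List.not_mem_nil, or_false] at hi; omega
      have hf : (r : Equiv.Perm GolayPt) ((x : Equiv.Perm GolayPt) (pt i)) = (x : Equiv.Perm GolayPt) (pt i) := by
        have := congrArg (fun g : M => (g : Equiv.Perm GolayPt) (pt i)) hx.eq
        simp only [Subgroup.coe_mul, Equiv.Perm.mul_apply] at this
        rw [← this, rfix i hi]
      have hmem := (fixed_pt hr _).1 hf
      simp only [List.mem_cons, List.not_mem_nil, or_false] at hmem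
      have back : ∀ j, j = 23 ∨ j = 0 → ix ((x : Equiv.Perm GolayPt) (pt i)) ≠ j := by
        intro j hj e
        have hji : pt j = (x : Equiv.Perm GolayPt) (pt i) := by rw [← e, pt_ix]
        have hfj : (x : Equiv.Perm GolayPt) (pt j) = pt j := by
          rcases hj with rfl | rfl
          exacts [fix_pt23 x, fix_pt0 x]
        have := congrArg ix ((x : Equiv.Perm GolayPt).injective (hfj.trans hji))
        rw [ix_pt (by omega), ix_pt hi24] at this
        simp only [List.mem_cons, List.not_mem_nil, or_false] at hi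
        omega
      rcases hmem with h | h | h | h | h | h
      · exact absurd h (back _ (Or.inl rfl))
      · exact absurd h (back _ (Or.inr rfl))
      all_goals exact ⟨_, by simp, ((pt_ix _).symm.trans (congrArg pt h))⟩
    have pa : ∀ {g : M} {p i j : ℕ}, RepM g p → i < 24 → j < 24 → Nat.beq (pget p i) j = true →
        (g : Equiv.Perm GolayPt) (pt i) = pt j := fun hg hi hj e => pt_apply hg hi hj e
    -- first fix `pt 1`
    obtain ⟨i, j, hij⟩ : ∃ i j : ℕ, ((v ^ i * w ^ j : M) : Equiv.Perm GolayPt) (pt 1) =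
        (u : Equiv.Perm GolayPt) (pt 1) := by
      obtain ⟨m, hm, hum⟩ := perm u hu 1 (by simp)
      simp only [List.mem_cons, List.not_mem_nil, or_false] at hm
      rcases hm with rfl | rfl | rfl | rfl
      · exact ⟨0, 0, by simp [hum]⟩
      · refine ⟨1, 0, ?_⟩
        rw [pow_one, pow_zero, mul_one, hum]; exact pa hv (by norm_num) (by norm_num) v12
      · refine ⟨0, 1, ?_⟩
        rw [pow_one, pow_zero, one_mul, hum]; exact pa hw (by norm_num) (by norm_num) w13
      · refine ⟨1, 1, ?_⟩
        rw [pow_one, pow_one, hum]; exact pa (repM_mul hv hw) (by norm_num) (by norm_num) vw14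
    set u1 := (v ^ i * w ^ j)⁻¹ * u with hu1
    have cu1 : Commute u1 r := ((crv.symm.pow_left i).mul_left (crw.symm.pow_left j)).inv_left.mul_left hu
    have u11 : (u1 : Equiv.Perm GolayPt) (pt 1) = pt 1 := by
      show ((v ^ i * w ^ j : M) : Equiv.Perm GolayPt)⁻¹ ((u : Equiv.Perm GolayPt) (pt 1)) = pt 1
      rw [← hij]; simp
    have s11' : (s : Equiv.Perm GolayPt) (pt 1) = pt 1 := pa hs (by norm_num) (by norm_num) s11
    have sfix1 : ∀ k : ℕ, ((s ^ k : M) : Equiv.Perm GolayPt) (pt 1) = pt 1 := by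
      intro k
      induction k with
      | zero => rfl
      | succ k ih =>
        rw [pow_succ]
        show ((s ^ k : M) : Equiv.Perm GolayPt) ((s : Equiv.Perm GolayPt) (pt 1)) = pt 1
        rw [s11', ih]
    obtain ⟨k, hk⟩ : ∃ k : ℕ, ((s ^ k : M) : Equiv.Perm GolayPt) (pt 2) =
        (u1 : Equiv.Perm GolayPt) (pt 2) := by
      obtain ⟨m, hm, hum⟩ := perm u1 cu1 2 (by simp)
      simp only [List.mem_cons, List.not_mem_nil, or_false] at hm
      rcases hm with rfl | rfl | rfl | rfl
      · have := congrArg ix ((u1 : Equiv.Perm GolayPt).injective (hum.trans u11.symm))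
        rw [ix_pt (by norm_num), ix_pt (by norm_num)] at this; omega
      · exact ⟨0, by rw [hum]; rfl⟩
      · exact ⟨1, by rw [pow_one, hum]; exact pa hs (by norm_num) (by norm_num) s23⟩
      · exact ⟨2, by rw [pow_two, hum]; exact pa (repM_mul hs hs) (by norm_num) (by norm_num) ss24⟩
    set u2 := (s ^ k)⁻¹ * u1 with hu2
    have cu2 : Commute u2 r := (crs.symm.pow_left k).inv_left.mul_left cu1
    have u21 : (u2 : Equiv.Perm GolayPt) (pt 1) = pt 1 := by
      show ((s ^ k : M) : Equiv.Perm GolayPt)⁻¹ ((u1 : Equiv.Perm GolayPt) (pt 1)) = pt 1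
      rw [u11, Equiv.Perm.inv_eq_iff_eq, sfix1]
    have u22 : (u2 : Equiv.Perm GolayPt) (pt 2) = pt 2 := by
      show ((s ^ k : M) : Equiv.Perm GolayPt)⁻¹ ((u1 : Equiv.Perm GolayPt) (pt 2)) = pt 2
      rw [← hk]; simp
    have h34 : ∀ m ∈ [3, 4], ∃ m' ∈ [3, 4], (u2 : Equiv.Perm GolayPt) (pt m) = pt m' := by
      intro m hm
      simp only [List.mem_cons, List.not_mem_nil, or_false] at hm
      obtain ⟨m', hm', hum⟩ := perm u2 cu2 m (by rcases hm with rfl | rfl <;> simp)
      simp only [List.mem_cons, List.not_mem_nil, or_false] at hm'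
      rcases hm' with rfl | rfl | rfl | rfl
      · have := congrArg ix ((u2 : Equiv.Perm GolayPt).injective (hum.trans u21.symm))
        rw [ix_pt (by omega), ix_pt (by norm_num)] at this; omega
      · have := congrArg ix ((u2 : Equiv.Perm GolayPt).injective (hum.trans u22.symm))
        rw [ix_pt (by omega), ix_pt (by norm_num)] at this; omega
      · exact ⟨3, by simp, hum⟩
      · exact ⟨4, by simp, hum⟩
    obtain ⟨m3, hm3, h3⟩ := h34 3 (by simp)
    obtain ⟨m4, hm4, h4⟩ := h34 4 (by simp)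
    simp only [List.mem_cons, List.not_mem_nil, or_false] at hm3 hm4
    have hne : m3 ≠ m4 := fun e => by
      rw [e] at h3
      exact absurd ((u2 : Equiv.Perm GolayPt).injective (h3.trans h4.symm)) (by decide +kernel)
    rcases hm3 with rfl | rfl
    · obtain rfl : m4 = 4 := by omega
      obtain ⟨l, hl⟩ := kernel_six hr cu2 u21 u22 h3 h4
      refine ⟨i, j, k, l, ?_⟩
      rw [← hl, hu2, hu1]; group
    · obtain rfl : m4 = 3 := by omega
      exact (no_transposition hr hr3 cu2 u21 u22 h3 h4).elim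
  refine ⟨r, s, v, w, hr3, canon er1 hr (by decide +kernel), hs3, crs, crv, crw,
    eq_of_packed hv hw hw hv evw, hvv, hww, ?_, ?_, canon ev1 hv (by decide +kernel),
    canon ew1 hw (by decide +kernel), ?_, hcent, fun x hx => ?_, fun t ht => isConj_pv hv ht⟩
  · rw [eq_of_packed hs hv hw hs esv]; group
  · rw [eq_of_packed hs hw (repM_mul hv hw) hs esw]; group
  · intro e
    rw [Bool.eq_false_iff] at evne
    refine evne ?_
    rw [Fusion.Cert.eq_of_rep (e ▸ hv : RepM w pv) hw (Nat.eq_of_beq_eq_true (by decide +kernel))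
      (Nat.eq_of_beq_eq_true (by decide +kernel))]
    simp
  · obtain ⟨hok, hall⟩ := three_ok
    rw [List.all_eq_true] at hok
    let φ : Fin 3 × Fin 3 → M := fun q => r ^ (q.1 : ℕ) * s ^ (q.2 : ℕ)
    have hrep : ∀ q, RepM (φ q) (pmul (ppow pr (q.1 : ℕ)) (ppow ps (q.2 : ℕ))) := fun q =>
      repM_mul (rep_pow hr _) (rep_pow hs _)
    have hne : ∀ q : Fin 3 × Fin 3, φ q = 1 → q = 0 := by
      intro q hq
      have h' := forallLt_elim (forallLt_elim hall q.1.2) q.2.2
      simp only [Bool.or_eq_true, Bool.and_eq_true, Bool.not_eq_true', Nat.beq_eq] at h'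
      rcases h' with ⟨ha, hb⟩ | ⟨h, -⟩
      · exact Prod.ext (Fin.ext ha) (Fin.ext hb)
      · rw [Bool.eq_false_iff] at h
        refine absurd ?_ h
        exact (Fusion.Cert.beq_pone_iff (rep_pow hr _) (rep_pow hs _)).2 (congrArg Subtype.val hq)
    let R : Subgroup M := Subgroup.zpowers r ⊔ Subgroup.zpowers s
    have hnorm : Subgroup.zpowers r ≤ Subgroup.centralizer (Subgroup.zpowers s : Set M) := by
      rw [Subgroup.zpowers_le, Subgroup.mem_centralizer_iff]
      rintro y ⟨n, rfl⟩
      exact (crs.symm.zpow_left n).eq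
    have hRmem : ∀ g, g ∈ R ↔ ∃ q, φ q = g := by
      intro g
      constructor
      · intro hg
        rw [CfsgLib.Core.mem_sup_iff_mul (hnorm.trans (Subgroup.centralizer_le_normalizer _))] at hg
        obtain ⟨a, ⟨m, rfl⟩, b, ⟨n, rfl⟩, rfl⟩ := hg
        refine ⟨(⟨(m % 3).toNat, by omega⟩, ⟨(n % 3).toNat, by omega⟩), ?_⟩
        show r ^ ((m % 3).toNat) * s ^ ((n % 3).toNat) = r ^ m * s ^ n
        rw [← zpow_natCast, ← zpow_natCast, Int.toNat_of_nonneg (by omega), Int.toNat_of_nonneg (by omega),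
          zpow_eq_zpow_emod' m hr3, zpow_eq_zpow_emod' n hs3]
        norm_num
      · rintro ⟨q, rfl⟩
        exact mul_mem (Subgroup.mem_sup_left (pow_mem (Subgroup.mem_zpowers r) _))
          (Subgroup.mem_sup_right (pow_mem (Subgroup.mem_zpowers s) _))
    have hφi : Function.Injective φ := by
      intro q q' e
      have key : ∀ a b : ℕ, a < 3 → b < 3 → ∀ a' b' : ℕ, a' < 3 → b' < 3 →
          r ^ a * s ^ b = r ^ a' * s ^ b' → a = a' ∧ b = b' := by
        intro a b ha hb a' b' ha' hb' e
        have h1 : r ^ ((a + 3 - a') % 3) * s ^ ((b + 3 - b') % 3) = 1 := by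
          rw [← pow_eq_pow_mod _ hr3, ← pow_eq_pow_mod _ hs3, pow_sub r (by omega), pow_sub s (by omega),
            pow_add, pow_add, hr3, hs3, mul_one, mul_one]
          have e2 : r ^ a * (r ^ a')⁻¹ * (s ^ b * (s ^ b')⁻¹) = (r ^ a * s ^ b) * ((s ^ b')⁻¹ * (r ^ a')⁻¹) := by
            have c1 : Commute (r ^ a')⁻¹ (s ^ b * (s ^ b')⁻¹) :=
              (((crs.pow_pow a' b)).mul_right ((crs.pow_pow a' b').inv_right)).inv_left
            rw [mul_assoc (r ^ a), c1.eq]; group
          rw [e2, e]; group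
        have := congrArg (fun q : Fin 3 × Fin 3 => ((q.1 : ℕ), (q.2 : ℕ)))
          (hne (⟨_, Nat.mod_lt _ (by norm_num)⟩, ⟨_, Nat.mod_lt _ (by norm_num)⟩) h1)
        simp at this
        omega
      obtain ⟨h1, h2⟩ := key _ _ q.1.2 q.2.2 _ _ q'.1.2 q'.2.2 e
      exact Prod.ext (Fin.ext h1) (Fin.ext h2)
    have hRc : Nat.card R = 3 ^ 2 := by
      rw [← Nat.card_congr (Equiv.ofBijective (fun q => (⟨φ q, (hRmem _).2 ⟨q, rfl⟩⟩ : R))
        ⟨fun a b e => hφi (congrArg Subtype.val e), fun g => by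
          obtain ⟨q, hq⟩ := (hRmem g.1).1 g.2; exact ⟨q, Subtype.ext hq⟩⟩)]
      simp
    have hf : (Nat.card M).factorization 3 = 2 := by
      rw [card_sporM22, show (443520 : ℕ) = 3 ^ 2 * 49280 from rfl, Nat.factorization_mul (by norm_num) (by norm_num),
        Finsupp.add_apply, Nat.Prime.factorization_pow Nat.prime_three, Finsupp.single_eq_same,
        Nat.factorization_eq_zero_of_not_dvd (by norm_num)]
    obtain ⟨S', hS'⟩ := (IsPGroup.of_card (G := Subgroup.zpowers x) (n := 1)
      (by rw [Nat.card_zpowers, hx, pow_one])).exists_le_sylow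
    obtain ⟨c, hc⟩ := MulAction.exists_smul_eq M S' (Sylow.ofCard R (by rw [hRc, hf]))
    have hmem : c * x * c⁻¹ ∈ R := by
      have : c * x * c⁻¹ ∈ (Sylow.ofCard R (by rw [hRc, hf]) : Subgroup M) := by
        rw [← hc, Sylow.coe_subgroup_smul]
        exact Subgroup.smul_mem_pointwise_smul x (MulAut.conj c) _ (hS' (Subgroup.mem_zpowers x))
      rwa [Sylow.coe_ofCard] at this
    obtain ⟨q, hq⟩ := (hRmem _).1 hmem
    have h' := forallLt_elim (forallLt_elim hall q.1.2) q.2.2
    simp only [Bool.or_eq_true, Bool.and_eq_true, Bool.not_eq_true', Nat.beq_eq, List.any_eq_true] at h'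
    rcases h' with ⟨ha, hb⟩ | ⟨-, p, hp, hpe⟩
    · have : φ q = 1 := by simp [φ, ha, hb]
      rw [hq, conj_eq_one_iff] at this
      rw [this, orderOf_one] at hx; omega
    · obtain ⟨e, he, rfl⟩ := List.mem_map.1 hp
      have hok' := hok e he
      rw [Bool.and_eq_true] at hok'
      obtain ⟨d, hd⟩ := exists_repM hok'.1
      rw [← hpe] at hok'
      have key := eq_of_packed hd hr (hrep q) hd hok'.2
      refine isConj_iff.2 ⟨d⁻¹ * c, ?_⟩
      calc d⁻¹ * c * x * (d⁻¹ * c)⁻¹ = d⁻¹ * (c * x * c⁻¹) * d := by group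
        _ = r := by rw [← hq, mul_assoc, ← key, inv_mul_cancel_left]

end CfsgLib.JankoFour.M22
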