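import Cfsg.Agent.Lib.JankoFour.Fusion
import Cfsg.Agent.Lib.ZStar.Main

/-!
# The centralizer and the normalizer of `P` (owner: helper14)

`centralizer_le`: `C_G(P) ≤ C(z)`; `normalizer_le`: `N_G(P) ≤ C(z)`; `C` is perfect with cyclic centre of
order 6 and central quotient the Mathieu group.
-/

set_option autoImplicit false

namespace CfsgLib.JankoFour

open Cfsg CfsgLib.ThreeTrans
open CfsgLib.JankoFour.M22 (Grp)
open scoped commutatorElement

variable {G : Type*} [Group G] [Finite G]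

/-- A group of odd order normalized by a four group whose three centralizers lie in a central subgroup. -/
theorem le_of_four {N A : Subgroup G} (hodd : ∀ n ∈ N, Odd (orderOf n)) (hAN : ∀ x ∈ A, ∀ n ∈ N, Commute x n)
    (hA : ∀ x ∈ A, Odd (orderOf x)) {v w : G} (hv : v * v = 1) (hw : w * w = 1) (hvw : Commute v w)
    (hvA : ∀ x ∈ A, Commute v x) (hwA : ∀ x ∈ A, Commute w x)
    (hNv : ∀ n ∈ N, v * n * v ∈ N) (hNw : ∀ n ∈ N, w * n * w ∈ N)
    (h1 : ∀ n ∈ N, Commute v n → n ∈ A) (h2 : ∀ n ∈ N, Commute w n → n ∈ A)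
    (h3 : ∀ n ∈ N, Commute (v * w) n → n ∈ A) : ∀ n ∈ N, n ∈ A := by
  have key : ∀ u : G, u * u = 1 → (∀ n ∈ N, u * n * u ∈ N) → (∀ n ∈ N, Commute u n → n ∈ A) →
      ∀ n ∈ N, ∃ c ∈ A, u * n * u = c * n⁻¹ := by
    intro u hu hNu hc n hn
    have hui : u⁻¹ = u := inv_eq_of_mul_eq_one_left hu
    set x := n⁻¹ * (u * n * u) with hx
    have hxN : x ∈ N := mul_mem (inv_mem hn) (hNu n hn)
    have hxinv : u * x * u = x⁻¹ := by
      rw [hx, show u * (n⁻¹ * (u * n * u)) * u = u * n⁻¹ * u * n * (u * u) by group, hu, mul_one]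
      rw [show (n⁻¹ * (u * n * u))⁻¹ = u⁻¹ * n⁻¹ * u⁻¹ * n by group, hui]
    obtain ⟨j, hj⟩ := hodd x hxN
    set s := x ^ (j + 1) with hs
    have hss : s * s = x := by
      rw [hs, ← pow_add, show j + 1 + (j + 1) = 2 * j + 1 + 1 by ring, pow_succ, ← hj, pow_orderOf_eq_one, one_mul]
    have hsinv : u * s * u = s⁻¹ := by
      rw [hs, ← inv_pow, ← hxinv, show u * x * u = u * x * u⁻¹ by rw [hui], conj_pow, hui]
    have hcN : n * s ∈ N := mul_mem hn (pow_mem hxN _)
    have hucu : u * (n * s) * u = n * s := by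
      calc u * (n * s) * u = (u * n * u) * (u⁻¹ * s * u) := by group
        _ = n * x * s⁻¹ := by rw [hui, hsinv, hx]; group
        _ = n * s := by rw [← hss]; group
    have hcu : Commute u (n * s) := by
      have := mul_inv_eq_iff_eq_mul.1 (show u * (n * s) * u⁻¹ = n * s by rw [hui]; exact hucu)
      exact this
    have hcA := hc _ hcN hcu
    refine ⟨n * s * (n * s), mul_mem hcA hcA, ?_⟩
    calc u * n * u = n * x := by rw [hx]; group
      _ = (n * s) * s := by rw [← hss]; group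
      _ = (n * s) * (n⁻¹ * (n * s)) := by group
      _ = (n * s) * ((n * s) * n⁻¹) := by rw [(hAN _ hcA _ (inv_mem hn)).eq]
      _ = _ := by group
  intro n hn
  obtain ⟨c1, hc1, e1⟩ := key v hv hNv h1 n hn
  obtain ⟨c2, hc2, e2⟩ := key w hw hNw h2 n⁻¹ (inv_mem hn)
  obtain ⟨c3, hc3, e3⟩ := key (v * w) (by rw [hvw.symm.mul_mul_mul_comm, hv, hw, one_mul])
    (fun m hm => by
      rw [show v * w * m * (v * w) = v * (w * m * (v * w)) by group, hvw.eq,
        show v * (w * m * (w * v)) = v * (w * m * w) * v by group]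
      exact hNv _ (hNw m hm)) h3 n hn
  have hwc : w * c1 * w = c1 := by rw [(hwA c1 hc1).eq, mul_assoc, hw, mul_one]
  have e4 : w * (v * n * v) * w = c1 * c2 * n := by
    rw [e1, show w * (c1 * n⁻¹) * w = (w * c1 * w⁻¹) * (w * n⁻¹ * w) by group, inv_eq_of_mul_eq_one_left hw,
      hwc, e2, inv_inv, mul_assoc]
  have e5 : v * w * n * (v * w) = w * (v * n * v) * w := by
    rw [show v * w * n * (v * w) = (v * w) * n * (v * w) by group]
    conv_lhs => arg 1; rw [hvw.eq]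
    group
  rw [e3, e4] at e5
  have hn2 : n * n ∈ A := by
    have : n * n = (c1 * c2)⁻¹ * c3 := by
      calc n * n = (c1 * c2)⁻¹ * (c1 * c2 * n) * n := by group
        _ = _ := by rw [← e5]; group
    rw [this]; exact mul_mem (inv_mem (mul_mem hc1 hc2)) hc3
  obtain ⟨j, hj⟩ := hodd n hn
  have : n = (n * n) ^ (j + 1) := by
    rw [← pow_two, ← pow_mul, show 2 * (j + 1) = orderOf n + 1 by omega, pow_succ, pow_orderOf_eq_one, one_mul]
  rw [this]; exact pow_mem hn2 _

/-- The map of `C` onto the Mathieu group. -/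
noncomputable def Setting.toGrp (S : Setting G) : ↥S.C →* Grp :=
  MonoidHom.mk' (fun x => S.f (x : G)) fun x y => S.f_mul_C x.2 y.2

namespace Frame

variable {S : Setting G} (F : Frame S)
include F

theorem comm_P {x : G} (hx : Commute x F.p) {q : G} (hq : q ∈ S.P) : Commute x q := by
  obtain ⟨i, rfl⟩ := F.P_eq hq
  exact hx.pow_right i

theorem mem_cent_p {x : G} : x ∈ Subgroup.centralizer (S.P : Set G) ↔ Commute x F.p :=
  ⟨fun h => (Subgroup.mem_centralizer_iff.1 h _ F.hpP).symm,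
    fun h => Subgroup.mem_centralizer_iff.2 fun q hq => (F.comm_P h hq).eq.symm⟩

/-- `P` and `⟨a⟩` are conjugate. -/
theorem exists_conj_p [IsSimpleGroup G] (hG : ¬ IsMulCommutative G) : ∃ h, h * F.p * h⁻¹ = F.a := by
  obtain ⟨g, hgC, hgz⟩ := F.exists_fusion hG
  obtain ⟨c0, hc0⟩ := F.exists_pair hG
  obtain ⟨-, -, -, -, -, -, -, hcomm⟩ := F.exists_u (c0 := c0) hc0
  set t := g * S.z * g⁻¹ with ht
  have ht2 : t * t = 1 := conj_sq S.hE.mul_self_z
  have hft : S.f t ≠ 1 := fun r => by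
    rcases S.ker_two hgC r (n := 1) (by rw [pow_one, pow_two, ht2]) with e | e
    · exact S.hE.z_ne_one (conj_eq_one_iff.1 e)
    · exact hgz e
  obtain ⟨c, hc, hct⟩ := F.inv_C hgC ht2 hft
  have ee : c * g * S.z * (c * g)⁻¹ = c * t * c⁻¹ := by rw [ht]; group
  have hbc : Commute (F.b * (c * t * c⁻¹) * F.b⁻¹) (c * t * c⁻¹) ∧
      F.b * (c * t * c⁻¹) * F.b⁻¹ ≠ c * t * c⁻¹ := by
    have hbz : F.b * S.z * F.b⁻¹ = S.z := by rw [(commute_z F.hbC).eq, mul_inv_cancel_right]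
    have htt : Commute F.t1 F.t0 := hcomm
    have hne : ∀ {k l : G}, (k = 1 ∨ k = S.z) → (l = 1 ∨ l = S.z) → F.t1 * k ≠ F.t0 * l := by
      intro k l hk hl e
      have hf : ∀ {q m : G}, F.IsQ q → (m = 1 ∨ m = S.z) → S.f (q * m) = S.f q := by
        rintro q m hq (rfl | rfl)
        · rw [mul_one]
        · rw [S.f_mul_C hq.1 S.z_mem_C, (S.f_eq_one_iff S.z_mem_H0).2 (Subgroup.mem_sup_left S.hE.z_mem), mul_one]
      exact F.four.2.1 (by rw [← hf F.t1_q hk, e, hf F.t0_q hl])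
    rcases hct with r | r <;> rw [r]
    · refine ⟨htt, fun e => hne (Or.inl rfl) (Or.inl rfl) ?_⟩
      rw [mul_one, mul_one]; exact e
    · rw [show F.b * (F.t0 * S.z) * F.b⁻¹ = (F.b * F.t0 * F.b⁻¹) * (F.b * S.z * F.b⁻¹) by group, hbz,
        show F.b * F.t0 * F.b⁻¹ = F.t1 from rfl]
      refine ⟨(htt.mul_right (F.q_z F.t1_q)).mul_left ((F.q_z F.t0_q).symm.mul_right (Commute.refl _)), ?_⟩
      exact hne (Or.inr rfl) (Or.inr rfl)
  have hcC : c * t * c⁻¹ ∈ S.C := mul_mem (mul_mem hc hgC) (inv_mem hc)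
  obtain ⟨c', -, hc'⟩ := F.move (g := c * g) (k := F.b) F.p_pow F.p_ne
    (by rw [ee]; exact (F.commute_p hcC).symm) (F.commute_p F.hbC)
    (by rw [ee]; exact hbc.1) (by rw [ee]; exact hbc.2)
  exact ⟨c'⁻¹, by rw [← hc']; group⟩

/-- **The centralizer of `P` lies in `C(z)`.** -/
theorem centralizer_le [IsSimpleGroup G] (hG : ¬ IsMulCommutative G) :
    Subgroup.centralizer (S.P : Set G) ≤ S.C := by
  classical
  haveI : Fact (Nat.Prime 3) := ⟨Nat.prime_three⟩
  obtain ⟨h, hh⟩ := F.exists_conj_p hG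
  set K := Subgroup.centralizer (S.P : Set G) with hK
  have hzK : S.z ∈ K := F.mem_cent_p.2 (commute_z F.hpC).symm
  have hiso : IsIsolatedInvolution (⟨S.z, hzK⟩ : K) := by
    refine ⟨by rw [← Subgroup.orderOf_coe]; exact S.orderOf_z, fun g hc => Subtype.ext ?_⟩
    have hc' : Commute S.z ((g : G) * S.z * (g : G)⁻¹) := congrArg Subtype.val hc.eq
    exact F.isolated (fun q hq => by
      rw [(F.comm_P (F.mem_cent_p.1 g.2) hq).eq, mul_inv_cancel_right]; exact hq) hc'.symm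
  set O := (oddCore K).map K.subtype with hO
  have hOK : O ≤ K := Subgroup.map_subtype_le _
  have hOodd : ∀ n ∈ O, Odd (orderOf n) := by
    rintro _ ⟨x, hx, rfl⟩
    rw [Subgroup.subtype_apply, Subgroup.orderOf_coe]
    exact Odd.of_dvd_nat (CfsgLib.ZStar.odd_card_oddCore K) (Subgroup.orderOf_dvd_natCard _ hx)
  have hOn : ∀ k ∈ K, ∀ n ∈ O, k * n * k⁻¹ ∈ O := by
    rintro k hk _ ⟨x, hx, rfl⟩
    exact ⟨⟨k, hk⟩ * x * ⟨k, hk⟩⁻¹, (inferInstance : (oddCore K).Normal).conj_mem x hx _, rfl⟩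
  set N := O.map (MulAut.conj h).toMonoidHom with hN
  have hNm : ∀ {n}, n ∈ N ↔ h⁻¹ * n * h ∈ O := fun {n} => by
    rw [hN, Subgroup.mem_map]
    constructor
    · rintro ⟨x, hx, rfl⟩
      rwa [show h⁻¹ * ((MulAut.conj h).toMonoidHom x) * h = x by
        show h⁻¹ * (h * x * h⁻¹) * h = x; group]
    · intro hn
      exact ⟨_, hn, show h * (h⁻¹ * n * h) * h⁻¹ = n by group⟩
  have hback : ∀ {g}, Commute g F.a → h⁻¹ * g * h ∈ K := fun {g} hg => F.mem_cent_p.2 (by
    have := (LargeData.commute_conj_iff' (g := h⁻¹)).2 hg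
    rwa [inv_inv, show h⁻¹ * F.a * h = F.p by rw [← hh]; group] at this)
  have hNn : ∀ {g}, Commute g F.a → ∀ n ∈ N, g * n * g⁻¹ ∈ N := fun {g} hg n hn => hNm.2 (by
    have := hOn _ (hback hg) _ (hNm.1 hn)
    rwa [show h⁻¹ * g * h * (h⁻¹ * n * h) * (h⁻¹ * g * h)⁻¹ = h⁻¹ * (g * n * g⁻¹) * h by group] at this)
  have hNa : ∀ n ∈ N, Commute n F.a := fun n hn => by
    have := (LargeData.commute_conj_iff' (g := h)).2 (F.mem_cent_p.1 (hOK (hNm.1 hn)))
    rwa [hh, show h * (h⁻¹ * n * h) * h⁻¹ = n by group] at this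
  have hNodd : ∀ n ∈ N, Odd (orderOf n) := fun n hn => by
    have := hOodd _ (hNm.1 hn)
    rwa [show h⁻¹ * n * h = h⁻¹ * n * h⁻¹⁻¹ by group, CfsgLib.Signalizer.orderOf_conj] at this
  set A := Subgroup.zpowers F.a with hA
  -- fixed points of `z`
  have hNz : ∀ n ∈ N, Commute n S.z → n ∈ A := by
    intro n hn hnz
    have hna := hNa n hn
    have hn0 : n ∈ S.H0 := S.mem_of_odd hnz (hNodd n hn)
    have hsmall : ∀ d ∈ N, d ∈ S.E → d = 1 := by
      intro d hd hdE
      have h1 : orderOf (⟨d, hdE⟩ : S.E) ∣ 2 ^ 13 := S.hcard ▸ orderOf_dvd_natCard _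
      rw [← Subgroup.orderOf_coe] at h1
      exact orderOf_eq_one_iff.1 (Nat.eq_one_of_dvd_coprimes
        (Nat.Coprime.pow_right 13 (Nat.coprime_two_right.2 (hNodd d hd))) dvd_rfl h1)
    have hnW : ∀ w ∈ F.W 0, Commute n w := by
      intro w hw
      obtain ⟨hwE, hwa⟩ := F.mem_W0.1 hw
      refine mul_inv_eq_iff_eq_mul.1 (mul_inv_eq_one.1 (hsmall _ ?_ ?_))
      · rw [show n * w * n⁻¹ * w⁻¹ = n * (w * n⁻¹ * w⁻¹) by group]
        exact mul_mem hn (hNn hwa _ (inv_mem hn))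
      · exact mul_mem (S.hE.conj_mem hnz hwE) (inv_mem hwE)
    obtain ⟨x, hx, q, hq, y, hy, e⟩ := F.cent_a_inner hn0 hna
    obtain ⟨i, j, rfl⟩ := F.mem_A.1 hy
    have hxE := (F.mem_W0.1 hx).1
    have hx0 := S.hEH0 hxE
    have hq0 := S.C_le_H0 hq.1
    have hy0 := S.C_le_H0 (F.A_le_C hy)
    have hqy : Commute q (F.a ^ i * F.p ^ j) :=
      (hq.2.1.pow_right i).mul_right ((F.commute_p hq.1).pow_right j)
    have ef : S.f n = S.f q * S.f (F.a ^ i * F.p ^ j) := by
      rw [e, S.f_mul (mul_mem hx0 hq0) hy0, S.f_mul hx0 hq0,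
        (S.f_eq_one_iff hx0).2 (Subgroup.mem_sup_left hxE), one_mul]
    have hc : Commute (S.f q) (S.f (F.a ^ i * F.p ^ j)) := by
      show _ = _; rw [← S.f_mul hq0 hy0, ← S.f_mul hy0 hq0, hqy.eq]
    have hq1 : S.f q = 1 := by
      obtain ⟨k, hk⟩ := hNodd n hn
      have h6 : S.f n ^ (orderOf n * 3) = 1 := by rw [← S.f_pow hn0, pow_mul, pow_orderOf_eq_one, one_pow, S.f_one]
      have h3 : S.f (F.a ^ i * F.p ^ j) ^ (orderOf n * 3) = 1 := by
        rw [mul_comm, pow_mul, ← S.f_pow hy0, F.A_exp hy, S.f_one, one_pow]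
      rw [ef, hc.mul_pow, h3, mul_one, hk, show (2 * k + 1) * 3 = 2 * (3 * k + 1) + 1 by ring, pow_succ, pow_mul,
        pow_two, F.q_sq_one hq, one_pow, one_mul] at h6
      exact h6
    have hqz : q = 1 ∨ q = S.z := S.ker_two hq.1 hq1 (n := 2) hq.2.2
    have hP := F.plane 0
    have hxq : x * q ∈ F.W 0 := by
      rcases hqz with r | r <;> rw [r]
      exacts [mul_mem hx (one_mem _), mul_mem hx (F.z_mem 0)]
    -- `p ^ j` acts trivially
    have hpj : F.p ^ j = 1 := by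
      by_contra hj
      obtain ⟨v, hv, -, hv1, hvz⟩ := hP.exists_sing
      have hc1 : ∀ w ∈ F.W 0, F.p ^ j * w * (F.p ^ j)⁻¹ = w ∨ F.p ^ j * w * (F.p ^ j)⁻¹ = S.z * w := by
        intro w hw
        obtain ⟨hwE, hwa⟩ := F.mem_W0.1 hw
        have e1 : F.a ^ i * F.p ^ j = (x * q)⁻¹ * n := by rw [e]; group
        have e2 : F.p ^ j * w * (F.p ^ j)⁻¹ = (x * q)⁻¹ * w * (x * q) := by
          have hai : F.a ^ i * (F.p ^ j * w * (F.p ^ j)⁻¹) * (F.a ^ i)⁻¹ = F.p ^ j * w * (F.p ^ j)⁻¹ := by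
            have : Commute (F.a ^ i) (F.p ^ j * w * (F.p ^ j)⁻¹) := by
              have hap : Commute F.a (F.p ^ j) := (F.commute_p F.haC).pow_right j
              exact ((hap.mul_right hwa.symm).mul_right hap.inv_right).pow_left i
            rw [this.eq, mul_inv_cancel_right]
          rw [← hai, show F.a ^ i * (F.p ^ j * w * (F.p ^ j)⁻¹) * (F.a ^ i)⁻¹ =
            (F.a ^ i * F.p ^ j) * w * (F.a ^ i * F.p ^ j)⁻¹ by group, e1,
            show (x * q)⁻¹ * n * w * ((x * q)⁻¹ * n)⁻¹ = (x * q)⁻¹ * (n * w * n⁻¹) * (x * q) by group,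
            (hnW w hw).eq, mul_inv_cancel_right]
        rw [e2]
        have := hP.hcomm _ (inv_mem hxq) w hw
        rwa [inv_inv] at this
      have hp2 : F.p ^ j = F.p ∨ F.p ^ j = F.p * F.p := by
        rw [pow_eq_pow_mod j F.p_pow] at hj ⊢
        rcases (show j % 3 = 0 ∨ j % 3 = 1 ∨ j % 3 = 2 by omega) with r | r | r <;> rw [r] at hj ⊢
        · exact absurd (pow_zero _) hj
        · exact Or.inl (pow_one _)
        · exact Or.inr (pow_two _)
      obtain ⟨n1, n2⟩ := hP.pc_ne hv hv1 hvz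
      rcases hp2 with r | r
      · rcases hc1 v hv with s | s <;> rw [r] at s
        exacts [n1 s, n2 s]
      · have e3 : ∀ w, F.p ^ j * w * (F.p ^ j)⁻¹ = pc F.p (pc F.p w) := fun w => by
          rw [r]; show _ = F.p * (F.p * w * F.p⁻¹) * F.p⁻¹; group
        rcases hc1 v hv with s | s <;> rw [e3] at s
        · exact n1 (by conv_rhs => rw [← hP.pc_three v]
                       rw [s])
        · have s' := congrArg (pc F.p) s
          rw [hP.pc_three, pc_mul, hP.pc_z] at s'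
          refine n2 ?_
          have s'' := congrArg (S.z * ·) s'
          simp only [← mul_assoc, S.hE.mul_self_z, one_mul] at s''
          exact s''.symm
    rw [hpj, mul_one] at e
    -- the part in the plane is central
    have hcent : x * q = 1 ∨ x * q = S.z := hP.hcenter _ hxq fun w hw => by
      rw [show x * q = n * (F.a ^ i)⁻¹ by rw [e, mul_inv_cancel_right]]
      exact ((hnW w hw).symm.mul_right ((F.mem_W0.1 hw).2.pow_right i).inv_right)
    rcases hcent with r | r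
    · rw [e, r, one_mul]; exact pow_mem (Subgroup.mem_zpowers _) i
    · exfalso
      obtain ⟨k, hk⟩ := hNodd n hn
      have h1 : n ^ (orderOf n * 3) = 1 := by rw [pow_mul, pow_orderOf_eq_one, one_pow]
      have hza : Commute S.z (F.a ^ i) := (commute_z F.haC).symm.pow_right i
      have ha : (F.a ^ i) ^ (orderOf n * 3) = 1 := by
        rw [← pow_mul, show i * (orderOf n * 3) = 3 * (i * orderOf n) by ring, pow_mul, F.ha, one_pow]
      have e' : n ^ (orderOf n * 3) = S.z ^ (orderOf n * 3) := by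
        conv_lhs => arg 1; rw [e, r]
        rw [hza.mul_pow, ha, mul_one]
      rw [h1, hk, show (2 * k + 1) * 3 = 2 * (3 * k + 1) + 1 by ring, pow_succ, pow_mul, pow_two,
        S.hE.mul_self_z, one_pow, one_mul] at e'
      exact S.hE.z_ne_one e'.symm
  -- generation
  have hNA : ∀ n ∈ N, n ∈ A := by
    obtain ⟨c, hc⟩ := F.exists_pair hG
    obtain ⟨hca, heW, hne⟩ := id hc
    set e := c * S.z * c⁻¹ with he
    obtain ⟨heE, hea⟩ := F.mem_W0.1 heW
    have hez : Commute S.z e := (S.hE.commute_z heE).symm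
    have he2 : e * e = 1 := conj_sq S.hE.mul_self_z
    have hza : Commute S.z F.a := (commute_z F.haC).symm
    have hAN : ∀ x ∈ A, ∀ n ∈ N, Commute x n := fun x hx n hn => by
      obtain ⟨k, rfl⟩ := hx
      exact (hNa n hn).symm.zpow_left k
    have hfix : ∀ {g}, Commute g F.a → ∀ n ∈ N, Commute (g * S.z * g⁻¹) n → n ∈ A := by
      intro g hg n hn hc
      have h1 : g⁻¹ * n * g ∈ N := by
        have := hNn hg.inv_left n hn
        rwa [inv_inv] at this
      obtain ⟨k, hk⟩ := hNz _ h1 (S.back_z (g := g) hc.symm)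
      exact ⟨k, by
        show F.a ^ k = n
        rw [show n = g * (g⁻¹ * n * g) * g⁻¹ by group, ← hk, (hg.zpow_right k).eq, mul_inv_cancel_right]⟩
    have hinvn : ∀ {u}, u * u = 1 → Commute u F.a → ∀ n ∈ N, u * n * u ∈ N := fun {u} hu hua n hn => by
      have := hNn hua n hn
      rwa [inv_eq_of_mul_eq_one_left hu] at this
    refine le_of_four hNodd hAN (fun x hx => ?_) S.hE.mul_self_z he2 hez ?_ ?_ (hinvn S.hE.mul_self_z hza)
      (hinvn he2 hea) (fun n hn hc => hNz n hn hc.symm) (fun n hn hc' => hfix hca n hn hc') ?_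
    · refine Odd.of_dvd_nat (show Odd 3 by decide) ?_
      have hd := Subgroup.orderOf_dvd_natCard _ hx
      rwa [hA, Nat.card_zpowers, orderOf_eq_prime F.ha (fun r => F.hab (by rw [r, S.f_one]))] at hd
    · rintro x ⟨k, rfl⟩; exact hza.zpow_right k
    · rintro x ⟨k, rfl⟩; exact hea.zpow_right k
    · intro n hn hc'
      have he1 : e ≠ 1 := fun r => S.hE.z_ne_one (conj_eq_one_iff.1 r)
      obtain ⟨f, hf, hfe⟩ : ∃ f ∈ F.W 0, ¬ Commute f e := by
        by_contra hno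
        simp only [not_exists, not_and, not_not] at hno
        rcases (F.plane 0).hcenter e heW hno with r | r
        exacts [he1 r, hne r]
      refine hfix ((F.mem_W0.1 hf).2.mul_left hca) n hn ?_
      rw [show f * c * S.z * (f * c)⁻¹ = f * e * f⁻¹ by rw [he]; group,
        ((F.plane 0).hcomm f hf e heW).resolve_left fun r => hfe (mul_inv_eq_iff_eq_mul.1 r)]
      exact hc'
  -- hence the core is in `P`
  have hOP : ∀ n ∈ O, n ∈ S.P := fun n hn => by
    obtain ⟨k, hk⟩ := hNA (h * n * h⁻¹) (hNm.2 (by rwa [show h⁻¹ * (h * n * h⁻¹) * h = n by group]))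
    have hk' : F.a ^ k = h * n * h⁻¹ := hk
    rw [← hh, conj_zpow, mul_left_inj, mul_right_inj] at hk'
    exact hk' ▸ zpow_mem F.hpP k
  intro k hk
  have hxP := hOP _ ⟨_, CfsgLib.ZStar.mem_oddCore_of_isolated hiso ⟨k, hk⟩, rfl⟩
  set x := K.subtype (⟨S.z, hzK⟩ * ⟨k, hk⟩ * (⟨S.z, hzK⟩ : K)⁻¹ * (⟨k, hk⟩ : K)⁻¹) with hx
  have ex : x = S.z * (k * S.z * k⁻¹) := by
    show S.z * k * S.z⁻¹ * k⁻¹ = _
    rw [S.hE.inv_z]; group
  rw [ex] at hxP
  have hkp := F.mem_cent_p.1 hk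
  have hkz2 : (k * S.z * k⁻¹) * (k * S.z * k⁻¹) = 1 := conj_sq S.hE.mul_self_z
  set w := k * S.z * k⁻¹ with hw
  have hcz : Commute w S.z := by
    have h1 := (S.P_commute_z hxP).symm
    have := ((Commute.refl S.z).mul_right h1 : Commute S.z (S.z * (S.z * w)))
    rw [← mul_assoc, S.hE.mul_self_z, one_mul] at this
    exact this.symm
  have hwz : w = S.z := F.isolated (g := k) (fun q hq => by
    rw [(F.comm_P hkp hq).eq, mul_inv_cancel_right]; exact hq) hcz
  exact S.mem_C.2 ⟨mul_inv_eq_iff_eq_mul.1 (hw ▸ hwz), fun q hq => F.comm_P hkp hq⟩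

/-- **The normalizer of `P` lies in `C(z)`.** -/
theorem normalizer_le [IsSimpleGroup G] (hG : ¬ IsMulCommutative G) :
    Subgroup.normalizer (S.P : Set G) ≤ Subgroup.centralizer ({S.z} : Set G) := by
  intro g hg
  have hgP : ∀ q ∈ S.P, g * q * g⁻¹ ∈ S.P := fun q hq => (Subgroup.mem_normalizer_iff.1 hg q).1 hq
  have ht : g * S.z * g⁻¹ ∈ S.C := F.centralizer_le hG (Subgroup.mem_centralizer_iff.2 fun q hq => by
    have h1 : g⁻¹ * q * g ∈ S.P := by
      have := (Subgroup.mem_normalizer_iff.1 hg (g⁻¹ * q * g)).2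
        (by rwa [show g * (g⁻¹ * q * g) * g⁻¹ = q by group])
      exact this
    have := (LargeData.commute_conj_iff' (g := g)).2 (S.P_commute_z h1)
    rw [show g * (g⁻¹ * q * g) * g⁻¹ = q by group] at this
    exact this.eq)
  exact S.mem_H.2 (mul_inv_eq_iff_eq_mul.1 (F.isolated hgP (commute_z ht)))

/-- `z` is a product of commutators of `C`. -/
theorem z_mem_commutator [IsSimpleGroup G] (hG : ¬ IsMulCommutative G) : S.z ∈ ⁅S.C, S.C⁆ := by
  obtain ⟨h, hh⟩ := F.exists_conj_p hG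
  have hK := F.centralizer_le hG
  have hback : ∀ {g}, Commute g F.a → h⁻¹ * g * h ∈ S.C := fun {g} hg => hK (F.mem_cent_p.2 (by
    have := (LargeData.commute_conj_iff' (g := h⁻¹)).2 hg
    rwa [inv_inv, show h⁻¹ * F.a * h = F.p by rw [← hh]; group] at this))
  let D : Subgroup G := (⁅S.C, S.C⁆).comap (MulAut.conj h⁻¹).toMonoidHom
  have hDm : ∀ {g}, g ∈ D ↔ h⁻¹ * g * h ∈ ⁅S.C, S.C⁆ := fun {g} => by
    show h⁻¹ * g * h⁻¹⁻¹ ∈ ⁅S.C, S.C⁆ ↔ h⁻¹ * g * h ∈ ⁅S.C, S.C⁆
    rw [inv_inv]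
  have hcD : ∀ {v w}, Commute v F.a → Commute w F.a → v * w * v⁻¹ * w⁻¹ ∈ D := fun {v w} hv hw => hDm.2 (by
    have := Subgroup.commutator_mem_commutator (hback hv) (hback hw)
    rwa [commutatorElement_def, show h⁻¹ * v * h * (h⁻¹ * w * h) * (h⁻¹ * v * h)⁻¹ * (h⁻¹ * w * h)⁻¹ =
      h⁻¹ * (v * w * v⁻¹ * w⁻¹) * h by group] at this)
  have hP := F.plane 0
  have hzD : S.z ∈ D := by
    obtain ⟨x, hx, -, hx1, hxz⟩ := hP.exists_sing
    obtain ⟨v, hv, w, hw, -, -, e⟩ := hP.centralizer_nonabelian hx hx1 hxz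
    exact e ▸ hcD (F.mem_W0.1 hv).2 (F.mem_W0.1 hw).2
  obtain ⟨n, hn, hn0, hna⟩ := F.exists_outer_a
  have ht1 := F.t1_q
  have hq : F.IsQ (n * F.t1 * n⁻¹) :=
    ⟨S.conj_C hn ht1.1, (hna.mul_left ht1.2.1).mul_left hna.inv_left,
      by rw [conj_pow, ht1.2.2, mul_one, mul_inv_cancel]⟩
  have hm := F.q_mul hq (F.q_inv ht1)
  have hfm : S.f (n * F.t1 * n⁻¹ * F.t1⁻¹) = S.f F.t0 := by
    rw [S.f_mul_C hq.1 (inv_mem ht1.1), (F.outer_action hn hn0 hna).2 _ ht1 F.four.1 F.four.2.1,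
      S.f_inv_C ht1.1, (F.q_fcomm ht1 F.t0_q).eq, mul_inv_cancel_right]
  have hm_D : n * F.t1 * n⁻¹ * F.t1⁻¹ ∈ D := hcD hna ht1.2.1
  have ht0D : F.t0 ∈ D := by
    rcases F.T0_cases hm hfm with r | r
    · exact r ▸ hm_D
    · have := mul_mem (r ▸ hm_D : F.t0 * S.z ∈ D) hzD
      rwa [mul_assoc, S.hE.mul_self_z, mul_one] at this
  set z' := h * S.z * h⁻¹ with hz'
  have hz'c : ∀ {g}, Commute g F.a → Commute z' g := fun {g} hg => by
    have := (LargeData.commute_conj_iff' (g := h)).2 (commute_z (hback hg)).symm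
    rwa [show h * (h⁻¹ * g * h) * h⁻¹ = g by group] at this
  have hza : Commute S.z F.a := (commute_z F.haC).symm
  have hz'z : Commute z' S.z := hz'c hza
  have hz'a : Commute z' F.a := hz'c (Commute.refl _)
  have hz'2 : z' * z' = 1 := conj_sq S.hE.mul_self_z
  have hz'0 : z' ∈ S.H0 := by
    by_contra ho
    have e := F.outer_f hz'z ho hz'a ht1 F.four.1 F.four.2.1
    rw [(hz'c ht1.2.1).eq, mul_inv_cancel_right, left_eq_mul] at e
    exact F.t0_ne e
  have h4 : z' ^ 4 = 1 := by rw [show (4 : ℕ) = 2 * 2 from rfl, pow_mul, pow_two z', hz'2, one_pow]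
  obtain ⟨x, hx, q, hq', e, ef⟩ := F.image_form hz'0 hz'a h4
  have hz'D : z' ∈ D := by
    have hc := (F.image_outer hz'0 hz'a h4 hn.1 hn0 hna (hz'c hna).symm).imp ef.symm.trans ef.symm.trans
    have hqW : ∀ w ∈ F.W 0, Commute q w := (F.kills_one_iff hq').2 hc
    have hxz : x = 1 ∨ x = S.z := hP.hcenter x hx fun w hw => by
      have h1 := (hz'c (F.mem_W0.1 hw).2).symm
      rw [show x = z' * q⁻¹ by rw [e, mul_inv_cancel_right]]
      exact h1.mul_right (hqW w hw).symm.inv_right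
    have hqD : q ∈ D := by
      rcases hc with r | r
      · rcases S.ker_two hq'.1 r (n := 2) hq'.2.2 with s | s <;> rw [s]
        exacts [one_mem _, hzD]
      · rcases F.T0_cases hq' r with s | s <;> rw [s]
        exacts [ht0D, mul_mem ht0D hzD]
    rw [e]
    refine mul_mem ?_ hqD
    rcases hxz with s | s <;> rw [s]
    exacts [one_mem _, hzD]
  have := hDm.1 hz'D
  rwa [hz', show h⁻¹ * (h * S.z * h⁻¹) * h = S.z by group] at this

theorem toGrp_surjective : Function.Surjective S.toGrp := fun g => by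
  obtain ⟨c, hc, hcg⟩ := S.exists_C g
  exact ⟨⟨c, hc⟩, hcg⟩

theorem toGrp_ker : S.toGrp.ker = Subgroup.center ↥S.C := by
  refine le_antisymm (fun x hx => Subgroup.mem_center_iff.2 fun y => Subtype.ext ?_) fun x hx => ?_
  · exact (S.ker_central x.2 (MonoidHom.mem_ker.1 hx) y.2).eq.symm
  · have : S.toGrp x ∈ Subgroup.center Grp := Subgroup.mem_center_iff.2 fun g => by
      obtain ⟨y, rfl⟩ := F.toGrp_surjective g
      rw [← map_mul, ← map_mul, Subgroup.mem_center_iff.1 hx y]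
    rwa [center_grp, Subgroup.mem_bot] at this

theorem center_eq : (Subgroup.center ↥S.C).map S.C.subtype = Subgroup.zpowers (F.p * S.z) := by
  have hpz : Commute F.p S.z := S.P_commute_z F.hpP
  have hp4 : F.p ^ 4 = F.p := by rw [pow_succ, F.p_pow, one_mul]
  refine le_antisymm ?_ ?_
  · rintro _ ⟨x, hx, rfl⟩
    rw [← F.toGrp_ker] at hx
    obtain ⟨r, hr, c, hc, e⟩ := S.C_ker x.2 (MonoidHom.mem_ker.1 hx)
    rw [Subgroup.subtype_apply, e]
    obtain ⟨i, rfl⟩ := F.P_eq hr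
    have h1 : F.p ∈ Subgroup.zpowers (F.p * S.z) := by
      have := pow_mem (Subgroup.mem_zpowers (F.p * S.z)) 4
      rwa [hpz.mul_pow, hp4, show (4 : ℕ) = 2 * 2 from rfl, pow_mul, pow_two S.z, S.hE.mul_self_z, one_pow,
        mul_one] at this
    have h2 : S.z ∈ Subgroup.zpowers (F.p * S.z) := by
      have := mul_mem (inv_mem h1) (Subgroup.mem_zpowers (F.p * S.z))
      rwa [inv_mul_cancel_left] at this
    refine mul_mem (pow_mem h1 i) ?_
    rcases S.hE.eq_or hc with rfl | rfl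
    exacts [one_mem _, h2]
  · have hC : F.p * S.z ∈ S.C := mul_mem F.hpC S.z_mem_C
    refine Subgroup.zpowers_le.2 ⟨⟨_, hC⟩, ?_, rfl⟩
    rw [← F.toGrp_ker, SetLike.mem_coe, MonoidHom.mem_ker]
    exact (S.f_eq_one_iff (S.C_le_H0 hC)).2
      (mul_mem (Subgroup.mem_sup_right F.hpP) (Subgroup.mem_sup_left S.hE.z_mem))

theorem orderOf_pz : orderOf (F.p * S.z) = 6 := by
  rw [(S.P_commute_z F.hpP).orderOf_mul_eq_mul_orderOf_of_coprime (by rw [F.hp3, S.orderOf_z]; norm_num),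
    F.hp3, S.orderOf_z]

theorem center_cyclic : IsCyclic ↥(Subgroup.center ↥S.C) ∧ Nat.card ↥(Subgroup.center ↥S.C) = 6 := by
  let e := (Subgroup.equivMapOfInjective (Subgroup.center ↥S.C) S.C.subtype S.C.subtype_injective).trans
    (MulEquiv.subgroupCongr F.center_eq)
  refine ⟨isCyclic_of_surjective e.symm.toMonoidHom e.symm.surjective, ?_⟩
  rw [Nat.card_congr e.toEquiv, Nat.card_zpowers, F.orderOf_pz]

theorem quotient_iso : Cfsg.Spor.IsoM22 (↥S.C ⧸ Subgroup.center ↥S.C) :=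
  ⟨(QuotientGroup.quotientMulEquivOfEq F.toGrp_ker.symm).trans
    (QuotientGroup.quotientKerEquivOfSurjective _ F.toGrp_surjective)⟩

/-- **`C` is perfect.** -/
theorem perfect [IsSimpleGroup G] (hG : ¬ IsMulCommutative G) : ⁅S.C, S.C⁆ = S.C := by
  haveI := CfsgLib.Sporadic.sporM22_isSimple
  refine le_antisymm S.C.commutator_le_self fun c hc => ?_
  have himg : (commutator ↥S.C).map S.toGrp = ⊤ := by
    rw [commutator_def, Subgroup.map_commutator, ← MonoidHom.range_eq_map,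
      MonoidHom.range_eq_top.2 F.toGrp_surjective, ← commutator_def]
    rcases (inferInstance : (commutator Grp).Normal).eq_bot_or_eq_top with h | h
    · exfalso
      have h1 : Subgroup.center Grp = ⊤ := eq_top_iff.2 fun x _ => Subgroup.mem_center_iff.2 fun y => by
        have hm := Subgroup.commutator_mem_commutator (Subgroup.mem_top y) (Subgroup.mem_top x)
        rw [← commutator_def, h, Subgroup.mem_bot] at hm
        exact commutatorElement_eq_one_iff_mul_comm.1 hm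
      rw [center_grp] at h1
      exact F.hab (Subgroup.mem_bot.1 (h1 ▸ Subgroup.mem_top _))
    · exact h
  obtain ⟨d, hd, hde⟩ : S.toGrp ⟨c, hc⟩ ∈ (commutator ↥S.C).map S.toGrp := himg ▸ Subgroup.mem_top _
  have hdD : (d : G) ∈ ⁅S.C, S.C⁆ := by
    have : (d : G) ∈ (commutator ↥S.C).map S.C.subtype := ⟨d, hd, rfl⟩
    rwa [commutator_def, Subgroup.map_commutator, ← MonoidHom.range_eq_map, Subgroup.range_subtype] at this
  have hk : S.f ((d : G)⁻¹ * c) = 1 := by
    have : S.f c = S.f (d : G) := hde.symm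
    rw [S.f_mul_C (inv_mem d.2) hc, S.f_inv_C d.2, this, inv_mul_cancel]
  obtain ⟨r, hr, k, hk', e⟩ := S.C_ker (mul_mem (inv_mem d.2) hc) hk
  rw [show c = (d : G) * (r * k) by rw [← e, mul_inv_cancel_left]]
  refine mul_mem hdD (mul_mem (S.hder hr) ?_)
  rcases S.hE.eq_or hk' with rfl | rfl
  exacts [one_mem _, F.z_mem_commutator hG]

end Frame

end CfsgLib.JankoFour
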