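import Cfsg.Agent.Lib.JankoFour.Embed

/-!
# Counting the involutions of `E` (owner: helper14)
-/

set_option autoImplicit false

namespace CfsgLib.JankoFour

open Cfsg CfsgLib.ThreeTrans

variable {G : Type*} [Group G] [Finite G]

theorem card_sq_z {z p : G} {W : Subgroup G} (h : Plane z W p) :
    Nat.card {x : ↥W // (x : G) * x = z} ≤ 12 := by
  classical
  let g : {x : ↥W // (x : G) * x = 1} ⊕ {x : ↥W // (x : G) * x = z} → ↥W := Sum.elim Subtype.val Subtype.val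
  have hg : Function.Injective g := by
    rintro (a | a) (b | b) e
    · exact congrArg Sum.inl (Subtype.ext e)
    · exfalso
      have e' : ((a : ↥W) : G) = (b : ↥W) := congrArg Subtype.val e
      exact h.hz1 (b.2.symm.trans (e' ▸ a.2))
    · exfalso
      have e' : ((a : ↥W) : G) = (b : ↥W) := congrArg Subtype.val e
      exact h.hz1 (a.2.symm.trans (e'.symm ▸ b.2))
    · exact congrArg Sum.inr (Subtype.ext e)
  have := Nat.card_le_card_of_injective g hg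
  rw [Nat.card_sum, h.count_inv, h.hcard] at this
  omega

namespace Frame

variable {S : Setting G} (F : Frame S)
include F

theorem inv_count : Nat.card {x : G // x ∈ S.E ∧ x * x = 1 ∧ x ≠ 1 ∧ x ≠ S.z} ≤ 4158 := by
  classical
  have hzc : Nat.card (Subgroup.zpowers S.z) = 2 := by rw [Nat.card_zpowers, S.orderOf_z]
  let Inv := {x : G // x ∈ S.E ∧ x * x = 1}
  let A : ℕ → Type _ := fun i => {x : ↥(F.W i) // (x : G) * x = 1}
  let B : ℕ → Type _ := fun i => {x : ↥(F.W i) // (x : G) * x = S.z}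
  have hz : ∀ i, ∀ c ∈ Subgroup.zpowers S.z, c ∈ F.W i := fun i c hc => Subgroup.zpowers_le.2 (F.z_mem i) hc
  choose dx hdx dy hdy dt hdt hde using fun e : ↥S.E => F.decomp e.2
  let T := {q : ↥(F.W 0) × ↥(F.W 1) × ↥(F.W 2) //
    ((q.1 : G) * q.2.1 * q.2.2) * ((q.1 : G) * q.2.1 * q.2.2) = 1}
  have hsq : ∀ {x y u : G}, x ∈ F.W 0 → y ∈ F.W 1 → u ∈ F.W 2 →
      (x * y * u) * (x * y * u) = (x * x) * (y * y) * (u * u) := by
    intro x y u hx hy hu
    calc (x * y * u) * (x * y * u) = x * ((y * u) * x) * y * u := by group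
      _ = x * (x * (y * u)) * y * u := by
          rw [((F.commute_W (by decide) hx hy).mul_right (F.commute_W (by decide) hx hu)).eq]
      _ = x * x * y * (u * y) * u := by group
      _ = x * x * y * (y * u) * u := by rw [(F.commute_W (i := 1) (j := 2) (by decide) hy hu).eq]
      _ = _ := by group
  have hprod : ∀ (q : Inv × ↥(Subgroup.zpowers S.z) × ↥(Subgroup.zpowers S.z)),
      dx ⟨q.1.1, q.1.2.1⟩ * q.2.1 * (dy ⟨q.1.1, q.1.2.1⟩ * q.2.2) *
        (dt ⟨q.1.1, q.1.2.1⟩ * (q.2.1 : G)⁻¹ * (q.2.2 : G)⁻¹) = q.1.1 := by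
    intro q
    set e : ↥S.E := ⟨q.1.1, q.1.2.1⟩
    have ky : ∀ {c : G}, c ∈ Subgroup.zpowers S.z → ∀ {w : G}, w ∈ S.E → Commute w c := fun {c} hc {w} hw =>
      commute_z_zpowers (S.hE.commute_z hw) hc
    set x := dx e
    set y := dy e
    set t := dt e
    have hy := (S.mem_fixE.1 (hdy e)).1
    have ht := (S.mem_fixE.1 (hdt e)).1
    have c12 : Commute (q.2.1 : G) q.2.2 := ky q.2.2.2 (S.mem_E_of_zpowers q.2.1.2)
    calc x * q.2.1 * (y * q.2.2) * (t * (q.2.1 : G)⁻¹ * (q.2.2 : G)⁻¹)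
        = x * (q.2.1 * y) * (q.2.2 * t) * (q.2.1 : G)⁻¹ * (q.2.2 : G)⁻¹ := by group
      _ = x * (y * q.2.1) * (t * q.2.2) * (q.2.1 : G)⁻¹ * (q.2.2 : G)⁻¹ := by
          rw [(ky q.2.1.2 hy).eq, (ky q.2.2.2 ht).eq]
      _ = x * y * (q.2.1 * t) * (q.2.2 * (q.2.1 : G)⁻¹) * (q.2.2 : G)⁻¹ := by group
      _ = x * y * (t * q.2.1) * ((q.2.1 : G)⁻¹ * q.2.2) * (q.2.2 : G)⁻¹ := by
          rw [(ky q.2.1.2 ht).eq, c12.symm.inv_right.eq]
      _ = x * y * t := by group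
      _ = q.1.1 := (hde e).symm
  let Φ : Inv × ↥(Subgroup.zpowers S.z) × ↥(Subgroup.zpowers S.z) → T := fun q =>
    ⟨(⟨dx ⟨q.1.1, q.1.2.1⟩ * q.2.1, mul_mem (hdx _) (hz 0 _ q.2.1.2)⟩,
      ⟨dy ⟨q.1.1, q.1.2.1⟩ * q.2.2, mul_mem (hdy _) (hz 1 _ q.2.2.2)⟩,
      ⟨dt ⟨q.1.1, q.1.2.1⟩ * (q.2.1 : G)⁻¹ * (q.2.2 : G)⁻¹,
        mul_mem (mul_mem (hdt _) (inv_mem (hz 2 _ q.2.1.2))) (inv_mem (hz 2 _ q.2.2.2))⟩), by
      rw [hprod q]; exact q.1.2.2⟩
  have hΦ : Function.Injective Φ := by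
    intro q r e
    have e1 : q.1 = r.1 := Subtype.ext (by
      rw [← hprod q, ← hprod r]
      exact congrArg (fun t : T => ((t.1.1 : G) * t.1.2.1 * t.1.2.2)) e)
    obtain ⟨q1, c, d⟩ := q
    obtain ⟨r1, c', d'⟩ := r
    obtain rfl : q1 = r1 := e1
    have ec : (c : G) = c' := mul_left_cancel (congrArg (fun t : T => (t.1.1 : G)) e)
    have ed : (d : G) = d' := mul_left_cancel (congrArg (fun t : T => (t.1.2.1 : G)) e)
    rw [Subtype.ext ec, Subtype.ext ed]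
  have hor : ∀ i (x : ↥(F.W i)), (x : G) * x = 1 ∨ (x : G) * x = S.z := fun i x => (F.plane i).hsq x x.2
  let Ψ : T → (A 0 × A 1 × A 2) ⊕ (A 0 × B 1 × B 2) ⊕ (B 0 × A 1 × B 2) ⊕ (B 0 × B 1 × A 2) := fun q =>
    have h := (hsq q.1.1.2 q.1.2.1.2 q.1.2.2.2).symm.trans q.2
    if hx : (q.1.1 : G) * q.1.1 = 1 then
      if hy : (q.1.2.1 : G) * q.1.2.1 = 1 then
        Sum.inl (⟨q.1.1, hx⟩, ⟨q.1.2.1, hy⟩, ⟨q.1.2.2, by rwa [hx, hy, one_mul, one_mul] at h⟩)
      else Sum.inr (Sum.inl (⟨q.1.1, hx⟩, ⟨q.1.2.1, (hor 1 _).resolve_left hy⟩, ⟨q.1.2.2, by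
        rw [hx, (hor 1 _).resolve_left hy, one_mul] at h
        exact (eq_inv_of_mul_eq_one_right h).trans S.hE.inv_z⟩))
    else
      if hy : (q.1.2.1 : G) * q.1.2.1 = 1 then
        Sum.inr (Sum.inr (Sum.inl (⟨q.1.1, (hor 0 _).resolve_left hx⟩, ⟨q.1.2.1, hy⟩, ⟨q.1.2.2, by
          rw [(hor 0 _).resolve_left hx, hy, mul_one] at h
          exact (eq_inv_of_mul_eq_one_right h).trans S.hE.inv_z⟩)))
      else Sum.inr (Sum.inr (Sum.inr (⟨q.1.1, (hor 0 _).resolve_left hx⟩,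
        ⟨q.1.2.1, (hor 1 _).resolve_left hy⟩, ⟨q.1.2.2, by
          rwa [(hor 0 _).resolve_left hx, (hor 1 _).resolve_left hy, S.hE.mul_self_z, one_mul] at h⟩)))
  have hΨ : Function.Injective Ψ := by
    intro q r e
    simp only [Ψ] at e
    split_ifs at e <;> simp only [Sum.inl.injEq, Sum.inr.injEq, Prod.mk.injEq, Subtype.mk.injEq, reduceCtorEq] at e <;>
      exact Subtype.ext (Prod.ext (congrArg Subtype.val e.1 :) (Prod.ext (congrArg Subtype.val e.2.1 :) (congrArg Subtype.val e.2.2 :)))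
  have h1 := Nat.card_le_card_of_injective Φ hΦ
  haveI : Finite (A 0) := Subtype.finite
  haveI : Finite (A 1) := Subtype.finite
  haveI : Finite (A 2) := Subtype.finite
  haveI : Finite (B 0) := Subtype.finite
  haveI : Finite (B 1) := Subtype.finite
  haveI : Finite (B 2) := Subtype.finite
  have h2 := Nat.card_le_card_of_injective Ψ hΨ
  have a0 : Nat.card (A 0) = 20 := (F.plane 0).count_inv
  have a1 : Nat.card (A 1) = 20 := (F.plane 1).count_inv
  have a2 : Nat.card (A 2) = 20 := (F.plane 2).count_inv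
  have b0 : Nat.card (B 0) ≤ 12 := card_sq_z (F.plane 0)
  have b1 : Nat.card (B 1) ≤ 12 := card_sq_z (F.plane 1)
  have b2 : Nat.card (B 2) ≤ 12 := card_sq_z (F.plane 2)
  rw [Nat.card_prod, Nat.card_prod, hzc] at h1
  simp only [Nat.card_sum, Nat.card_prod, a0, a1, a2] at h2
  have hI : Nat.card Inv ≤ 4160 := by
    have q1 := Nat.mul_le_mul b1 b2
    have q2 := Nat.mul_le_mul b0 b2
    have q3 := Nat.mul_le_mul b0 b1
    nlinarith
  let Θ : {x : G // x ∈ S.E ∧ x * x = 1 ∧ x ≠ 1 ∧ x ≠ S.z} ⊕ Bool → Inv :=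
    Sum.elim (fun x => ⟨x.1, x.2.1, x.2.2.1⟩)
      (fun b => cond b ⟨1, one_mem _, one_mul 1⟩ ⟨S.z, S.hE.z_mem, S.hE.mul_self_z⟩)
  have hΘ : Function.Injective Θ := by
    rintro (x | x) (y | y) e
    · exact congrArg Sum.inl (Subtype.ext (congrArg Subtype.val e :))
    · exfalso; cases y
      exacts [x.2.2.2.2 (congrArg Subtype.val e :), x.2.2.2.1 (congrArg Subtype.val e :)]
    · exfalso; cases x
      exacts [y.2.2.2.2 (congrArg Subtype.val e :).symm, y.2.2.2.1 (congrArg Subtype.val e :).symm]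
    · cases x <;> cases y
      · rfl
      · exact absurd (congrArg Subtype.val e :) S.hE.z_ne_one
      · exact absurd (congrArg Subtype.val e :).symm S.hE.z_ne_one
      · rfl
  have h3 := Nat.card_le_card_of_injective Θ hΘ
  rw [Nat.card_sum, show Nat.card Bool = 2 by simp] at h3
  omega

end Frame

end CfsgLib.JankoFour
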