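import Cfsg.Agent.Lib.JankoFour.WeakOuter
import Cfsg.Agent.Lib.JankoFour.PairCount
import Cfsg.Agent.Lib.ThreeTrans.LargePair
import Mathlib.GroupTheory.GroupAction.Quotient

/-!
# A conjugate of `z` in the plane of `a` (owner: helper14)
-/

set_option autoImplicit false

namespace CfsgLib.JankoFour

open Cfsg CfsgLib.ThreeTrans
open CfsgLib.JankoFour.M22 (Grp)

variable {G : Type*} [Group G] [Finite G]

/-- An element of odd prime order acting on a group of order 16 fixes a non-trivial element. -/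
theorem fixed_of_sixteen {K : Type*} [Group K] [Finite K] {N : Subgroup K} (hN : Nat.card N = 16) {x : K}
    (hx : orderOf x = 7 ∨ orderOf x = 11) (hn : ∀ n ∈ N, ∀ u ∈ Subgroup.zpowers x, u * n * u⁻¹ ∈ N) :
    ∃ n ∈ N, n ≠ 1 ∧ Commute x n := by
  classical
  set X := Subgroup.zpowers x with hX
  letI : MulAction X N :=
    { smul := fun u n => ⟨u * n * (u : K)⁻¹, hn n n.2 u u.2⟩
      one_smul := fun n => Subtype.ext (show ((1 : X) : K) * n * ((1 : X) : K)⁻¹ = n by simp)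
      mul_smul := fun u v n => Subtype.ext (show ((u * v : X) : K) * n * ((u * v : X) : K)⁻¹ = u * (v * n * (v : K)⁻¹) * (u : K)⁻¹ by
        push_cast; group) }
  have key : ∀ q : ℕ, q.Prime → orderOf x = q → 2 ≤ 16 % q → ∃ n ∈ N, n ≠ 1 ∧ Commute x n := by
    intro q hq hxq h16
    haveI := Fact.mk hq
    have hp : IsPGroup q X := IsPGroup.of_card (n := 1) (by rw [Nat.card_zpowers, hxq, pow_one])
    have hm := hp.card_modEq_card_fixedPoints N
    rw [hN, Nat.ModEq] at hm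
    have h2 : 2 ≤ Nat.card (MulAction.fixedPoints X N) := by
      have := Nat.mod_le (Nat.card (MulAction.fixedPoints X N)) q
      omega
    by_contra hno
    simp only [not_exists, not_and] at hno
    have h1 : Nat.card (MulAction.fixedPoints X N) ≤ 1 := by
      refine Finite.card_le_one_iff_subsingleton.2 ⟨fun m n => ?_⟩
      have : ∀ r : MulAction.fixedPoints X N, ((r : N) : K) = 1 := fun r => by
        by_contra hr
        refine hno _ (r : N).2 hr (mul_inv_eq_iff_eq_mul.1 ?_)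
        exact congrArg Subtype.val (r.2 ⟨x, Subgroup.mem_zpowers x⟩)
      exact Subtype.ext (Subtype.ext ((this m).trans (this n).symm))
    omega
  rcases hx with h | h
  exacts [key 7 (by norm_num) h (by norm_num), key 11 (by norm_num) h (by norm_num)]

namespace Frame

variable {S : Setting G} (F : Frame S)
include F

/-- The inner image of the centralizer in the other large subgroup: elementary abelian of order 16. -/
theorem inner_image {g : G} (he : g * S.z * g⁻¹ ∈ S.E) (hne : g * S.z * g⁻¹ ≠ S.z) :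
    g⁻¹ * S.z * g ∈ S.E ∧ ∃ N : Subgroup Grp, Nat.card N = 16 ∧ (∀ n ∈ N, n * n = 1) ∧
      (∀ a ∈ N, ∀ b ∈ N, a * b = b * a) ∧
      (∀ n ∈ N, ∃ x ∈ S.E, Commute x (g⁻¹ * S.z * g) ∧ g * x * g⁻¹ ∈ S.H0 ∧ S.f (g * x * g⁻¹) = n) ∧
      (∀ x ∈ S.E, Commute x (g⁻¹ * S.z * g) → g * x * g⁻¹ ∈ S.H0 → S.f (g * x * g⁻¹) ∈ N) ∧
      ∃ x ∈ S.E, Commute x (g⁻¹ * S.z * g) ∧ g * x * g⁻¹ ∉ S.H0 := by
  classical
  haveI : Fact (Nat.Prime 2) := ⟨Nat.prime_two⟩
  set e := g * S.z * g⁻¹ with hedef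
  have he2 : e * e = 1 := conj_sq S.hE.mul_self_z
  have he1 : e ≠ 1 := fun r => S.hE.z_ne_one (conj_eq_one_iff.1 r)
  have hez : e ∉ Subgroup.zpowers S.z := fun h => by
    rcases S.hE.eq_or h with r | r
    exacts [he1 r, hne r]
  have hcez : Commute e S.z := S.hE.commute_z he
  set z' := g⁻¹ * S.z * g with hz'
  have hz'E : z' ∈ S.E := by
    obtain ⟨y, hy, hyz⟩ := S.hE.mem_conj (by rw [S.hcard]; norm_num) he
    rw [hz', show S.z = g * y * g⁻¹ from hyz.symm]
    rwa [show g⁻¹ * (g * y * g⁻¹) * g = y by group]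
  have back : ∀ {x}, x ∈ S.E → Commute x z' → Commute (g * x * g⁻¹) S.z := fun {x} _ hxz => by
    have := (LargeData.commute_conj_iff' (g := g)).2 hxz
    rwa [show g * z' * g⁻¹ = S.z by rw [hz']; group] at this
  -- the common part
  let D : Subgroup G :=
    { carrier := {d | d ∈ S.E ∧ g * d * g⁻¹ ∈ S.E}
      one_mem' := ⟨one_mem _, by simp⟩
      mul_mem' := fun {a b} ha hb => ⟨mul_mem ha.1 hb.1, by
        rw [show g * (a * b) * g⁻¹ = (g * a * g⁻¹) * (g * b * g⁻¹) by group]; exact mul_mem ha.2 hb.2⟩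
      inv_mem' := fun {a} ha => ⟨inv_mem ha.1, by
        rw [show g * a⁻¹ * g⁻¹ = (g * a * g⁻¹)⁻¹ by group]; exact inv_mem ha.2⟩ }
  have hDab : ∀ a ∈ D, ∀ b ∈ D, Commute a b := by
    intro a ha b hb
    rcases S.hE.conj_eq_or ha.1 hb.1 with r | r
    · exact mul_inv_eq_iff_eq_mul.1 r
    · exfalso
      have h1 := S.hE.comm_mem ha.2 hb.2
      rw [show g * a * g⁻¹ * (g * b * g⁻¹) * (g * a * g⁻¹)⁻¹ * (g * b * g⁻¹)⁻¹ = g * (a * b * a⁻¹ * b⁻¹) * g⁻¹ by
        group, r, mul_inv_cancel_right] at h1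
      exact hez h1
  have hD128 : Nat.card D ≤ 128 := by
    have hzD : S.z ∈ D := ⟨S.hE.z_mem, he⟩
    have hA : Subgroup.center S.E ≤ D.subgroupOf S.E := fun c hc => by
      rw [Subgroup.mem_subgroupOf]
      exact Subgroup.zpowers_le.2 hzD ((S.hE.center_mem_iff c).1 hc)
    have h := CfsgLib.PGroups.IsExtraspecial.card_centralizer_mul_card S.hE.hE hA
    have hle : Nat.card (D.subgroupOf S.E) ≤ Nat.card (Subgroup.centralizer (D.subgroupOf S.E : Set ↥S.E)) := by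
      refine Subgroup.card_le_of_le fun c hc => ?_
      rw [Subgroup.mem_centralizer_iff]
      intro d hd
      exact Subtype.ext (hDab _ (Subgroup.mem_subgroupOf.1 hd) _ (Subgroup.mem_subgroupOf.1 hc)).eq
    rw [Nat.card_congr (Subgroup.subgroupOfEquivOfLe (fun d hd => (hd : d ∈ S.E ∧ _).1 : D ≤ S.E)).toEquiv] at h hle
    rw [S.hcard] at h
    obtain ⟨k, -, hk⟩ := (Nat.dvd_prime_pow Nat.prime_two).1 (S.hcard ▸ Subgroup.card_dvd_of_le
      (fun d hd => (hd : d ∈ S.E ∧ _).1 : D ≤ S.E))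
    rw [hk] at h hle ⊢
    have hsq : 2 ^ k * 2 ^ k ≤ 2 ^ 14 := by nlinarith
    rw [← pow_add] at hsq
    have := (Nat.pow_le_pow_iff_right (by norm_num : 1 < 2)).1 hsq
    calc 2 ^ k ≤ 2 ^ 7 := Nat.pow_le_pow_right (by norm_num) (by omega)
      _ = 128 := by norm_num
  -- the inner part of the centralizer of `z'` in `E`
  set X := S.E ⊓ Subgroup.centralizer ({z'} : Set G) with hX
  have hXm : ∀ {x}, x ∈ X ↔ x ∈ S.E ∧ Commute x z' := fun {x} => by
    rw [hX, Subgroup.mem_inf, mem_centralizer_singleton_iff']; rfl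
  have hXcard : Nat.card S.E ≤ 2 * Nat.card X := by
    by_cases hall : ∀ x ∈ S.E, Commute x z'
    · have := Subgroup.card_le_of_le (show S.E ≤ X from fun x hx => hXm.2 ⟨hx, hall x hx⟩)
      omega
    simp only [not_forall] at hall
    obtain ⟨q, hq, hqz⟩ := hall
    let F' : ↥S.E → ↥X ⊕ ↥X := fun x =>
      if h : Commute (x : G) z' then Sum.inl ⟨x, hXm.2 ⟨x.2, h⟩⟩
      else Sum.inr ⟨q⁻¹ * x, hXm.2 ⟨mul_mem (inv_mem hq) x.2, by
        have e1 := (S.hE.conj_eq_or x.2 hz'E).resolve_left fun r => h (mul_inv_eq_iff_eq_mul.1 r)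
        have e2 := (S.hE.conj_eq_or hq hz'E).resolve_left fun r => hqz (mul_inv_eq_iff_eq_mul.1 r)
        refine mul_inv_eq_iff_eq_mul.1 ?_
        calc q⁻¹ * (x : G) * z' * (q⁻¹ * x)⁻¹ = q⁻¹ * ((x : G) * z' * (x : G)⁻¹) * q := by group
          _ = z' := by rw [e1, ← e2]; group⟩⟩
    have hF' : Function.Injective F' := fun a b r => by
      simp only [F'] at r
      split_ifs at r
      · simpa using r
      · simpa using r
    have := Nat.card_le_card_of_injective F' hF'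
    rw [Nat.card_sum] at this
    omega
  let X0 : Subgroup G :=
    { carrier := {x | x ∈ X ∧ g * x * g⁻¹ ∈ S.H0}
      one_mem' := ⟨one_mem _, by simp⟩
      mul_mem' := fun {a b} ha hb => ⟨mul_mem ha.1 hb.1, by
        rw [show g * (a * b) * g⁻¹ = (g * a * g⁻¹) * (g * b * g⁻¹) by group]; exact mul_mem ha.2 hb.2⟩
      inv_mem' := fun {a} ha => ⟨inv_mem ha.1, by
        rw [show g * a⁻¹ * g⁻¹ = (g * a * g⁻¹)⁻¹ by group]; exact inv_mem ha.2⟩ }
  have hX0 : X0 ≤ X := fun _ hx => hx.1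
  have hX0card : Nat.card X ≤ 2 * Nat.card X0 := by
    obtain ⟨L0, h1, h2, h3⟩ := S.inner_part (g := g⁻¹) (L := X) fun x hx => by
      rw [inv_inv, ← hz']; exact (hXm.1 hx).2
    have := Subgroup.card_le_of_le (show L0 ≤ X0 from fun x hx => ⟨h1 hx, by
      have := h3 x hx; rwa [inv_inv] at this⟩)
    omega
  have hin : ∀ {x}, x ∈ X0 → g * x * g⁻¹ ∈ S.H0 := fun hx => hx.2
  let φ : ↥X0 →* Grp := MonoidHom.mk' (fun x => S.f (g * x * g⁻¹)) fun a b => by
    rw [← S.f_mul (hin a.2) (hin b.2)]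
    exact congrArg S.f (show g * ((↑(a * b) : G)) * g⁻¹ = _ by push_cast; group)
  have hgz : ∀ c ∈ Subgroup.zpowers S.z, g * c * g⁻¹ ∈ S.E := by
    intro c hc
    rcases S.hE.eq_or hc with rfl | rfl
    · simp
    · exact he
  have hsq : ∀ x : ↥X0, φ x * φ x = 1 := fun x => by
    obtain ⟨h1, -⟩ := hXm.1 (hX0 x.2)
    rw [← map_mul]
    show S.f (g * ((x : G) * x) * g⁻¹) = 1
    have hm := hgz _ (S.hE.sq_mem h1)
    exact (S.f_eq_one_iff (S.hEH0 hm)).2 (Subgroup.mem_sup_left hm)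
  have hker : ∀ x : ↥X0, φ x = 1 → (x : G) ∈ D := fun x hx => by
    obtain ⟨h1, -⟩ := hXm.1 (hX0 x.2)
    refine ⟨h1, S.two_mem_E ((S.f_eq_one_iff (hin x.2)).1 hx) (n := 2) ?_⟩
    rw [conj_pow, show (2 : ℕ) ^ 2 = 2 * 2 from rfl, pow_mul, pow_two (x : G)]
    rcases S.hE.eq_or (S.hE.sq_mem h1) with r | r <;> rw [r]
    · simp
    · rw [pow_two, S.hE.mul_self_z]; simp
  have hab : ∀ a ∈ φ.range, ∀ b ∈ φ.range, a * b = b * a := by
    rintro _ ⟨a, rfl⟩ _ ⟨b, rfl⟩
    rw [← mul_inv_eq_one, mul_inv_rev, ← mul_assoc, ← map_inv, ← map_inv, ← map_mul, ← map_mul, ← map_mul]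
    have hm := hgz _ (S.hE.comm_mem (hXm.1 (hX0 a.2)).1 (hXm.1 (hX0 b.2)).1)
    exact (S.f_eq_one_iff (S.hEH0 hm)).2 (Subgroup.mem_sup_left hm)
  have hr16 : Nat.card φ.range ≤ 16 := M22.elementary_le_sixteen hab (by rintro _ ⟨a, rfl⟩; exact hsq a)
  have hk128 : Nat.card φ.ker ≤ 128 := by
    refine le_trans ?_ hD128
    exact Nat.card_le_card_of_injective (fun x : φ.ker => (⟨((x : ↥X0) : G), hker _ (MonoidHom.mem_ker.1 x.2)⟩ : ↥D))
      fun a b r => Subtype.ext (Subtype.ext (congrArg Subtype.val r :))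
  have hN : Nat.card φ.range = 16 := by
    have := φ.ker.card_mul_index
    rw [Subgroup.index_ker] at this
    rw [S.hcard] at hXcard
    nlinarith
  refine ⟨hz'E, φ.range, hN, by rintro _ ⟨x, rfl⟩; exact hsq x, hab, ?_,
    fun x hx hc h0 => ⟨⟨x, hXm.2 ⟨hx, hc⟩, h0⟩, rfl⟩, ?_⟩
  · rintro _ ⟨x, rfl⟩
    exact ⟨x, (hXm.1 (hX0 x.2)).1, (hXm.1 (hX0 x.2)).2, hin x.2, rfl⟩
  by_contra hall
  simp only [not_exists, not_and, not_not] at hall
  have h1 := Subgroup.card_le_of_le (show X ≤ X0 from fun x hx => ⟨hx, hall x (hXm.1 hx).1 (hXm.1 hx).2⟩)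
  have h2 := φ.ker.card_mul_index
  rw [Subgroup.index_ker, hN] at h2
  rw [S.hcard] at hXcard
  omega

/-- A conjugate of `z` in `E` is centralized by a conjugate of `a`. -/
theorem exists_three {g : G} (he : g * S.z * g⁻¹ ∈ S.E) (hne : g * S.z * g⁻¹ ≠ S.z) :
    ∃ x, Commute x S.z ∧ Commute x (g * S.z * g⁻¹) ∧ x ^ 3 = 1 ∧ x ∉ S.E ⊔ S.P := by
  classical
  haveI : Fact (Nat.Prime 2) := ⟨Nat.prime_two⟩
  obtain ⟨hz'E, N, hN, hNsq, -, hNx, hNmem, -⟩ := F.inner_image he hne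
  set e := g * S.z * g⁻¹ with hedef
  have he2 : e * e = 1 := conj_sq S.hE.mul_self_z
  have he1 : e ≠ 1 := fun r => S.hE.z_ne_one (conj_eq_one_iff.1 r)
  have hez : e ∉ Subgroup.zpowers S.z := fun h => by
    rcases S.hE.eq_or h with r | r
    exacts [he1 r, hne r]
  have hcez : Commute e S.z := S.hE.commute_z he
  set z' := g⁻¹ * S.z * g with hz'
  -- the stabilizer
  let T : Subgroup ↥S.H0 := (Subgroup.centralizer ({e} : Set G)).subgroupOf S.H0
  have hTm : ∀ {s : ↥S.H0}, s ∈ T ↔ Commute (s : G) e := fun {s} => by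
    rw [Subgroup.mem_subgroupOf, mem_centralizer_singleton_iff']; rfl
  let ψ : ↥T →* Grp := S.φ.comp T.subtype
  have hψ : ∀ s : ↥T, ψ s = S.f ((s : ↥S.H0) : G) := fun s => (S.f_eq (s : ↥S.H0).2).symm
  have hnorm : ∀ n ∈ N, ∀ σ ∈ ψ.range, σ * n * σ⁻¹ ∈ N := by
    rintro n hn _ ⟨s, rfl⟩
    obtain ⟨x, hx, hxz, hx0, rfl⟩ := hNx n hn
    set s0 : G := ((s : ↥S.H0) : G)
    have hs0 : s0 ∈ S.H0 := (s : ↥S.H0).2
    have hsz : Commute s0 S.z := mem_centralizer_singleton_iff'.1 (S.hH0 hs0)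
    have hbz : Commute (g⁻¹ * s0 * g) S.z := S.back_z (hTm.1 s.2)
    have hbz' : Commute (g⁻¹ * s0 * g) z' := by
      have := (LargeData.commute_conj_iff' (g := g⁻¹)).2 hsz
      rwa [inv_inv] at this
    have e1 : g * (g⁻¹ * s0 * g * x * (g⁻¹ * s0 * g)⁻¹) * g⁻¹ = s0 * (g * x * g⁻¹) * s0⁻¹ := by group
    have := hNmem _ (S.hE.conj_mem hbz hx) ((hbz'.mul_left hxz).mul_left hbz'.inv_left)
      (by rw [e1]; exact mul_mem (mul_mem hs0 hx0) (inv_mem hs0))
    rw [e1, S.f_conj hs0 hx0] at this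
    rw [hψ]; exact this
  have hnot : ∀ σ ∈ ψ.range, orderOf σ ≠ 7 ∧ orderOf σ ≠ 11 := by
    intro σ hσ
    refine not_or.1 fun h => ?_
    obtain ⟨n, hn, hn1, hc⟩ := fixed_of_sixteen hN h fun n hn u hu =>
      hnorm n hn u (Subgroup.zpowers_le.2 hσ hu)
    exact M22.not_commute_seven_eleven h (orderOf_eq_prime (by rw [pow_two]; exact hNsq n hn) hn1) hc
  by_cases h3 : 3 ∣ Nat.card ψ.range
  · haveI : Fact (Nat.Prime 3) := ⟨Nat.prime_three⟩
    obtain ⟨σ, hσ⟩ := exists_prime_orderOf_dvd_card' (G := ψ.range) 3 h3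
    obtain ⟨s, hs⟩ := σ.2
    rw [← Subgroup.orderOf_coe, ← hs, hψ] at hσ
    set s0 : G := ((s : ↥S.H0) : G)
    have hs0 : s0 ∈ S.H0 := (s : ↥S.H0).2
    have hsz : Commute s0 S.z := mem_centralizer_singleton_iff'.1 (S.hH0 hs0)
    obtain ⟨k, m, hm, hord⟩ := Nat.exists_eq_pow_mul_and_not_dvd (orderOf_pos s0).ne' 3 (by norm_num)
    have hs3 : (s0 ^ m) ^ 3 = 1 := F.three_exp (hsz.pow_left m) (n := k) (by
      rw [← pow_mul, mul_comm, ← hord, pow_orderOf_eq_one])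
    refine ⟨s0 ^ m, hsz.pow_left m, (hTm.1 s.2).pow_left m, hs3, fun hEP => hm ?_⟩
    have := (S.f_eq_one_iff (pow_mem hs0 m)).2 hEP
    rw [S.f_pow hs0] at this
    rw [← hσ]
    exact orderOf_dvd_of_pow_eq_one this
  · exfalso
    haveI : Fact (Nat.Prime 7) := ⟨by norm_num⟩
    haveI : Fact (Nat.Prime 11) := ⟨by norm_num⟩
    have h7 : ¬ 7 ∣ Nat.card ψ.range := fun h => by
      obtain ⟨σ, hσ⟩ := exists_prime_orderOf_dvd_card' (G := ψ.range) 7 h
      exact (hnot _ σ.2).1 (by rw [Subgroup.orderOf_coe]; exact hσ)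
    have h11 : ¬ 11 ∣ Nat.card ψ.range := fun h => by
      obtain ⟨σ, hσ⟩ := exists_prime_orderOf_dvd_card' (G := ψ.range) 11 h
      exact (hnot _ σ.2).2 (by rw [Subgroup.orderOf_coe]; exact hσ)
    have hdvd : Nat.card ψ.range ∣ 640 := by
      have h := ψ.range.card_subgroup_dvd_card
      rw [show Nat.card Grp = 640 * (3 ^ 2 * (7 * 11)) from CfsgLib.Sporadic.card_sporM22.trans (by norm_num)] at h
      refine Nat.Coprime.dvd_of_dvd_mul_right ?_ h
      refine Nat.Coprime.mul_right (Nat.Coprime.pow_right _ ?_) (Nat.Coprime.mul_right ?_ ?_)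
      · exact ((Nat.Prime.coprime_iff_not_dvd Nat.prime_three).2 h3).symm
      · exact ((Nat.Prime.coprime_iff_not_dvd (by norm_num)).2 h7).symm
      · exact ((Nat.Prime.coprime_iff_not_dvd (by norm_num)).2 h11).symm
    -- the kernel lies in the centralizer of `e` in `E`
    have hkerE : ∀ s : ↥T, ψ s = 1 → ((s : ↥S.H0) : G) ∈ S.E ∧ Commute ((s : ↥S.H0) : G) e := by
      intro s hs
      refine ⟨?_, hTm.1 s.2⟩
      rw [hψ] at hs
      obtain ⟨q, hq, d, hd, hqd⟩ := S.mem_EP.1 ((S.f_eq_one_iff (s : ↥S.H0).2).1 hs)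
      have hc : Commute (q * d) e := hqd ▸ hTm.1 s.2
      by_cases hq1 : q = 1
      · rw [hqd, hq1, one_mul]; exact hd
      exfalso
      rcases S.hE.conj_eq_or hd he with r | r
      · have hqe : Commute q e := by
          have := hc.mul_left (show Commute d e from mul_inv_eq_iff_eq_mul.1 r).inv_left
          rwa [mul_inv_cancel_right] at this
        refine hez ?_
        rw [← S.hCP]
        refine ⟨he, Subgroup.mem_centralizer_iff.2 fun p hp => ?_⟩
        exact ((S.mem_C.1 (S.mem_C_of_comm hcez hq hq1 hqe.symm)).2 p hp).eq.symm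
      · have hq3 : q ^ 3 = 1 := S.P_pow_three hq
        have r1 : q * (S.z * e) * q⁻¹ = e := by
          rw [← r, show q * (d * e * d⁻¹) * q⁻¹ = q * d * e * (q * d)⁻¹ by group, hc.eq, mul_inv_cancel_right]
        have hqz : q * S.z * q⁻¹ = S.z := by rw [(S.P_commute_z hq).eq, mul_inv_cancel_right]
        have r2 : q * e * q⁻¹ = S.z * e := by
          rw [show q * (S.z * e) * q⁻¹ = (q * S.z * q⁻¹) * (q * e * q⁻¹) by group, hqz] at r1
          conv_rhs => rw [← r1]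
          rw [← mul_assoc S.z S.z, S.hE.mul_self_z, one_mul]
        have r3 : q ^ 3 * e * (q ^ 3)⁻¹ = S.z * e := by
          rw [show q ^ 3 * e * (q ^ 3)⁻¹ = q * (q * (q * e * q⁻¹) * q⁻¹) * q⁻¹ by simp [pow_succ, mul_assoc], r2, r1, r2]
        rw [hq3, one_mul, inv_one, mul_one, right_eq_mul] at r3
        exact S.hE.z_ne_one r3
    have hkc : Nat.card ψ.ker ≤ 4096 := by
      let Ce : Subgroup G := S.E ⊓ Subgroup.centralizer ({e} : Set G)
      have hlt : Nat.card Ce < Nat.card S.E := by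
        refine lt_of_le_of_ne (Subgroup.card_le_of_le inf_le_left) fun r => hez ?_
        have hCeE : Ce = S.E := Subgroup.eq_of_le_of_card_ge inf_le_left r.ge
        rw [← S.hE.hcent, Subgroup.mem_centralizer_iff]
        intro x hx
        exact mem_centralizer_singleton_iff'.1 (hCeE.symm ▸ hx : x ∈ Ce).2
      obtain ⟨k, -, hk⟩ := (Nat.dvd_prime_pow Nat.prime_two).1 (S.hcard ▸ Subgroup.card_dvd_of_le (inf_le_left : Ce ≤ S.E))
      rw [hk, S.hcard] at hlt
      have hk12 : k ≤ 12 := by have := (Nat.pow_lt_pow_iff_right (by norm_num : 1 < 2)).1 hlt; omega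
      calc Nat.card ψ.ker ≤ Nat.card Ce := Nat.card_le_card_of_injective
            (fun s : ψ.ker => (⟨(((s : ↥T) : ↥S.H0) : G), (hkerE _ (MonoidHom.mem_ker.1 s.2)).1,
              mem_centralizer_singleton_iff'.2 (hkerE _ (MonoidHom.mem_ker.1 s.2)).2.eq⟩ : ↥Ce))
            fun a b r => Subtype.ext (Subtype.ext (Subtype.ext (congrArg Subtype.val r :)))
        _ = 2 ^ k := hk
        _ ≤ 2 ^ 12 := Nat.pow_le_pow_right (by norm_num) hk12
        _ = 4096 := by norm_num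
    have hTcard : Nat.card T ≤ 4096 * 640 := by
      have := ψ.ker.card_mul_index
      rw [Subgroup.index_ker] at this
      rw [← this]
      exact Nat.mul_le_mul hkc (Nat.le_of_dvd (by norm_num) hdvd)
    have hH0card : Nat.card S.H0 = 3 * 2 ^ 13 * 443520 := by
      have := S.φ.ker.card_mul_index
      rw [Subgroup.index_ker, MonoidHom.range_eq_top.2 S.hφ, Subgroup.card_top,
        show Nat.card Grp = 443520 from CfsgLib.Sporadic.card_sporM22] at this
      rw [← this]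
      congr 1
      rw [← S.EP_card]
      exact Nat.card_congr
        { toFun := fun x => ⟨((x : ↥S.H0) : G), (S.hker _).1 (MonoidHom.mem_ker.1 x.2)⟩
          invFun := fun x => ⟨⟨x, S.EP_le_H0 x.2⟩, MonoidHom.mem_ker.2 ((S.hker _).2 x.2)⟩
          left_inv := fun _ => rfl
          right_inv := fun _ => rfl }
    -- the orbit
    let O := Set.range fun h : ↥S.H0 => (h : G) * e * (h : G)⁻¹
    have hsub : ∀ h : ↥S.H0, (h : G) * e * (h : G)⁻¹ ∈ S.E ∧
        (h : G) * e * (h : G)⁻¹ * ((h : G) * e * (h : G)⁻¹) = 1 ∧ (h : G) * e * (h : G)⁻¹ ≠ 1 ∧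
        (h : G) * e * (h : G)⁻¹ ≠ S.z := by
      intro h
      have hhz : Commute (h : G) S.z := mem_centralizer_singleton_iff'.1 (S.hH0 h.2)
      refine ⟨S.hE.conj_mem hhz he, by rw [conj_mul, he2]; simp, fun r => he1 (conj_eq_one_iff.1 r), fun r => hne ?_⟩
      rw [show e = (h : G)⁻¹ * ((h : G) * e * (h : G)⁻¹) * h by group, r, mul_assoc, ← hhz.eq, inv_mul_cancel_left]
    let Inv := {x : G // x ∈ S.E ∧ x * x = 1 ∧ x ≠ 1 ∧ x ≠ S.z}
    let q : ↥S.H0 ⧸ T → Inv := Quotient.lift (fun h : ↥S.H0 => (⟨_, hsub h⟩ : Inv)) fun a b hab => by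
      have hab' : a⁻¹ * b ∈ T := QuotientGroup.leftRel_apply.1 hab
      have hc := hTm.1 hab'
      push_cast at hc
      refine Subtype.ext ?_
      show (a : G) * e * (a : G)⁻¹ = (b : G) * e * (b : G)⁻¹
      calc (a : G) * e * (a : G)⁻¹ = (a : G) * ((a : G)⁻¹ * b * e * ((a : G)⁻¹ * b)⁻¹) * (a : G)⁻¹ := by
            rw [hc.eq, mul_inv_cancel_right]
        _ = _ := by group
    have hqinj : Function.Injective q := by
      intro u v
      refine Quotient.inductionOn₂ u v fun a b r => Quotient.sound ?_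
      refine QuotientGroup.leftRel_apply.2 (hTm.2 ?_)
      have r' : (a : G) * e * (a : G)⁻¹ = (b : G) * e * (b : G)⁻¹ := congrArg Subtype.val r
      push_cast
      refine mul_inv_eq_iff_eq_mul.1 ?_
      rw [show (a : G)⁻¹ * b * e * ((a : G)⁻¹ * b)⁻¹ = (a : G)⁻¹ * ((b : G) * e * (b : G)⁻¹) * a by group, ← r']
      group
    have hq1 : 4158 ≤ Nat.card (↥S.H0 ⧸ T) := by
      have := Subgroup.card_eq_card_quotient_mul_card_subgroup T
      rw [hH0card] at this
      nlinarith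
    have hqsurj : Function.Surjective q := by
      have h1 : Nat.card Inv ≤ Nat.card (↥S.H0 ⧸ T) := F.inv_count.trans hq1
      exact (Nat.bijective_iff_injective_and_card q).2
        ⟨hqinj, le_antisymm (Nat.card_le_card_of_injective q hqinj) h1⟩ |>.2
    obtain ⟨w, hw, hw2, hw1, hwz⟩ := (F.plane 0).exists_sing
    obtain ⟨u, hu⟩ := hqsurj ⟨w, (F.mem_W0.1 hw).1, hw2, hw1, hwz⟩
    obtain ⟨h, rfl⟩ := Quotient.exists_rep u
    have hhe : (h : G) * e * (h : G)⁻¹ = w := congrArg Subtype.val hu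
    have ha0 : (h : G)⁻¹ * F.a * h ∈ S.H0 := mul_mem (mul_mem (inv_mem h.2) (S.C_le_H0 F.haC)) h.2
    have haT : (⟨_, ha0⟩ : ↥S.H0) ∈ T := hTm.2 (by
      have := (LargeData.commute_conj_iff' (g := (h : G)⁻¹)).2 (F.mem_W0.1 hw).2.symm
      rwa [inv_inv, ← hhe, show (h : G)⁻¹ * ((h : G) * e * (h : G)⁻¹) * h = e by group] at this)
    refine h3 ?_
    have ho : orderOf (ψ ⟨_, haT⟩) = 3 := by
      haveI : Fact (Nat.Prime 3) := ⟨Nat.prime_three⟩
      rw [hψ]
      show orderOf (S.f ((h : G)⁻¹ * F.a * h)) = 3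
      rw [show (h : G)⁻¹ * F.a * h = (h : G)⁻¹ * F.a * (h : G)⁻¹⁻¹ by group,
        S.f_conj (inv_mem h.2) (S.C_le_H0 F.haC)]
      refine orderOf_eq_prime ?_ fun r => F.hab (conj_eq_one_iff.1 r)
      rw [conj_pow, F.hcfg.hr]; simp
    have hm : ψ ⟨_, haT⟩ ∈ ψ.range := ⟨_, rfl⟩
    rw [← ho]
    have hd := orderOf_dvd_natCard (⟨_, hm⟩ : ψ.range)
    rwa [← Subgroup.orderOf_coe] at hd

/-- Conjugates of `z` in `E` meet the planes. -/
theorem exists_pair [IsSimpleGroup G] (hG : ¬ IsMulCommutative G) :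
    ∃ c, Commute c F.a ∧ c * S.z * c⁻¹ ∈ F.W 0 ∧ c * S.z * c⁻¹ ≠ S.z := by
  obtain ⟨g, hg, hgne⟩ : ∃ g, g * S.z * g⁻¹ ∈ S.E ∧ g * S.z * g⁻¹ ≠ S.z := by
    have := F.not_closed hG
    simpa [Setting.Closed] using this
  obtain ⟨x, hxz, hxe, hx3, hxEP⟩ := F.exists_three hg hgne
  obtain ⟨h, hh, eh⟩ := F.three_classify_H hxz hx3 hxEP
  set e := h * (g * S.z * g⁻¹) * h⁻¹ with he
  have heW : e ∈ F.W 0 := F.mem_W0.2 ⟨S.hE.conj_mem hh hg, by
    rw [he, ← eh]; exact LargeData.commute_conj_iff'.2 hxe.symm⟩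
  have he1 : e ≠ 1 := fun r => S.hE.z_ne_one (conj_eq_one_iff.1 (conj_eq_one_iff.1 r))
  have hez : e ≠ S.z := fun r => hgne (by
    rw [show g * S.z * g⁻¹ = h⁻¹ * e * h by rw [he]; group, r, mul_assoc, ← hh.eq, inv_mul_cancel_left])
  obtain ⟨f, hf, hfe⟩ : ∃ f ∈ F.W 0, ¬ Commute f e := by
    by_contra hno
    simp only [not_exists, not_and, not_not] at hno
    rcases (F.plane 0).hcenter e heW hno with r | r
    exacts [he1 r, hez r]
  have ef : f * e * f⁻¹ = S.z * e :=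
    ((F.plane 0).hcomm f hf e heW).resolve_left fun r => hfe (mul_inv_eq_iff_eq_mul.1 r)
  have ha1 : F.a ≠ 1 := fun r => F.hab (by rw [r, S.f_one])
  have ee : h * g * S.z * (h * g)⁻¹ = e := by rw [he]; group
  obtain ⟨c, hc, hca⟩ := F.move (g := h * g) (k := f) F.ha ha1 (by rw [ee]; exact (F.mem_W0.1 heW).2.symm)
    (F.mem_W0.1 hf).2
    (by rw [ee, ef]; exact ((S.hE.commute_z (F.mem_W0.1 heW).1).symm.mul_left (Commute.refl e)))
    (by rw [ee, ef]; exact fun r => S.hE.z_ne_one (mul_eq_right.1 r))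
  refine ⟨c, mul_inv_eq_iff_eq_mul.1 hca, ?_, ?_⟩ <;> rw [hc, ee]
  exacts [heW, hez]

end Frame

end CfsgLib.JankoFour
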