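import Cfsg.Agent.Lib.JankoFour.Pair

/-!
# The geometry of a conjugate of `z` in the plane of `a` (owner: helper14)

`Pr c`: `c` centralizes `a` and moves `z` to another element of the plane `W 0`. Then `c⁻¹` has the same
property, `t1` does not centralize `c z c⁻¹`, some element of the plane is mapped to an outer element and the
elements mapped into `E` are those of the line.
-/

set_option autoImplicit false

namespace CfsgLib.JankoFour

open Cfsg CfsgLib.ThreeTrans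
open CfsgLib.JankoFour.M22 (Grp)

variable {G : Type*} [Group G] [Finite G]

/-- Fixed points of an element of order three on a group of order 16, counted modulo three. -/
theorem fixed_mod_three {K : Type*} [Group K] [Finite K] {N : Subgroup K} (hN : Nat.card N = 16) {x : K}
    (hx : orderOf x = 3) (hn : ∀ n ∈ N, ∀ u ∈ Subgroup.zpowers x, u * n * u⁻¹ ∈ N) :
    Nat.card {n : ↥N // Commute x (n : K)} % 3 = 1 := by
  classical
  haveI : Fact (Nat.Prime 3) := ⟨Nat.prime_three⟩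
  set X := Subgroup.zpowers x with hX
  letI : MulAction X N :=
    { smul := fun u n => ⟨u * n * (u : K)⁻¹, hn n n.2 u u.2⟩
      one_smul := fun n => Subtype.ext (show ((1 : X) : K) * n * ((1 : X) : K)⁻¹ = n by simp)
      mul_smul := fun u v n => Subtype.ext (show ((u * v : X) : K) * n * ((u * v : X) : K)⁻¹ = u * (v * n * (v : K)⁻¹) * (u : K)⁻¹ by
        push_cast; group) }
  have hp : IsPGroup 3 X := IsPGroup.of_card (n := 1) (by rw [Nat.card_zpowers, hx, pow_one])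
  have hm := hp.card_modEq_card_fixedPoints N
  rw [hN, Nat.ModEq] at hm
  have e : Nat.card {n : ↥N // Commute x (n : K)} = Nat.card (MulAction.fixedPoints X N) := by
    refine Nat.card_congr (Equiv.subtypeEquivRight fun n => ⟨fun hc u => Subtype.ext ?_, fun hf => ?_⟩)
    · obtain ⟨k, hk⟩ := u.2
      have hk' : (u : K) = x ^ k := hk.symm
      show (u : K) * (n : K) * (u : K)⁻¹ = n
      rw [hk', (hc.zpow_left k).eq, mul_inv_cancel_right]
    · exact mul_inv_eq_iff_eq_mul.1 (congrArg Subtype.val (hf ⟨x, Subgroup.mem_zpowers x⟩) :)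
  rw [e, ← hm]

omit [Finite G] in
theorem near_mem {z p e x : G} (K : Subgroup G) (hz : z ∈ K) (he : e ∈ K) (hp : pc p e ∈ K) (hpp : pc p (pc p e) ∈ K)
    (hn : Near z p e x) : x ∈ K := by
  rcases hn with rfl | rfl | rfl | rfl | rfl | rfl
  exacts [he, mul_mem hz he, hp, mul_mem hz hp, hpp, mul_mem hz hpp]

namespace Frame

variable {S : Setting G} (F : Frame S)
include F

/-- `c` gives an adjacent conjugate of `z`. -/
def Pr (c : G) : Prop := Commute c F.a ∧ c * S.z * c⁻¹ ∈ F.W 0 ∧ c * S.z * c⁻¹ ≠ S.z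

theorem Pr.mem {c : G} (h : F.Pr c) : c * S.z * c⁻¹ ∈ S.E := (F.mem_W0.1 h.2.1).1

theorem Pr.symm {c : G} (h : F.Pr c) : F.Pr c⁻¹ := by
  obtain ⟨hz'E, -⟩ := F.inner_image (F.mem_W0.1 h.2.1).1 h.2.2
  refine ⟨h.1.inv_left, ?_, fun r => h.2.2 ?_⟩
  · rw [inv_inv]
    refine F.mem_W0.2 ⟨hz'E, ?_⟩
    have := (LargeData.commute_conj_iff' (g := c⁻¹)).2 (commute_z F.haC).symm
    rwa [inv_inv, show c⁻¹ * F.a * c = F.a by rw [mul_assoc, ← h.1.eq, inv_mul_cancel_left]] at this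
  · rw [inv_inv] at r
    conv_lhs => rw [← r]
    group

theorem conj_a {c x : G} (hc : Commute c F.a) (hx : Commute x F.a) : Commute (c * x * c⁻¹) F.a :=
  (hc.mul_left hx).mul_left hc.inv_left

theorem Pr.back {c x : G} (hx : Commute x (c⁻¹ * S.z * c)) : Commute (c * x * c⁻¹) S.z := by
  have := (LargeData.commute_conj_iff' (g := c)).2 hx
  rwa [show c * (c⁻¹ * S.z * c) * c⁻¹ = S.z by group] at this

omit F in
/-- Conjugation of a product with an element of `E` by an element of `H`. -/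
theorem f_conj_mul_E {y h d : G} (hy : Commute y S.z) (hh : h ∈ S.H0) (hd : d ∈ S.E) :
    S.f (y * (h * d) * y⁻¹) = S.f (y * h * y⁻¹) := by
  have hm := S.hE.conj_mem hy hd
  rw [show y * (h * d) * y⁻¹ = (y * h * y⁻¹) * (y * d * y⁻¹) by group, S.f_mul (S.hnorm y hy h hh) (S.hEH0 hm),
    (S.f_eq_one_iff (S.hEH0 hm)).2 (Subgroup.mem_sup_left hm), mul_one]

theorem outer_f {y q : G} (hyz : Commute y S.z) (hy0 : y ∉ S.H0) (hya : Commute y F.a) (hq : F.IsQ q)
    (h1 : S.f q ≠ 1) (h2 : S.f q ≠ S.f F.t0) : S.f (y * q * y⁻¹) = S.f q * S.f F.t0 := by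
  obtain ⟨w, hw, m, hm, hma, rfl⟩ := F.cent_a_decomp hyz hya
  have hwE := (F.mem_W0.1 hw).1
  have hw0 := S.hEH0 hwE
  have hm0 : m ∉ S.H0 := fun h' => hy0 (mul_mem hw0 h')
  have hmq : m * q * m⁻¹ ∈ S.H0 := S.C_le_H0 (S.conj_C hm hq.1)
  rw [show w * m * q * (w * m)⁻¹ = w * (m * q * m⁻¹) * w⁻¹ by group, S.f_conj hw0 hmq,
    (S.f_eq_one_iff hw0).2 (Subgroup.mem_sup_left hwE), one_mul, inv_one, mul_one]
  exact (F.outer_action hm hm0 hma).2 q hq h1 h2

theorem comm_inner_W {c : G} (hc : F.Pr c) {i : ℕ} (hi : i % 3 ≠ 0) {x : G} (hx : x ∈ F.W i) :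
    c * x * c⁻¹ ∈ S.H0 := by
  have hz'W : c⁻¹ * S.z * c ∈ F.W 0 := by
    have := hc.symm.2.1
    rwa [inv_inv] at this
  have hcom : ∀ {r}, r ∈ F.W i → Commute r (c⁻¹ * S.z * c) := fun hr =>
    F.commute_W (fun e => hi (e.trans (Nat.zero_mod 3))) hr hz'W
  obtain ⟨r, hr, k, hk, e, -⟩ := F.comm_a hi hx
  have hca : c * F.a * c⁻¹ = F.a := by rw [hc.1.eq, mul_inv_cancel_right]
  rw [e, show c * (F.a * r * F.a⁻¹ * r⁻¹ * k) * c⁻¹ =
    (c * F.a * c⁻¹) * (c * r * c⁻¹) * (c * F.a * c⁻¹)⁻¹ * (c * r * c⁻¹)⁻¹ * (c * k * c⁻¹) by group, hca]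
  refine mul_mem (S.commutator_mem (commute_z F.haC) (Pr.back (F := F) (hcom hr))) ?_
  rcases S.hE.eq_or hk with rfl | rfl
  · simp
  · exact S.hEH0 (F.mem_W0.1 hc.2.1).1

/-- Some element of the plane is sent to an outer element. -/
theorem exists_outer_W {c : G} (hc : F.Pr c) :
    ∃ x ∈ F.W 0, Commute x (c⁻¹ * S.z * c) ∧ c * x * c⁻¹ ∉ S.H0 := by
  obtain ⟨-, N, -, -, -, -, -, o, ho, hoz, ho0⟩ := F.inner_image (F.mem_W0.1 hc.2.1).1 hc.2.2
  obtain ⟨x, hx, y, hy, u, hu, rfl⟩ := F.decomp ho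
  have hz'W : c⁻¹ * S.z * c ∈ F.W 0 := by
    have := hc.symm.2.1
    rwa [inv_inv] at this
  have h12 : Commute (y * u) (c⁻¹ * S.z * c) :=
    (F.commute_W (by decide) hy hz'W).mul_left (F.commute_W (by decide) hu hz'W)
  refine ⟨x, hx, ?_, fun hx0 => ho0 ?_⟩
  · have := hoz.mul_left h12.inv_left
    rwa [show x * y * u * (y * u)⁻¹ = x by group] at this
  · rw [show c * (x * y * u) * c⁻¹ = (c * x * c⁻¹) * (c * y * c⁻¹) * (c * u * c⁻¹) by group]
    exact mul_mem (mul_mem hx0 (F.comm_inner_W hc (by decide) hy)) (F.comm_inner_W hc (by decide) hu)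

/-- An element of the plane sent to an inner element is sent into `E`. -/
theorem inner_W {c : G} (hc : F.Pr c) {x : G} (hx : x ∈ F.W 0) (hxz : Commute x (c⁻¹ * S.z * c))
    (h0 : c * x * c⁻¹ ∈ S.H0) : c * x * c⁻¹ ∈ S.E := by
  haveI : Fact (Nat.Prime 2) := ⟨Nat.prime_two⟩
  haveI : Fact (Nat.Prime 3) := ⟨Nat.prime_three⟩
  obtain ⟨-, N, hN, hNsq, hNab, hNx, hNmem, -⟩ := F.inner_image (F.mem_W0.1 hc.2.1).1 hc.2.2
  obtain ⟨x0, hx0, hx0z, hx0o⟩ := F.exists_outer_W hc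
  set l := c * x * c⁻¹ with hl
  set y := c * x0 * c⁻¹ with hy
  have hyz : Commute y S.z := Pr.back (F := F) hx0z
  have hya : Commute y F.a := F.conj_a hc.1 (F.mem_W0.1 hx0).2
  have hla : Commute l F.a := F.conj_a hc.1 (F.mem_W0.1 hx).2
  have he := (F.mem_W0.1 hc.2.1).1
  have hcz : ∀ k ∈ Subgroup.zpowers S.z, c * k * c⁻¹ ∈ S.E := by
    intro k hk
    rcases S.hE.eq_or hk with rfl | rfl
    · simp
    · exact he
  -- the outer element centralizes the image modulo `E`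
  have hyf : ∀ {x'}, x' ∈ S.E → c * x' * c⁻¹ ∈ S.H0 →
      S.f (y * (c * x' * c⁻¹) * y⁻¹) = S.f (c * x' * c⁻¹) := by
    intro x' hx'E hx'0
    have hk := hcz _ (S.hE.comm_mem (F.mem_W0.1 hx0).1 hx'E)
    rw [show y * (c * x' * c⁻¹) * y⁻¹ = (c * (x0 * x' * x0⁻¹ * x'⁻¹) * c⁻¹) * (c * x' * c⁻¹) by rw [hy]; group,
      S.f_mul (S.hEH0 hk) hx'0, (S.f_eq_one_iff (S.hEH0 hk)).2 (Subgroup.mem_sup_left hk), one_mul]
  have hxE := (F.mem_W0.1 hx).1
  have h4 : l ^ 4 = 1 := by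
    rw [hl, conj_pow, show (4 : ℕ) = 2 * 2 from rfl, pow_mul, pow_two x]
    rcases S.hE.eq_or (S.hE.sq_mem hxE) with r | r <;> rw [r]
    · simp
    · rw [pow_two, S.hE.mul_self_z]; simp
  by_cases hfl : S.f l = 1
  · exact S.two_mem_E ((S.f_eq_one_iff h0).1 hfl) (n := 2) h4
  exfalso
  have hlt := (F.image_outer' h0 hla h4 hyz hx0o hya (hyf hxE h0)).resolve_left hfl
  have hlN : S.f l ∈ N := hNmem x hxE hxz h0
  have hca : ∀ x', c * (F.a * x' * F.a⁻¹) * c⁻¹ = F.a * (c * x' * c⁻¹) * F.a⁻¹ := fun x' => by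
    rw [show c * (F.a * x' * F.a⁻¹) * c⁻¹ = (c * F.a * c⁻¹) * (c * x' * c⁻¹) * (c * F.a * c⁻¹)⁻¹ by group,
      hc.1.eq, mul_inv_cancel_right]
  have hazz : F.a * (c⁻¹ * S.z * c) * F.a⁻¹ = c⁻¹ * S.z * c := by
    rw [show F.a * (c⁻¹ * S.z * c) * F.a⁻¹ = (F.a * c⁻¹) * S.z * (F.a * c⁻¹)⁻¹ by group, hc.1.symm.inv_right.eq,
      show c⁻¹ * F.a * S.z * (c⁻¹ * F.a)⁻¹ = c⁻¹ * (F.a * S.z * F.a⁻¹) * c by group, (commute_z F.haC).eq,
      mul_inv_cancel_right]
  have hnormN : ∀ n ∈ N, ∀ u ∈ Subgroup.zpowers (S.f F.a), u * n * u⁻¹ ∈ N := by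
    have hone : ∀ n ∈ N, S.f F.a * n * (S.f F.a)⁻¹ ∈ N := by
      intro n hn
      obtain ⟨x', hx'E, hx'z, hx'0, rfl⟩ := hNx n hn
      have hz2 : Commute (F.a * x' * F.a⁻¹) (c⁻¹ * S.z * c) := by
        have := (LargeData.commute_conj_iff' (g := F.a)).2 hx'z
        rwa [hazz] at this
      have h02 : c * (F.a * x' * F.a⁻¹) * c⁻¹ ∈ S.H0 := by
        rw [hca]; exact mul_mem (mul_mem (S.C_le_H0 F.haC) hx'0) (inv_mem (S.C_le_H0 F.haC))
      have := hNmem _ (S.hE.conj_mem (commute_z F.haC) hx'E) hz2 h02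
      rwa [hca, S.f_conj (S.C_le_H0 F.haC) hx'0] at this
    intro n hn u hu
    rcases (mem_zpowers_iff_mem_range_orderOf.1 hu : _) |> Finset.mem_image.1 with ⟨k, -, rfl⟩
    clear hu
    induction k generalizing n with
    | zero => simpa using hn
    | succ k ih =>
      have := ih _ (hone n hn)
      rwa [pow_succ, show S.f F.a ^ k * S.f F.a * n * (S.f F.a ^ k * S.f F.a)⁻¹ =
        S.f F.a ^ k * (S.f F.a * n * (S.f F.a)⁻¹) * (S.f F.a ^ k)⁻¹ by group]
  have hfix : ∀ n ∈ N, Commute (S.f F.a) n → n = 1 ∨ n = S.f F.t0 := by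
    intro n hn hna
    -- the shape of `n`
    have hnt : Commute n (S.f F.t0) := hNab n hn _ (hlt ▸ hlN)
    obtain ⟨i, j, k, m, e⟩ := F.hcfg.hcent n hna.symm
    have hh := F.hcfg
    set q := F.v ^ i * F.w ^ j with hq
    have hqq : F.IsQ q := by
      have hp : ∀ {n : ℕ} {g : G}, F.IsQ g → F.IsQ (g ^ n) := fun {n g} hg => by
        induction n with
        | zero => rw [pow_zero]; exact ⟨one_mem _, Commute.one_left _, one_pow _⟩
        | succ n ih => rw [pow_succ]; exact F.q_mul ih hg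
      exact F.q_mul (hp F.q_v) (hp F.q_w)
    have efq : S.f q = S.f F.v ^ i * S.f F.w ^ j := by
      rw [hq, S.f_mul_C (pow_mem F.hvC i) (pow_mem F.hwC j), S.f_pow_C F.hvC, S.f_pow_C F.hwC]
    have crt : Commute (S.f F.a) (S.f F.t0) := by
      show _ = _; rw [← S.f_mul_C F.haC F.t0_q.1, ← S.f_mul_C F.t0_q.1 F.haC, F.t0_q.2.1.symm.eq]
    have hbt : k % 3 = 0 := by
      have c1 : Commute (S.f F.b ^ k) (S.f F.t0) := by
        have e2 : S.f F.b ^ k = (S.f q)⁻¹ * n * (S.f F.a ^ m)⁻¹ := by rw [e, efq]; group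
        rw [e2]
        exact ((F.q_fcomm hqq F.t0_q).inv_left.mul_left hnt).mul_left (crt.pow_left m).inv_left
      by_contra hk
      have c2 : Commute (S.f F.b) (S.f F.t0) := by
        have e2 : S.f F.b = (S.f F.b ^ k) ^ (k % 3) := by
          rw [← pow_mul, pow_eq_pow_mod _ hh.hs]
          rcases (show k % 3 = 1 ∨ k % 3 = 2 by omega) with r | r <;> rw [r] <;>
            [rw [show k * 1 % 3 = 1 by omega]; rw [show k * 2 % 3 = 1 by omega]] <;> rw [pow_one]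
        rw [e2]; exact c1.pow_left _
      refine F.four.2.1 ?_
      show S.f (F.b * F.t0 * F.b⁻¹) = _
      rw [S.f_conj_C F.hbC F.t0_q.1, c2.eq, mul_inv_cancel_right]
    rw [pow_eq_pow_mod k hh.hs, hbt, pow_zero, mul_one, ← efq] at e
    have hm : S.f F.a ^ m = 1 := by
      have c : Commute (S.f q) (S.f F.a ^ m) := by
        refine Commute.pow_right ?_ m
        show _ = _; rw [← S.f_mul_C hqq.1 F.haC, ← S.f_mul_C F.haC hqq.1, hqq.2.1.eq]
      have h1 := hNsq n hn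
      rw [← pow_two, e, c.mul_pow, pow_two, F.q_sq_one hqq, one_mul, ← pow_mul] at h1
      have := orderOf_dvd_of_pow_eq_one h1
      rw [orderOf_eq_prime hh.hr hh.hr1] at this
      exact orderOf_dvd_iff_pow_eq_one.1 (by rw [orderOf_eq_prime hh.hr hh.hr1]; omega)
    rw [hm, mul_one] at e
    subst e
    by_contra hcon
    rw [not_or] at hcon
    obtain ⟨x', hx'E, hx'z, hx'0, hx'f⟩ := hNx _ hn
    have e1 := hyf hx'E hx'0
    have hq0 := S.C_le_H0 hqq.1
    obtain ⟨r, hr, d, hd, erd⟩ := S.mem_EP.1 ((S.f_eq_one_iff (mul_mem (inv_mem hq0) hx'0)).1 (by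
      rw [S.f_mul (inv_mem hq0) hx'0, S.f_inv hq0, hx'f, inv_mul_cancel]))
    have hr0 := S.hPH0 hr
    have ey : S.f (y * (c * x' * c⁻¹) * y⁻¹) = S.f (y * q * y⁻¹) := by
      rw [show c * x' * c⁻¹ = q * r * d by rw [mul_assoc q r d, ← erd, mul_inv_cancel_left],
        f_conj_mul_E hyz (mul_mem hq0 hr0) hd, show y * (q * r) * y⁻¹ = (y * q * y⁻¹) * (y * r * y⁻¹) by group,
        S.f_mul (S.hnorm y hyz q hq0) (S.hnorm y hyz r hr0),
        (S.f_eq_one_iff (S.hnorm y hyz r hr0)).2 (S.hEPn y hyz r (Subgroup.mem_sup_right hr)), mul_one]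
    rw [e1, hx'f, F.outer_f hyz hx0o hya hqq hcon.1 hcon.2, left_eq_mul] at ey
    exact F.t0_ne ey
  have h2 : Nat.card {n : ↥N // Commute (S.f F.a) (n : Grp)} = 2 := by
    classical
    refine le_antisymm ?_ ?_
    · refine (Nat.card_le_card_of_injective (fun n : {n : ↥N // Commute (S.f F.a) (n : Grp)} =>
        decide ((n.1 : Grp) = 1)) fun a b r => ?_).trans (by simp)
      rw [decide_eq_decide] at r
      refine Subtype.ext (Subtype.ext ?_)
      rcases hfix _ a.1.2 a.2 with p | p <;> rcases hfix _ b.1.2 b.2 with p' | p'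
      · rw [p, p']
      · exact (p.trans (r.1 p).symm)
      · exact (r.2 p').trans p'.symm
      · rw [p, p']
    · have ht : S.f F.t0 ∈ N := hlt ▸ hlN
      have hc0 : Commute (S.f F.a) (S.f F.t0) := by
        show _ = _; rw [← S.f_mul_C F.haC F.t0_q.1, ← S.f_mul_C F.t0_q.1 F.haC, F.t0_q.2.1.symm.eq]
      let ι : Bool → {n : ↥N // Commute (S.f F.a) (n : Grp)} :=
        fun b => cond b ⟨⟨1, one_mem _⟩, Commute.one_right _⟩ ⟨⟨_, ht⟩, hc0⟩
      refine le_trans (by simp) (Nat.card_le_card_of_injective ι fun a b r => ?_)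
      cases a <;> cases b
      · rfl
      · exact absurd (congrArg (fun n : {n : ↥N // Commute (S.f F.a) (n : Grp)} => (n.1 : Grp)) r :) F.t0_ne
      · exact absurd (congrArg (fun n : {n : ↥N // Commute (S.f F.a) (n : Grp)} => (n.1 : Grp)) r :).symm F.t0_ne
      · rfl
  have := fixed_mod_three hN (orderOf_eq_prime F.hcfg.hr F.hcfg.hr1) hnormN
  rw [h2] at this
  omega

/-- The conjugate of `z` is moved by the second kernel. -/
theorem moved {c : G} (hc : F.Pr c) : ¬ Commute F.t1 (c * S.z * c⁻¹) := by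
  intro hte
  obtain ⟨x0, hx0, hx0z, hx0o⟩ := F.exists_outer_W hc
  set y := c * x0 * c⁻¹ with hy
  have hyz : Commute y S.z := Pr.back (F := F) hx0z
  have hya : Commute y F.a := F.conj_a hc.1 (F.mem_W0.1 hx0).2
  have htz := F.q_z F.t1_q
  set t' := c⁻¹ * F.t1 * c with ht'
  have ht'z : Commute t' S.z := by
    have := (LargeData.commute_conj_iff' (g := c⁻¹)).2 hte
    rwa [inv_inv, show c⁻¹ * (c * S.z * c⁻¹) * c = S.z by group] at this
  have ht'z' : Commute t' (c⁻¹ * S.z * c) := by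
    have := (LargeData.commute_conj_iff' (g := c⁻¹)).2 htz
    rwa [inv_inv] at this
  have ht'a : Commute t' F.a := by
    have := F.conj_a hc.1.inv_left F.t1_q.2.1
    rwa [inv_inv] at this
  set x1 := t' * x0 * t'⁻¹ with hx1
  have hx1W : x1 ∈ F.W 0 := F.mem_W0.2 ⟨S.hE.conj_mem ht'z (F.mem_W0.1 hx0).1,
    (ht'a.mul_left (F.mem_W0.1 hx0).2).mul_left ht'a.inv_left⟩
  have hy1 : c * x1 * c⁻¹ = F.t1 * y * F.t1⁻¹ := by rw [hx1, ht', hy]; group
  have hy1z : Commute x1 (c⁻¹ * S.z * c) := (ht'z'.mul_left hx0z).mul_left ht'z'.inv_left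
  have hy1o : F.t1 * y * F.t1⁻¹ ∉ S.H0 := fun h => hx0o (by
    have := S.hnorm F.t1⁻¹ htz.inv_left _ h
    rwa [show F.t1⁻¹ * (F.t1 * y * F.t1⁻¹) * F.t1⁻¹⁻¹ = y by group] at this)
  have hd : c * (x1 * x0⁻¹) * c⁻¹ ∈ S.E := by
    refine F.inner_W hc (mul_mem hx1W (inv_mem hx0)) (hy1z.mul_left hx0z.inv_left) ?_
    rw [show c * (x1 * x0⁻¹) * c⁻¹ = (c * x1 * c⁻¹) * y⁻¹ by rw [hy]; group, hy1]
    exact S.hidx _ _ ((htz.mul_left hyz).mul_left htz.inv_left) hyz.inv_left hy1o fun h => hx0o (inv_mem_iff.1 h)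
  rw [show c * (x1 * x0⁻¹) * c⁻¹ = (c * x1 * c⁻¹) * y⁻¹ by rw [hy]; group, hy1] at hd
  have h0 := S.C_le_H0 F.t1_q.1
  have e : S.f (y * F.t1⁻¹ * y⁻¹) = (S.f F.t1)⁻¹ := by
    have hfd := (S.f_eq_one_iff (S.hEH0 hd)).2 (Subgroup.mem_sup_left hd)
    rw [show F.t1 * y * F.t1⁻¹ * y⁻¹ = F.t1 * (y * F.t1⁻¹ * y⁻¹) by group,
      S.f_mul h0 (S.hnorm y hyz _ (inv_mem h0))] at hfd
    exact eq_inv_of_mul_eq_one_right hfd
  rw [← S.f_inv h0, F.outer_f hyz hx0o hya (F.q_inv F.t1_q) ?_ ?_, mul_eq_left] at e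
  · exact F.t0_ne e
  · rw [S.f_inv h0, inv_ne_one]; exact F.four.1
  · rw [S.f_inv h0, inv_eq_of_mul_eq_one_left (F.q_sq_one F.t1_q)]; exact F.four.2.1

/-- Moved involutions are conjugate to `c z c⁻¹` by elements of `H` centralizing `a` and `t0`. -/
theorem orbit {c x : G} (hc : F.Pr c) (hx : x ∈ F.W 0) (hx2 : x * x = 1) (hxm : ¬ Commute F.t1 x) :
    ∃ k, Commute k S.z ∧ Commute k F.a ∧ k * (c * S.z * c⁻¹) * k⁻¹ = x ∧
      (F.t1 * F.t0 = F.t0 * F.t1 → Commute k F.t0) := by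
  set e := c * S.z * c⁻¹ with he
  obtain ⟨hcA, heW, hne⟩ := hc
  have he1 : e ≠ 1 := fun r => S.hE.z_ne_one (conj_eq_one_iff.1 r)
  have hP := F.plane 0
  have hcp : Commute F.p S.z := S.P_commute_z F.hpP
  have hpa : Commute F.p F.a := (F.commute_p F.haC).symm
  have hpt : Commute F.p F.t0 := (F.commute_p F.t0_q.1).symm
  -- stepping inside the line
  have step : ∀ {k : G} {u : G}, Commute k S.z → Commute k F.a → k * e * k⁻¹ = u → u ∈ F.W 0 → u ≠ 1 → u ≠ S.z →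
      (F.t1 * F.t0 = F.t0 * F.t1 → Commute k F.t0) → Near S.z F.p u x →
      ∃ k, Commute k S.z ∧ Commute k F.a ∧ k * e * k⁻¹ = x ∧ (F.t1 * F.t0 = F.t0 * F.t1 → Commute k F.t0) := by
    intro k u k1 k2 ke huW hu1 huz k3 hn
    obtain ⟨f, hf, hfu⟩ : ∃ f ∈ F.W 0, ¬ Commute f u := by
      by_contra hno
      simp only [not_exists, not_and, not_not] at hno
      rcases hP.hcenter u huW hno with r | r
      exacts [hu1 r, huz r]
    have ef : f * u * f⁻¹ = S.z * u := (hP.hcomm f hf u huW).resolve_left fun r => hfu (mul_inv_eq_iff_eq_mul.1 r)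
    have hfz := S.hE.commute_z (F.mem_W0.1 hf).1
    have hfa := (F.mem_W0.1 hf).2
    have hft := (F.t0_W hf).symm
    have pz : ∀ v, pc F.p (S.z * v) = S.z * pc F.p v := fun v => by rw [pc_mul, hP.pc_z]
    rcases hn with r | r | r | r | r | r
    · exact ⟨k, k1, k2, ke.trans r.symm, k3⟩
    · exact ⟨f * k, hfz.mul_left k1, hfa.mul_left k2,
        by rw [r, show f * k * e * (f * k)⁻¹ = f * (k * e * k⁻¹) * f⁻¹ by group, ke, ef],
        fun h => hft.mul_left (k3 h)⟩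
    · exact ⟨F.p * k, hcp.mul_left k1, hpa.mul_left k2, by
        rw [r, show F.p * k * e * (F.p * k)⁻¹ = F.p * (k * e * k⁻¹) * F.p⁻¹ by group, ke], fun h => hpt.mul_left (k3 h)⟩
    · exact ⟨F.p * f * k, (hcp.mul_left hfz).mul_left k1, (hpa.mul_left hfa).mul_left k2, by
        rw [r, show F.p * f * k * e * (F.p * f * k)⁻¹ = F.p * (f * (k * e * k⁻¹) * f⁻¹) * F.p⁻¹ by group, ke, ef]
        exact pz u, fun h => (hpt.mul_left hft).mul_left (k3 h)⟩
    · exact ⟨F.p * F.p * k, (hcp.mul_left hcp).mul_left k1, (hpa.mul_left hpa).mul_left k2, by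
        rw [r, show F.p * F.p * k * e * (F.p * F.p * k)⁻¹ = F.p * (F.p * (k * e * k⁻¹) * F.p⁻¹) * F.p⁻¹ by group, ke],
        fun h => (hpt.mul_left hpt).mul_left (k3 h)⟩
    · exact ⟨F.p * F.p * f * k, ((hcp.mul_left hcp).mul_left hfz).mul_left k1,
        ((hpa.mul_left hpa).mul_left hfa).mul_left k2, by
        rw [r, show F.p * F.p * f * k * e * (F.p * F.p * f * k)⁻¹ =
          F.p * (F.p * (f * (k * e * k⁻¹) * f⁻¹) * F.p⁻¹) * F.p⁻¹ by group, ke, ef]
        show pc F.p (pc F.p (S.z * u)) = _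
        rw [pz, pz], fun h => ((hpt.mul_left hpt).mul_left hft).mul_left (k3 h)⟩
  have he2 : e * e = 1 := conj_sq S.hE.mul_self_z
  rcases hP.moved_near (F.q_op F.t1_q 0) F.t1_moves heW he2 (F.moved (c := c) ⟨by assumption, heW, hne⟩) hx hx2 hxm with hn | hn
  · exact step (k := 1) (u := e) (Commute.one_left _) (Commute.one_left _) (by group) heW he1 hne
      (fun _ => Commute.one_left _) hn
  · refine step (k := F.t1) (u := F.t1 * e * F.t1⁻¹) (F.q_z F.t1_q) F.t1_q.2.1 rfl (F.q_W F.t1_q heW)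
      (fun r => he1 (conj_eq_one_iff.1 r)) (fun r => hne ?_) (fun h => h) hn
    rw [← he, show e = F.t1⁻¹ * (F.t1 * e * F.t1⁻¹) * F.t1 by group, r, mul_assoc, ← (F.q_z F.t1_q).eq, inv_mul_cancel_left]

/-- The elements of the plane sent into `E`. -/
def Line (c : G) : Subgroup G where
  carrier := {x | x ∈ F.W 0 ∧ c⁻¹ * x * c ∈ S.E}
  one_mem' := ⟨one_mem _, by simp⟩
  mul_mem' := fun {a b} ha hb => ⟨mul_mem ha.1 hb.1, by
    rw [show c⁻¹ * (a * b) * c = (c⁻¹ * a * c) * (c⁻¹ * b * c) by group]; exact mul_mem ha.2 hb.2⟩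
  inv_mem' := fun {a} ha => ⟨inv_mem ha.1, by
    rw [show c⁻¹ * a⁻¹ * c = (c⁻¹ * a * c)⁻¹ by group]; exact inv_mem ha.2⟩

theorem Line.mem {c x : G} : x ∈ F.Line c ↔ x ∈ F.W 0 ∧ c⁻¹ * x * c ∈ S.E := Iff.rfl

theorem line_elementary {c : G} (hc : F.Pr c) {x u : G} (hx : x ∈ F.Line c) (hu : u ∈ F.Line c) :
    Commute x u ∧ x * x = 1 := by
  have hez : c⁻¹ * S.z * c ∉ Subgroup.zpowers S.z := fun h => by
    rcases S.hE.eq_or h with r | r
    · exact S.hE.z_ne_one (by rw [show S.z = c * (c⁻¹ * S.z * c) * c⁻¹ by group, r]; group)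
    · refine hc.2.2 ?_
      conv_lhs => rw [← r]
      group
  constructor
  · rcases (F.plane 0).hcomm x hx.1 u hu.1 with r | r
    · exact mul_inv_eq_iff_eq_mul.1 r
    · exfalso
      have h1 := S.hE.comm_mem hx.2 hu.2
      rw [show c⁻¹ * x * c * (c⁻¹ * u * c) * (c⁻¹ * x * c)⁻¹ * (c⁻¹ * u * c)⁻¹ = c⁻¹ * (x * u * x⁻¹ * u⁻¹) * c by
        group, r, mul_inv_cancel_right] at h1
      exact hez h1
  · rcases (F.plane 0).hsq x hx.1 with r | r
    · exact r
    · exfalso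
      have h1 := S.hE.sq_mem hx.2
      rw [show c⁻¹ * x * c * (c⁻¹ * x * c) = c⁻¹ * (x * x) * c by group, r] at h1
      exact hez h1

theorem z_mem_line {c : G} (hc : F.Pr c) : S.z ∈ F.Line c ∧ c * S.z * c⁻¹ ∈ F.Line c :=
  ⟨⟨F.z_mem 0, (F.mem_W0.1 (show c⁻¹ * S.z * c ∈ F.W 0 by have := hc.symm.2.1; rwa [inv_inv] at this)).1⟩,
    hc.2.1, by rw [show c⁻¹ * (c * S.z * c⁻¹) * c = S.z by group]; exact S.hE.z_mem⟩

/-- The line contains the line of `c z c⁻¹`. -/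
theorem pc_mem_line {c : G} (hc : F.Pr c) :
    pc F.p (c * S.z * c⁻¹) ∈ F.Line c ∧ pc F.p (pc F.p (c * S.z * c⁻¹)) ∈ F.Line c := by
  classical
  set e := c * S.z * c⁻¹ with he
  have hP := F.plane 0
  obtain ⟨hzL, heL⟩ := F.z_mem_line hc
  have he2 : e * e = 1 := conj_sq S.hE.mul_self_z
  have he1 : e ≠ 1 := fun r => S.hE.z_ne_one (conj_eq_one_iff.1 r)
  obtain ⟨x0, hx0, hx0z, hx0o⟩ := F.exists_outer_W hc
  set z' := c⁻¹ * S.z * c with hz'
  have hz'W : z' ∈ F.W 0 := by have := hc.symm.2.1; rwa [inv_inv] at this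
  -- more than four elements
  set K := F.W 0 ⊓ Subgroup.centralizer ({z'} : Set G) with hK
  have hKm : ∀ {x}, x ∈ K ↔ x ∈ F.W 0 ∧ Commute x z' := fun {x} => by
    rw [hK, Subgroup.mem_inf, mem_centralizer_singleton_iff']; rfl
  have h16 : 32 ≤ 2 * Nat.card K := hP.centralizer_card z' hz'W
  have hmem : ∀ {x}, x ∈ K → c * x * c⁻¹ ∈ S.H0 → c * x * c⁻¹ ∈ F.Line c := by
    intro x hx h0
    obtain ⟨hx1, hx2⟩ := hKm.1 hx
    refine ⟨F.mem_W0.2 ⟨F.inner_W hc hx1 hx2 h0, F.conj_a hc.1 (F.mem_W0.1 hx1).2⟩, ?_⟩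
    rw [show c⁻¹ * (c * x * c⁻¹) * c = x by group]; exact (F.mem_W0.1 hx1).1
  have hcount : Nat.card K ≤ 2 * Nat.card (F.Line c) := by
    let Φ : ↥K → ↥(F.Line c) ⊕ ↥(F.Line c) := fun x =>
      if h : c * (x : G) * c⁻¹ ∈ S.H0 then Sum.inl ⟨_, hmem x.2 h⟩
      else Sum.inr ⟨c * (x0 * x) * c⁻¹, hmem (mul_mem (hKm.2 ⟨hx0, hx0z⟩) x.2) (by
        rw [show c * (x0 * (x : G)) * c⁻¹ = (c * x0 * c⁻¹) * (c * x * c⁻¹) by group]
        exact S.hidx _ _ (Pr.back (F := F) hx0z) (Pr.back (F := F) (hKm.1 x.2).2) hx0o h)⟩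
    have hΦ : Function.Injective Φ := fun a b r => by
      simp only [Φ] at r
      split_ifs at r
      · simpa using r
      · simpa using r
    have := Nat.card_le_card_of_injective Φ hΦ
    rw [Nat.card_sum] at this
    omega
  obtain ⟨x, hxL, hx1, hxz, hxe, hxze⟩ : ∃ x ∈ F.Line c, x ≠ 1 ∧ x ≠ S.z ∧ x ≠ e ∧ x ≠ S.z * e := by
    by_contra hno
    simp only [not_exists, not_and, not_not] at hno
    have : Nat.card (F.Line c) ≤ 4 := by
      let Ω : Finset G := {1, S.z, e, S.z * e}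
      have hsub : ∀ x : ↥(F.Line c), (x : G) ∈ Ω := fun x => by
        simp only [Ω, Finset.mem_insert, Finset.mem_singleton]
        by_contra hc'
        simp only [not_or] at hc'
        exact hc'.2.2.2 (hno x x.2 hc'.1 hc'.2.1 hc'.2.2.1)
      refine (Nat.card_le_card_of_injective (fun x : ↥(F.Line c) => (⟨x, hsub x⟩ : Ω))
        fun a b r => Subtype.ext (congrArg (fun q : Ω => (q : G)) r :)).trans ?_
      rw [Nat.card_eq_finsetCard]
      exact Finset.card_le_four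
    omega
  have hor : ∀ {u}, u ∈ F.Line c → u * u = 1 := fun hu => (F.line_elementary hc hu hu).2
  have hz_of : ∀ {u}, S.z * u ∈ F.Line c → u ∈ F.Line c := fun {u} h => by
    have := mul_mem hzL h
    rwa [← mul_assoc, S.hE.mul_self_z, one_mul] at this
  have hline : pc F.p e ∈ F.Line c ∨ pc F.p (pc F.p e) ∈ F.Line c := by
    rcases hP.moved_eight (F.q_op F.t1_q 0) F.t1_moves hc.2.1 he2 (F.moved hc) hxL.1 (hor hxL)
        (F.line_elementary hc hxL heL).1 hx1 hxz hxe hxze with (r | r | r | r) | ⟨r1, -, r3⟩ | ⟨r1, r2⟩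
    · exact Or.inl (r ▸ hxL)
    · exact Or.inl (hz_of (r ▸ hxL))
    · exact Or.inr (r ▸ hxL)
    · exact Or.inr (hz_of (r ▸ hxL))
    all_goals exfalso
    -- a transversal is impossible
    all_goals
      obtain ⟨l, hlL, hlm, hl0, hle, helz⟩ :
          ∃ l ∈ F.Line c, ¬ Commute F.t1 l ∧ Commute F.t1 (e * l) ∧ l ≠ e ∧ e * l ≠ S.z := by
        first
        | exact ⟨e * x, mul_mem heL hxL, r3, by rw [← mul_assoc, he2, one_mul]; exact r1,
            fun r => hx1 (mul_eq_left.1 r), fun r => hxz (by rwa [← mul_assoc, he2, one_mul] at r)⟩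
        | exact ⟨x, hxL, r2, r1, hxe, fun r => hxze (by
            rw [← inv_mul_cancel_left e x, r, inv_eq_of_mul_eq_one_left he2, (S.hE.commute_z (F.mem_W0.1 hc.2.1).1).eq])⟩
      obtain ⟨k, hk1, hk2, hke, -⟩ := F.orbit hc hlL.1 (hor hlL) hlm
      have hc2 : F.Pr (k * c) := ⟨hk2.mul_left hc.1, by
        rw [show k * c * S.z * (k * c)⁻¹ = k * (c * S.z * c⁻¹) * k⁻¹ by group, ← he, hke]; exact hlL.1, by
        rw [show k * c * S.z * (k * c)⁻¹ = k * (c * S.z * c⁻¹) * k⁻¹ by group, ← he, hke]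
        exact fun r => hlm (r ▸ F.q_z F.t1_q)⟩
      set l' := c⁻¹ * l * c with hl'
      have hl'W : l' ∈ F.W 0 := by
        refine F.mem_W0.2 ⟨hlL.2, ?_⟩
        have := F.conj_a hc.1.inv_left (F.mem_W0.1 hlL.1).2
        rwa [inv_inv] at this
      have hl'1 : l' ≠ 1 := fun r => hlm (by
        rw [show l = c * l' * c⁻¹ by rw [hl']; group, r]; simp)
      have hl'z : l' ≠ S.z := fun r => hle (by rw [show l = c * l' * c⁻¹ by rw [hl']; group, r])
      obtain ⟨f, hf, hfl⟩ : ∃ f ∈ F.W 0, ¬ Commute f l' := by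
        by_contra hno
        simp only [not_exists, not_and, not_not] at hno
        rcases hP.hcenter l' hl'W hno with r | r
        exacts [hl'1 r, hl'z r]
      have ef : f * l' * f⁻¹ = S.z * l' :=
        (hP.hcomm f hf l' hl'W).resolve_left fun r => hfl (mul_inv_eq_iff_eq_mul.1 r)
      have hc3 : F.Pr (c * f * c⁻¹ * (k * c)) := by
        have e1 : c * f * c⁻¹ * (k * c) * S.z * (c * f * c⁻¹ * (k * c))⁻¹ = e * l := by
          rw [show c * f * c⁻¹ * (k * c) * S.z * (c * f * c⁻¹ * (k * c))⁻¹ =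
            c * (f * (c⁻¹ * (k * (c * S.z * c⁻¹) * k⁻¹) * c) * f⁻¹) * c⁻¹ by group, ← he, hke, ← hl', ef, he, hl']
          group
        refine ⟨(F.conj_a hc.1 (F.mem_W0.1 hf).2).mul_left hc2.1, ?_, ?_⟩ <;> rw [e1]
        · exact mul_mem hc.2.1 hlL.1
        · exact helz
      refine F.moved hc3 ?_
      rwa [show c * f * c⁻¹ * (k * c) * S.z * (c * f * c⁻¹ * (k * c))⁻¹ =
        c * (f * (c⁻¹ * (k * (c * S.z * c⁻¹) * k⁻¹) * c) * f⁻¹) * c⁻¹ by group, ← he, hke, ← hl', ef,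
        show c * (S.z * l') * c⁻¹ = e * l by rw [he, hl']; group]
  have horb : e * pc F.p e * pc F.p (pc F.p e) ∈ F.Line c := by
    rcases hP.orbit_fix hc.2.1 with r | r <;> rw [r]
    exacts [one_mem _, hzL]
  rcases hline with r | r
  · refine ⟨r, ?_⟩
    have := mul_mem (inv_mem (mul_mem heL r)) horb
    rwa [inv_mul_cancel_left] at this
  · refine ⟨?_, r⟩
    have := mul_mem (mul_mem (inv_mem heL) horb) (inv_mem r)
    rwa [mul_assoc e, inv_mul_cancel_left, mul_inv_cancel_right] at this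

end Frame

end CfsgLib.JankoFour
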