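import Mathlib

/-!
# An extraspecial group of order 32 with a fixed-point-free element of order three
(owner: helper14)

Properties of the situation and the existence of a non-central involution.
-/

set_option autoImplicit false

namespace CfsgLib.JankoFour

variable {G : Type*} [Group G]

/-- The plane: `W` of order 32, commutators and squares in `<z>`, centre `<z>`, `p` acting without
fixed points modulo `<z>`. -/
structure Plane (z : G) (W : Subgroup G) (p : G) : Prop where
  hz : z * z = 1
  hz1 : z ≠ 1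
  hzW : z ∈ W
  hzc : ∀ x ∈ W, Commute x z
  hcard : Nat.card W = 32
  hcomm : ∀ x ∈ W, ∀ y ∈ W, x * y * x⁻¹ = y ∨ x * y * x⁻¹ = z * y
  hsq : ∀ x ∈ W, x * x = 1 ∨ x * x = z
  hcenter : ∀ x ∈ W, (∀ y ∈ W, Commute y x) → x = 1 ∨ x = z
  hp : p ^ 3 = 1
  hpz : Commute p z
  hpW : ∀ x ∈ W, p * x * p⁻¹ ∈ W
  hfix : ∀ x ∈ W, p * x * p⁻¹ = x → x = 1 ∨ x = z

/-- The conjugate by `p`. -/
abbrev pc (p x : G) : G := p * x * p⁻¹

/-- A singular element: an involution of `W` outside the centre. -/
def IsSing (z : G) (W : Subgroup G) (y : G) : Prop := y ∈ W ∧ y * y = 1 ∧ y ≠ 1 ∧ y ≠ z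

theorem pc_mul (p x y : G) : pc p (x * y) = pc p x * pc p y := by simp [pc, mul_assoc]

namespace Plane

variable {z p : G} {W : Subgroup G} (h : Plane z W p)
include h

theorem pc_z : pc p z = z := by rw [pc, h.hpz.eq, mul_inv_cancel_right]

theorem pc_three (x : G) : pc p (pc p (pc p x)) = x := by
  show p * (p * (p * x * p⁻¹) * p⁻¹) * p⁻¹ = x
  calc p * (p * (p * x * p⁻¹) * p⁻¹) * p⁻¹ = p ^ 3 * x * (p ^ 3)⁻¹ := by rw [pow_succ, pow_two]; group
    _ = x := by rw [h.hp]; simp

theorem pc_ne {x : G} (hx : x ∈ W) (h1 : x ≠ 1) (hz : x ≠ z) : pc p x ≠ x ∧ pc p x ≠ z * x := by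
  refine ⟨fun e => ?_, fun e => ?_⟩
  · rcases h.hfix x hx e with r | r
    exacts [h1 r, hz r]
  · have e2 : pc p (pc p x) = x := by
      rw [e, pc_mul, h.pc_z, e, ← mul_assoc, h.hz, one_mul]
    have e3 := h.pc_three x
    rw [e2, e] at e3
    exact h.hz1 (mul_eq_right.1 e3)

theorem comm_of_sq {x y : G} (hx : x * x = 1) (hy : y * y = 1) (hxy : x * y * (x * y) = 1) : Commute x y := by
  have e : x * y = (x * y)⁻¹ := eq_inv_of_mul_eq_one_left hxy
  rw [mul_inv_rev, inv_eq_of_mul_eq_one_left hx, inv_eq_of_mul_eq_one_left hy] at e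
  exact e

theorem sq_of_not_comm {x y : G} (hx : x ∈ W) (hy : y ∈ W) (hc : ¬ Commute x y) :
    x * y * (x * y) = z * (x * x) * (y * y) := by
  have e : y * x * y⁻¹ = z * x := (h.hcomm y hy x hx).resolve_left fun e => hc (mul_inv_eq_iff_eq_mul.1 e).symm
  have e' := mul_inv_eq_iff_eq_mul.1 e
  calc x * y * (x * y) = x * (y * x) * y := by group
    _ = x * (z * x * y) * y := by rw [e']
    _ = (x * z) * x * (y * y) := by group
    _ = (z * x) * x * (y * y) := by rw [(h.hzc x hx).eq]
    _ = _ := by group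

theorem centralizer_card [Finite G] (y : G) (hy : y ∈ W) :
    32 ≤ 2 * Nat.card ↥(W ⊓ Subgroup.centralizer ({y} : Set G)) := by
  classical
  set K := W ⊓ Subgroup.centralizer ({y} : Set G) with hK
  have hKm : ∀ {x : G}, x ∈ K ↔ x ∈ W ∧ Commute x y := fun {x} => by
    rw [hK, Subgroup.mem_inf, Subgroup.mem_centralizer_singleton_iff]; rfl
  by_cases hall : ∀ x ∈ W, Commute x y
  · have : Nat.card W ≤ Nat.card K := Subgroup.card_le_of_le fun x hx => hKm.2 ⟨hx, hall x hx⟩
    rw [h.hcard] at this; omega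
  simp only [not_forall] at hall
  obtain ⟨q, hq, hqy⟩ := hall
  have hmem : ∀ x ∈ W, ¬ Commute x y → q⁻¹ * x ∈ K := by
    intro x hx hxy
    refine hKm.2 ⟨mul_mem (inv_mem hq) hx, ?_⟩
    have e1 : x * y * x⁻¹ = z * y := (h.hcomm x hx y hy).resolve_left fun e => hxy (mul_inv_eq_iff_eq_mul.1 e)
    have e2 : q * y * q⁻¹ = z * y := (h.hcomm q hq y hy).resolve_left fun e => hqy (mul_inv_eq_iff_eq_mul.1 e)
    refine mul_inv_eq_iff_eq_mul.1 ?_
    calc q⁻¹ * x * y * (q⁻¹ * x)⁻¹ = q⁻¹ * (x * y * x⁻¹) * q := by group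
      _ = y := by rw [e1, ← e2]; group
  let f : ↥W → ↥K ⊕ ↥K := fun x =>
    if hx : Commute (x : G) y then Sum.inl ⟨x, hKm.2 ⟨x.2, hx⟩⟩ else Sum.inr ⟨q⁻¹ * x, hmem x x.2 hx⟩
  have hf : Function.Injective f := by
    intro a b e
    simp only [f] at e
    split_ifs at e
    · simpa using e
    · simpa using e
  have := Nat.card_le_card_of_injective f hf
  rw [h.hcard, Nat.card_sum] at this
  omega

theorem exists_sing [Finite G] : ∃ y, IsSing z W y := by
  by_contra hno
  simp only [IsSing, not_exists, not_and] at hno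
  have hinv : ∀ y ∈ W, y * y = 1 → y = 1 ∨ y = z := fun y hy hy2 => by
    by_contra h'
    simp only [not_or] at h'
    exact hno y hy hy2 h'.1 h'.2
  obtain ⟨w, hw, hw1⟩ : ∃ w ∈ W, ¬ (w = 1 ∨ w = z) := by
    by_contra hall
    simp only [not_exists, not_and, not_not] at hall
    classical
    have : Nat.card W ≤ 2 := by
      refine (Nat.card_le_card_of_injective (fun x : W => decide ((x : G) = 1)) ?_).trans (by simp)
      intro a b e
      rcases hall a a.2 with ha | ha <;> rcases hall b b.2 with hb | hb <;>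
        simp [ha, hb, h.hz1] at e ⊢ <;> exact Subtype.ext (ha.trans hb.symm)
    rw [h.hcard] at this; omega
  simp only [not_or] at hw1
  have hw2 : w * w = z := (h.hsq w hw).resolve_left fun e => (hinv w hw e).elim hw1.1 hw1.2
  have hw' : pc p w ∈ W := h.hpW w hw
  have hw'2 : pc p w * pc p w = z := by rw [← pc_mul, hw2, h.pc_z]
  obtain ⟨hne1, hne2⟩ := h.pc_ne hw hw1.1 hw1.2
  by_cases hc : Commute w (pc p w)
  · have e : w * pc p w * (w * pc p w) = 1 := by
      calc w * pc p w * (w * pc p w) = w * (pc p w * w) * pc p w := by group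
        _ = (w * w) * (pc p w * pc p w) := by rw [← hc.eq]; group
        _ = 1 := by rw [hw2, hw'2, h.hz]
    rcases hinv _ (mul_mem hw hw') e with r | r
    · exact hne2 (by rw [eq_inv_of_mul_eq_one_right r, eq_comm, eq_inv_iff_mul_eq_one, mul_assoc, hw2, h.hz])
    · exact hne1 (mul_left_cancel (r.trans hw2.symm))
  obtain ⟨u, hu, hu1⟩ : ∃ u ∈ W, Commute u w ∧ Commute u (pc p w) ∧ ¬ (u = 1 ∨ u = z) := by
    by_contra hall
    simp only [not_exists, not_and, not_not] at hall
    have hb := h.centralizer_card w hw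
    set K := W ⊓ Subgroup.centralizer ({w} : Set G) with hK
    have hKm : ∀ {x : G}, x ∈ K → x ∈ W ∧ Commute x w := fun {x} hx =>
      ⟨hx.1, Subgroup.mem_centralizer_singleton_iff.1 hx.2⟩
    classical
    let f : ↥K → Bool × Bool := fun x => (decide (Commute (x : G) (pc p w)), decide ((x : G) = 1 ∨ (x : G) = w))
    have hf : ∀ x : ↥K, Commute (x : G) (pc p w) → (x : G) = 1 ∨ (x : G) = z := fun x hx =>
      hall x (hKm x.2).1 (hKm x.2).2 hx
    have hg : ∀ x : ↥K, ¬ Commute (x : G) (pc p w) → (x : G) = w ∨ (x : G) = z * w := by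
      intro x hx
      obtain ⟨hxW, hxw⟩ := hKm x.2
      have hcx : Commute (w⁻¹ * (x : G)) (pc p w) := mul_inv_eq_iff_eq_mul.1 (by
        have e1 : (x : G) * pc p w * (x : G)⁻¹ = z * pc p w :=
          (h.hcomm x hxW _ hw').resolve_left fun e => hx (mul_inv_eq_iff_eq_mul.1 e)
        have e2 : w * pc p w * w⁻¹ = z * pc p w :=
          (h.hcomm w hw _ hw').resolve_left fun e => hc (mul_inv_eq_iff_eq_mul.1 e)
        calc w⁻¹ * (x : G) * pc p w * (w⁻¹ * (x : G))⁻¹ = w⁻¹ * ((x : G) * pc p w * (x : G)⁻¹) * w := by group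
          _ = pc p w := by rw [e1, ← e2]; simp only [pc]; group)
      rcases hall _ (mul_mem (inv_mem hw) hxW) ((Commute.refl w).inv_left.mul_left hxw) hcx with r | r
      · exact Or.inl (inv_mul_eq_one.1 r).symm
      · exact Or.inr (by rw [← (h.hzc w hw).eq, ← r, mul_inv_cancel_left])
    have hwz : z * w ≠ w := fun e => h.hz1 (mul_eq_right.1 e)
    have hfi : Function.Injective f := by
      intro a b e
      simp only [f, Prod.mk.injEq, decide_eq_decide] at e
      by_cases ha : Commute (a : G) (pc p w)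
      · rcases hf a ha with r | r <;> rcases hf b (e.1.1 ha) with r' | r'
        · exact Subtype.ext (r.trans r'.symm)
        · rcases e.2.1 (Or.inl r) with s | s
          · exact absurd (r'.symm.trans s) h.hz1
          · exact absurd (r'.symm.trans s).symm hw1.2
        · rcases e.2.2 (Or.inl r') with s | s
          · exact absurd (r.symm.trans s) h.hz1
          · exact absurd (r.symm.trans s).symm hw1.2
        · exact Subtype.ext (r.trans r'.symm)
      · rcases hg a ha with r | r <;> rcases hg b (fun hb => ha (e.1.2 hb)) with r' | r'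
        · exact Subtype.ext (r.trans r'.symm)
        · rcases e.2.1 (Or.inr r) with s | s
          · exact absurd (eq_inv_of_mul_eq_one_right (r'.symm.trans s) |>.trans (inv_eq_of_mul_eq_one_left h.hz)) hw1.2
          · exact absurd (r'.symm.trans s) hwz
        · rcases e.2.2 (Or.inr r') with s | s
          · exact absurd (eq_inv_of_mul_eq_one_right (r.symm.trans s) |>.trans (inv_eq_of_mul_eq_one_left h.hz)) hw1.2
          · exact absurd (r.symm.trans s) hwz
        · exact Subtype.ext (r.trans r'.symm)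
    have hle := Nat.card_le_card_of_injective f hfi
    rw [Nat.card_prod, show Nat.card Bool = 2 by simp] at hle
    omega
  obtain ⟨huw, hupw, hu1⟩ := hu1
  have hu2 : u * u = z := (h.hsq u hu).resolve_left fun e => hu1 (hinv u hu e)
  have e : u * w * (u * w) = 1 := by
    calc u * w * (u * w) = u * (w * u) * w := by group
      _ = (u * u) * (w * w) := by rw [← huw.eq]; group
      _ = 1 := by rw [hu2, hw2, h.hz]
  have hcase : u * w = 1 ∨ u * w = z := hinv _ (mul_mem hu hw) e
  apply hc
  have hwu : w = u⁻¹ ∨ w = u⁻¹ * z := hcase.imp eq_inv_of_mul_eq_one_right fun r => by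
    rw [← r, inv_mul_cancel_left]
  rcases hwu with r | r
  · exact (congrArg (Commute · (pc p w)) r).mpr hupw.inv_left
  · exact (congrArg (Commute · (pc p w)) r).mpr (hupw.inv_left.mul_left (h.hzc _ hw').symm)

end Plane

end CfsgLib.JankoFour
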