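import Cfsg.Agent.Lib.JankoFour.Frame
import Cfsg.Agent.Lib.ThreeTrans.LargeCriteria

/-!
# The extraspecial group is a central product of three centralizers (owner: helper14)

With `A = ⟨a, p⟩`, the centralizers in `E` of `a`, `a * p`, `a * p⁻¹` have order 32, commute pairwise, meet
in `<z>` and generate `E`.
-/

set_option autoImplicit false

namespace CfsgLib.JankoFour

open Cfsg CfsgLib.ThreeTrans
open CfsgLib.JankoFour.M22 (Grp)

variable {G : Type*} [Group G] [Finite G]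

namespace Setting

variable (S : Setting G)

/-- The fixed points of `x` in `E`. -/
abbrev fixE (x : G) : Subgroup G := S.E ⊓ Subgroup.centralizer ({x} : Set G)

theorem mem_fixE {x e : G} : e ∈ S.fixE x ↔ e ∈ S.E ∧ Commute e x := by
  rw [Subgroup.mem_inf, mem_centralizer_singleton_iff']; rfl

theorem conj_fixE {h x e : G} (hh : Commute h S.z) (he : e ∈ S.fixE x) :
    h * e * h⁻¹ ∈ S.fixE (h * x * h⁻¹) := by
  obtain ⟨h1, h2⟩ := S.mem_fixE.1 he
  exact S.mem_fixE.2 ⟨S.hE.conj_mem hh h1, LargeData.commute_conj_iff'.2 h2⟩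

theorem card_fixE_conj {h x : G} (hh : Commute h S.z) :
    Nat.card (S.fixE (h * x * h⁻¹)) = Nat.card (S.fixE x) := by
  have : S.fixE (h * x * h⁻¹) = (S.fixE x).map (MulAut.conj h).toMonoidHom := by
    ext e
    constructor
    · intro he
      refine ⟨h⁻¹ * e * h, ?_, by show h * (h⁻¹ * e * h) * h⁻¹ = e; group⟩
      have := S.conj_fixE hh.inv_left he
      rwa [inv_inv, show h⁻¹ * (h * x * h⁻¹) * h = x by group] at this
    · rintro ⟨e, he, rfl⟩
      exact S.conj_fixE hh he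
  rw [this, Subgroup.card_map_of_injective (MulAut.conj h).injective]

theorem commute_fixE {x y e : G} (hy : Commute y x) (hyz : Commute y S.z) (he : e ∈ S.fixE x) :
    y * e * y⁻¹ ∈ S.fixE x := by
  have := S.conj_fixE hyz he
  rwa [hy.eq, mul_inv_cancel_right] at this

end Setting

namespace Frame

variable {S : Setting G} (F : Frame S)

theorem hwC : F.w ∈ S.C := F.hw ▸ mul_mem (mul_mem F.hbC F.hvC) (inv_mem F.hbC)

theorem hw4 : F.w ^ 4 = 1 := by rw [← F.hw, conj_pow, F.hv4]; simp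

theorem hpC : F.p ∈ S.C := S.P_le_C F.hpP

theorem p_pow : F.p ^ 3 = 1 := S.P_pow_three F.hpP

theorem p_ne : F.p ≠ 1 := fun e => by have := F.hp3; rw [e, orderOf_one] at this; norm_num at this

theorem commute_z {x : G} (hx : x ∈ S.C) : Commute x S.z := (S.mem_C.1 hx).1

theorem commute_p {x : G} (hx : x ∈ S.C) : Commute x F.p := (S.mem_C.1 hx).2 _ F.hpP

theorem P_eq {q : G} (hq : q ∈ S.P) : ∃ i : ℕ, q = F.p ^ i := by
  obtain ⟨g, hg, hg3, hP⟩ := S.exists_p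
  rcases hP q hq with rfl | h | h
  · exact ⟨0, (pow_zero _).symm⟩
  all_goals
    rcases hP F.p F.hpP with e | e | e
    · exact absurd e F.p_ne
  · exact ⟨1, by rw [pow_one, e, h]⟩
  · exact ⟨2, by rw [e, h, eq_comm, inv_pow, inv_eq_iff_eq_inv, eq_inv_iff_mul_eq_one, ← pow_succ]; exact S.P_pow_three hg⟩
  · exact ⟨2, by rw [e, h, eq_comm, eq_inv_iff_mul_eq_one, ← pow_succ]; exact S.P_pow_three hg⟩
  · exact ⟨1, by rw [pow_one, e, h]⟩

/-- The elements `a * p ^ i`. -/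
def el (i : ℕ) : G := F.a * F.p ^ i

theorem el_mem (i : ℕ) : F.el i ∈ S.C := mul_mem F.haC (pow_mem F.hpC i)

theorem el_pow (i : ℕ) : F.el i ^ 3 = 1 := by
  rw [el, ((F.commute_p F.haC).pow_right i).mul_pow, F.ha, one_mul, ← pow_mul, mul_comm, pow_mul, F.p_pow, one_pow]

theorem el_mod (i : ℕ) : F.el (i % 3) = F.el i := by rw [el, el, ← pow_eq_pow_mod _ F.p_pow]

theorem b_el (i : ℕ) : F.b * F.el i * F.b⁻¹ = F.el (i + 1) := by
  rw [el, el, pow_succ', show F.b * (F.a * F.p ^ i) * F.b⁻¹ = (F.b * F.a * F.b⁻¹) * (F.b * F.p ^ i * F.b⁻¹) by group,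
    F.hba, ((F.commute_p F.hbC).pow_right i).eq, mul_inv_cancel_right, mul_assoc]

/-- The three planes. -/
abbrev W (i : ℕ) : Subgroup G := S.fixE (F.el i)

theorem W_mod (i : ℕ) : F.W (i % 3) = F.W i := by rw [W, F.el_mod]

theorem b_W {i : ℕ} {e : G} (he : e ∈ F.W i) : F.b * e * F.b⁻¹ ∈ F.W (i + 1) := by
  have := S.conj_fixE (commute_z F.hbC) he
  rwa [F.b_el] at this

theorem card_W (i : ℕ) : Nat.card (F.W i) = Nat.card (F.W 0) := by
  induction i with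
  | zero => rfl
  | succ i ih => rw [W, ← F.b_el, S.card_fixE_conj (commute_z F.hbC)]; exact ih

theorem fixed_p {e : G} (he : e ∈ S.E) (hp : Commute e F.p) : e ∈ Subgroup.zpowers S.z := by
  rw [← S.hCP]
  refine ⟨he, Subgroup.mem_centralizer_iff.2 fun q hq => ?_⟩
  obtain ⟨i, rfl⟩ := F.P_eq hq
  exact (hp.pow_right i).eq.symm

theorem commute_z_zpowers {x c : G} (hx : Commute x S.z) (hc : c ∈ Subgroup.zpowers S.z) : Commute x c := by
  rcases S.hE.eq_or hc with rfl | rfl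
  exacts [Commute.one_right x, hx]

theorem el_of_ne {i j : ℕ} (h : i % 3 ≠ j % 3) :
    ∃ k : ℕ, F.p = ((F.el i)⁻¹ * F.el j) ^ k := by
  refine ⟨((j % 3 + 3 - i % 3) % 3), ?_⟩
  rw [← F.el_mod i, ← F.el_mod j, el, el, mul_inv_rev, mul_assoc, inv_mul_cancel_left]
  have h1 : i % 3 < 3 := Nat.mod_lt _ (by norm_num)
  have h2 : j % 3 < 3 := Nat.mod_lt _ (by norm_num)
  set m := i % 3
  set n := j % 3
  have hp := F.p_pow
  have hpp : F.p⁻¹ = F.p ^ 2 := inv_eq_of_mul_eq_one_right (by rw [← pow_succ']; exact hp)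
  rw [← inv_pow, hpp, ← pow_mul, ← pow_add, ← pow_mul, pow_eq_pow_mod _ hp]
  interval_cases m <;> interval_cases n <;> first | omega | simp

theorem fixed_two {i j : ℕ} (h : i % 3 ≠ j % 3) {e : G} (hi : e ∈ F.W i) (hj : e ∈ F.W j) :
    e ∈ Subgroup.zpowers S.z := by
  obtain ⟨k, hk⟩ := F.el_of_ne h
  refine F.fixed_p (S.mem_fixE.1 hi).1 (hk ▸ ?_)
  exact (((S.mem_fixE.1 hi).2.inv_right).mul_right (S.mem_fixE.1 hj).2).pow_right k

theorem z_mem (i : ℕ) : S.z ∈ F.W i := S.mem_fixE.2 ⟨S.hE.z_mem, (commute_z (F.el_mem i)).symm⟩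

/-- Modulo `<z>`, a product over an orbit of a fixed-point-free element of order three vanishes. -/
theorem orbit_mem {x e : G} (hx : x ∈ S.C) (hx3 : x ^ 3 = 1) (he : e ∈ S.E)
    (hfix : ∀ c ∈ S.E, Commute c x → c = e * (x * e * x⁻¹) * (x * (x * e * x⁻¹) * x⁻¹) ∨
      c = e * (x * e * x⁻¹) * (x * (x * e * x⁻¹) * x⁻¹) * S.z → c ∈ Subgroup.zpowers S.z) :
    e * (x * e * x⁻¹) * (x * (x * e * x⁻¹) * x⁻¹) ∈ Subgroup.zpowers S.z := by
  set e1 := x * e * x⁻¹ with he1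
  set e2 := x * e1 * x⁻¹ with he2
  have hz := commute_z hx
  have h1 : e1 ∈ S.E := S.hE.conj_mem hz he
  have h2 : e2 ∈ S.E := S.hE.conj_mem hz h1
  have h3 : x * e2 * x⁻¹ = e := by
    rw [he2, he1]
    calc x * (x * (x * e * x⁻¹) * x⁻¹) * x⁻¹ = x ^ 3 * e * (x ^ 3)⁻¹ := by
          rw [pow_succ, pow_two]; group
      _ = e := by rw [hx3]; simp
  set c := e * e1 * e2 with hc
  have hcE : c ∈ S.E := mul_mem (mul_mem he h1) h2
  have hconj : x * c * x⁻¹ = e1 * e2 * e := by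
    rw [hc, show x * (e * e1 * e2) * x⁻¹ = (x * e * x⁻¹) * (x * e1 * x⁻¹) * (x * e2 * x⁻¹) by group,
      ← he1, ← he2, h3]
  -- `x` fixes `c` modulo `z`
  have h4 : x * c * x⁻¹ = c ∨ x * c * x⁻¹ = c * S.z := by
    rw [hconj, hc, show e1 * e2 * e = e⁻¹ * (e * e1 * e2) * e by group]
    rcases S.hE.conj_eq_or (inv_mem he) hcE with h | h <;> rw [inv_inv] at h <;> rw [h]
    · exact Or.inl rfl
    · exact Or.inr (S.hE.commute_z hcE).eq.symm
  exact hfix c hcE (mul_inv_eq_iff_eq_mul.1 (h4.resolve_right fun h => by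
    have h5 : x ^ 3 * c * (x ^ 3)⁻¹ = c * S.z := by
      have hxz : x * S.z * x⁻¹ = S.z := by rw [hz.eq, mul_inv_cancel_right]
      have h6 : x * (c * S.z) * x⁻¹ = c := by
        rw [show x * (c * S.z) * x⁻¹ = (x * c * x⁻¹) * (x * S.z * x⁻¹) by group, h, hxz, mul_assoc,
          S.hE.mul_self_z, mul_one]
      rw [show x ^ 3 * c * (x ^ 3)⁻¹ = x * (x * (x * c * x⁻¹) * x⁻¹) * x⁻¹ by rw [pow_succ, pow_two]; group,
        h, h6, h]
    rw [hx3, one_mul, inv_one, mul_one, left_eq_mul] at h5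
    exact S.hE.z_ne_one h5)).symm (Or.inl rfl)

theorem commute_W {i j : ℕ} (h : i % 3 ≠ j % 3) {u e : G} (hu : u ∈ F.W i) (he : e ∈ F.W j) :
    Commute u e := by
  set x := F.el i with hx
  have hxC := F.el_mem i
  have hxz := commute_z hxC
  obtain ⟨huE, hux⟩ := S.mem_fixE.1 hu
  obtain ⟨heE, hej⟩ := S.mem_fixE.1 he
  set e1 := x * e * x⁻¹ with he1
  set e2 := x * e1 * x⁻¹ with he2
  have hcomm_el : Commute (F.el j) x := by
    rw [hx, el, el]
    have c := F.commute_p F.haC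
    exact ((Commute.refl F.a).mul_right (c.pow_right i)).mul_left
      ((c.symm.pow_left j).mul_right ((Commute.refl F.p).pow_pow j i))
  have h1 : e1 ∈ F.W j := S.commute_fixE hcomm_el.symm hxz he
  have h2 : e2 ∈ F.W j := S.commute_fixE hcomm_el.symm hxz h1
  have hprod : e * e1 * e2 ∈ Subgroup.zpowers S.z := orbit_mem hxC (F.el_pow i) heE fun c hcE hcx hc => by
    refine F.fixed_two h (S.mem_fixE.2 ⟨hcE, hcx⟩) ?_
    rcases hc with rfl | rfl
    exacts [mul_mem (mul_mem he h1) h2, mul_mem (mul_mem (mul_mem he h1) h2) (F.z_mem j)]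
  -- the commutator with `u` is invariant under `x`
  have hχ : ∀ {d : G}, d ∈ S.E → (Commute u d ↔ Commute u (x * d * x⁻¹)) := fun {d} _ => by
    rw [← LargeData.commute_conj_iff' (g := x) (a := u), show x * u * x⁻¹ = u by rw [hux.symm.eq, mul_inv_cancel_right]]
  by_contra hne
  have n0 : u * e * u⁻¹ = S.z * e := (S.hE.conj_eq_or huE heE).resolve_left fun c => hne (mul_inv_eq_iff_eq_mul.1 c)
  have n1 : u * e1 * u⁻¹ = S.z * e1 := (S.hE.conj_eq_or huE (S.mem_fixE.1 h1).1).resolve_left fun c =>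
    hne ((hχ heE).2 (mul_inv_eq_iff_eq_mul.1 c))
  have n2 : u * e2 * u⁻¹ = S.z * e2 := (S.hE.conj_eq_or huE (S.mem_fixE.1 h2).1).resolve_left fun c =>
    hne ((hχ heE).2 ((hχ (S.mem_fixE.1 h1).1).2 (mul_inv_eq_iff_eq_mul.1 c)))
  have hz3 : u * (e * e1 * e2) * u⁻¹ = S.z * (e * e1 * e2) := by
    rw [show u * (e * e1 * e2) * u⁻¹ = (u * e * u⁻¹) * (u * e1 * u⁻¹) * (u * e2 * u⁻¹) by group, n0, n1, n2]
    have c1 : Commute e S.z := S.hE.commute_z heE
    have c2 : Commute e1 S.z := S.hE.commute_z (S.mem_fixE.1 h1).1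
    calc S.z * e * (S.z * e1) * (S.z * e2) = S.z * (e * S.z) * (e1 * S.z) * e2 := by group
      _ = S.z * (S.z * e) * (S.z * e1) * e2 := by rw [c1.eq, c2.eq]
      _ = S.z * S.z * (e * S.z) * e1 * e2 := by group
      _ = _ := by rw [S.hE.mul_self_z, one_mul, c1.eq]; group
  have hc : Commute u (e * e1 * e2) := commute_z_zpowers (S.hE.commute_z huE) hprod
  rw [hc.eq, mul_inv_cancel_right, right_eq_mul] at hz3
  exact S.hE.z_ne_one hz3

/-- The group `⟨a, p⟩`. -/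
def A : Subgroup G := Subgroup.closure {F.a, F.p}

theorem A_comm : IsMulCommutative F.A := Subgroup.isMulCommutative_closure (by
  have c := F.commute_p F.haC
  rintro x (rfl | rfl) y (rfl | rfl)
  exacts [rfl, c.eq, c.eq.symm, rfl])

theorem mem_A {x : G} : x ∈ F.A ↔ ∃ i j : ℕ, x = F.a ^ i * F.p ^ j := by
  have c := F.commute_p F.haC
  constructor
  · intro hx
    induction hx using Subgroup.closure_induction with
    | mem x hx =>
      rcases hx with rfl | rfl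
      exacts [⟨1, 0, by simp⟩, ⟨0, 1, by simp⟩]
    | one => exact ⟨0, 0, by simp⟩
    | mul x y _ _ hx hy =>
      obtain ⟨i, j, rfl⟩ := hx
      obtain ⟨k, l, rfl⟩ := hy
      refine ⟨i + k, j + l, ?_⟩
      rw [pow_add, pow_add, mul_assoc, ← mul_assoc (F.p ^ j), (c.symm.pow_pow j k).eq]; group
    | inv x _ hx =>
      obtain ⟨i, j, rfl⟩ := hx
      refine ⟨2 * i, 2 * j, ?_⟩
      rw [((c.pow_pow i j)).mul_inv, eq_comm]
      have h1 : F.a ^ (2 * i) = (F.a ^ i)⁻¹ := eq_inv_of_mul_eq_one_left (by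
        rw [← pow_add, show 2 * i + i = 3 * i by ring, pow_mul, F.ha, one_pow])
      have h2 : F.p ^ (2 * j) = (F.p ^ j)⁻¹ := eq_inv_of_mul_eq_one_left (by
        rw [← pow_add, show 2 * j + j = 3 * j by ring, pow_mul, F.p_pow, one_pow])
      rw [h1, h2]
  · rintro ⟨i, j, rfl⟩
    show _ ∈ Subgroup.closure ({F.a, F.p} : Set G)
    exact mul_mem (pow_mem (Subgroup.subset_closure (Set.mem_insert F.a _)) i)
      (pow_mem (Subgroup.subset_closure (Set.mem_insert_of_mem F.a (Set.mem_singleton F.p))) j)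

theorem A_le_C : F.A ≤ S.C := (Subgroup.closure_le _).2 (by
  rintro x (rfl | rfl)
  exacts [F.haC, F.hpC])

theorem A_exp {x : G} (hx : x ∈ F.A) : x ^ 3 = 1 := by
  obtain ⟨i, j, rfl⟩ := F.mem_A.1 hx
  rw [((F.commute_p F.haC).pow_pow i j).mul_pow, ← pow_mul, ← pow_mul, mul_comm, pow_mul, F.ha, mul_comm j,
    pow_mul, F.p_pow, one_pow, one_pow, one_mul]

theorem card_A : 3 ^ 2 ≤ Nat.card F.A := by
  have hne : F.a ∉ Subgroup.zpowers F.p := fun h => by
    have h1 : S.f F.a = 1 := (S.f_eq_one_iff (S.C_le_H0 F.haC)).2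
      (Subgroup.mem_sup_right (Subgroup.zpowers_le.2 F.hpP h))
    exact F.hcfg.hr1 h1
  have hlt : Subgroup.zpowers F.p < F.A := lt_of_le_of_ne (Subgroup.zpowers_le.2 (Subgroup.subset_closure (Or.inr rfl)))
    fun e => hne (e ▸ Subgroup.subset_closure (Or.inl rfl))
  obtain ⟨k, hk⟩ := Subgroup.card_dvd_of_le hlt.le
  rw [Nat.card_zpowers, F.hp3] at hk
  rcases k with _ | _ | _ | k
  · have : 0 < Nat.card F.A := Nat.card_pos; omega
  · exact absurd (Subgroup.eq_of_le_of_card_ge hlt.le (by rw [Nat.card_zpowers, F.hp3]; omega)) hlt.ne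
  · exfalso
    haveI : Fact (Nat.Prime 3) := ⟨Nat.prime_three⟩
    have hp : IsPGroup 3 F.A := fun g => ⟨1, Subtype.ext (by simpa using F.A_exp g.2)⟩
    obtain ⟨n, hn⟩ := IsPGroup.iff_card.1 hp
    have h2 : 2 ∣ 3 ^ n := ⟨3, by omega⟩
    exact absurd (Nat.prime_two.dvd_of_dvd_pow h2) (by norm_num)
  · rw [hk]; omega

theorem generation : S.E ≤ F.W 0 ⊔ F.W 1 ⊔ F.W 2 := by
  haveI : Fact (Nat.Prime 3) := ⟨Nat.prime_three⟩
  haveI := F.A_comm
  refine CfsgLib.LocalEven.le_of_centralizers_le (p := 3) (fun a ha => F.A_exp ha) F.card_A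
    (fun x hx => S.hE.hnorm (S.C_le_H0 (F.A_le_C hx) |> fun h => S.hH0 h)) (by rw [S.hcard]; norm_num) ?_
  intro x hx hx1 e he
  obtain ⟨heE, hec⟩ := S.mem_fixE.1 he
  obtain ⟨i, j, rfl⟩ := F.mem_A.1 hx
  have hc := F.commute_p F.haC
  rw [pow_eq_pow_mod i F.ha] at hec hx1
  have hi : i % 3 < 3 := Nat.mod_lt _ (by norm_num)
  rcases (show i % 3 = 0 ∨ i % 3 = 1 ∨ i % 3 = 2 by omega) with h | h | h <;> rw [h] at hec hx1
  · rw [pow_zero, one_mul] at hec hx1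
    refine Subgroup.mem_sup_left (Subgroup.mem_sup_left (Subgroup.zpowers_le.2 (F.z_mem 0) (F.fixed_p heE ?_)))
    have hj : j % 3 ≠ 0 := fun h0 => hx1 (by rw [pow_eq_pow_mod j F.p_pow, h0, pow_zero])
    rw [pow_eq_pow_mod j F.p_pow] at hec
    rcases (show j % 3 = 1 ∨ j % 3 = 2 by omega) with h' | h' <;> rw [h'] at hec
    · simpa using hec
    · have := hec.pow_right 2
      rwa [← pow_mul, pow_eq_pow_mod _ F.p_pow, show 2 * 2 % 3 = 1 from rfl, pow_one] at this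
  · rw [pow_one] at hec
    have hmem : e ∈ F.W (j % 3) := by rw [F.W_mod]; exact S.mem_fixE.2 ⟨heE, hec⟩
    rcases (show j % 3 = 0 ∨ j % 3 = 1 ∨ j % 3 = 2 by omega) with h' | h' | h' <;> rw [h'] at hmem
    exacts [Subgroup.mem_sup_left (Subgroup.mem_sup_left hmem), Subgroup.mem_sup_left (Subgroup.mem_sup_right hmem),
      Subgroup.mem_sup_right hmem]
  · have h2 := hec.pow_right 2
    rw [(hc.pow_pow 2 j).mul_pow, ← pow_mul, ← pow_mul, pow_eq_pow_mod (2 * 2) F.ha, show 2 * 2 % 3 = 1 from rfl,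
      pow_one, pow_eq_pow_mod (j * 2) F.p_pow] at h2
    have hmem : e ∈ F.W (j * 2 % 3) := S.mem_fixE.2 ⟨heE, h2⟩
    rcases (show j * 2 % 3 = 0 ∨ j * 2 % 3 = 1 ∨ j * 2 % 3 = 2 by omega) with h' | h' | h' <;> rw [h'] at hmem
    exacts [Subgroup.mem_sup_left (Subgroup.mem_sup_left hmem), Subgroup.mem_sup_left (Subgroup.mem_sup_right hmem),
      Subgroup.mem_sup_right hmem]

/-- Every element is a product of three components. -/
theorem decomp {e : G} (he : e ∈ S.E) :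
    ∃ x ∈ F.W 0, ∃ y ∈ F.W 1, ∃ t ∈ F.W 2, e = x * y * t := by
  have h01 : F.W 0 ≤ Subgroup.normalizer (F.W 1 : Set G) := by
    refine le_trans ?_ (Subgroup.centralizer_le_normalizer _)
    exact fun x hx => Subgroup.mem_centralizer_iff.2 fun y hy => (F.commute_W (by decide) hx hy).eq.symm
  have h012 : F.W 0 ⊔ F.W 1 ≤ Subgroup.normalizer (F.W 2 : Set G) := by
    refine (sup_le ?_ ?_).trans (Subgroup.centralizer_le_normalizer _) <;>
      exact fun x hx => Subgroup.mem_centralizer_iff.2 fun y hy => (F.commute_W (by decide) hx hy).eq.symm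
  obtain ⟨xy, hxy, t, ht, rfl⟩ := (CfsgLib.Core.mem_sup_iff_mul h012).1 (F.generation he)
  obtain ⟨x, hx, y, hy, rfl⟩ := (CfsgLib.Core.mem_sup_iff_mul h01).1 hxy
  exact ⟨x, hx, y, hy, t, ht, rfl⟩

theorem center_W (i : ℕ) {e : G} (he : e ∈ F.W i) (hc : ∀ u ∈ F.W i, Commute u e) :
    e ∈ Subgroup.zpowers S.z := by
  rw [← S.hE.hcent, Subgroup.mem_centralizer_iff]
  intro u hu
  obtain ⟨x, hx, y, hy, t, ht, rfl⟩ := F.decomp hu
  have key : ∀ {k : ℕ} {d : G}, d ∈ F.W k → Commute d e := by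
    intro k d hd
    by_cases hk : k % 3 = i % 3
    · exact hc d (by rw [← F.W_mod i, ← hk, F.W_mod]; exact hd)
    · exact F.commute_W hk hd he
  exact (((key hx).mul_left (key hy)).mul_left (key ht)).eq

theorem card_W_zero : Nat.card (F.W 0) = 32 := by
  let f : ↥(F.W 0) × ↥(F.W 1) × ↥(F.W 2) → ↥S.E := fun x =>
    ⟨x.1 * x.2.1 * x.2.2, mul_mem (mul_mem (S.mem_fixE.1 x.1.2).1 (S.mem_fixE.1 x.2.1.2).1) (S.mem_fixE.1 x.2.2.2).1⟩
  -- fibres have four elements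
  have hz : ∀ i, ∀ c ∈ Subgroup.zpowers S.z, c ∈ F.W i := fun i c hc => Subgroup.zpowers_le.2 (F.z_mem i) hc
  have hfib : ∀ x y t x' y' t' : G, x ∈ F.W 0 → y ∈ F.W 1 → t ∈ F.W 2 → x' ∈ F.W 0 → y' ∈ F.W 1 → t' ∈ F.W 2 →
      x * y * t = x' * y' * t' → x⁻¹ * x' ∈ Subgroup.zpowers S.z ∧ y⁻¹ * y' ∈ Subgroup.zpowers S.z := by
    intro x y t x' y' t' hx hy ht hx' hy' ht' e
    have c01 : ∀ {p q : G}, p ∈ F.W 0 → q ∈ F.W 1 → Commute p q := fun hp hq => F.commute_W (by decide) hp hq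
    have hm : (x⁻¹ * x') * (y⁻¹ * y') = t * t'⁻¹ := by
      calc (x⁻¹ * x') * (y⁻¹ * y') = x⁻¹ * (x' * y⁻¹) * y' := by group
        _ = x⁻¹ * (y⁻¹ * x') * y' := by rw [(c01 hx' (inv_mem hy)).eq]
        _ = (x⁻¹ * y⁻¹) * (x' * y' * t') * t'⁻¹ := by group
        _ = (y⁻¹ * x⁻¹) * (x * y * t) * t'⁻¹ := by rw [(c01 (inv_mem hx) (inv_mem hy)).eq, e]
        _ = _ := by group
    have h2 : t * t'⁻¹ ∈ F.W 2 := mul_mem ht (inv_mem ht')
    have hxx : x⁻¹ * x' ∈ Subgroup.zpowers S.z := by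
      refine F.center_W 0 (mul_mem (inv_mem hx) hx') fun u hu => ?_
      have h3 : Commute u (t * t'⁻¹ * (y⁻¹ * y')⁻¹) :=
        (F.commute_W (by decide) hu h2).mul_right (F.commute_W (by decide) hu (mul_mem (inv_mem hy) hy')).inv_right
      rwa [← hm, mul_inv_cancel_right] at h3
    refine ⟨hxx, F.center_W 1 (mul_mem (inv_mem hy) hy') fun u hu => ?_⟩
    have h3 : Commute u ((x⁻¹ * x')⁻¹ * (t * t'⁻¹)) :=
      (commute_z_zpowers (S.hE.commute_z (S.mem_fixE.1 hu).1) hxx).inv_right.mul_right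
        (F.commute_W (by decide) hu h2)
    rwa [← hm, inv_mul_cancel_left] at h3
  classical
  have hzc : Nat.card (Subgroup.zpowers S.z) = 2 := by rw [Nat.card_zpowers, S.orderOf_z]
  choose dx hdx dy hdy dt hdt hde using fun e : ↥S.E => F.decomp e.2
  let g : ↥S.E × ↥(Subgroup.zpowers S.z) × ↥(Subgroup.zpowers S.z) → ↥(F.W 0) × ↥(F.W 1) × ↥(F.W 2) := fun q =>
    (⟨dx q.1 * q.2.1, mul_mem (hdx q.1) (hz 0 _ q.2.1.2)⟩,
     ⟨dy q.1 * q.2.2, mul_mem (hdy q.1) (hz 1 _ q.2.2.2)⟩,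
     ⟨dt q.1 * (q.2.1 : G)⁻¹ * (q.2.2 : G)⁻¹,
       mul_mem (mul_mem (hdt q.1) (inv_mem (hz 2 _ q.2.1.2))) (inv_mem (hz 2 _ q.2.2.2))⟩)
  have hfg : ∀ q, f (g q) = q.1 := fun q => by
    refine Subtype.ext ?_
    show dx q.1 * q.2.1 * (dy q.1 * q.2.2) * (dt q.1 * (q.2.1 : G)⁻¹ * (q.2.2 : G)⁻¹) = q.1
    conv_rhs => rw [hde q.1]
    have hx := (S.mem_fixE.1 (hdx q.1)).1
    have hy := (S.mem_fixE.1 (hdy q.1)).1
    have ht := (S.mem_fixE.1 (hdt q.1)).1
    set x := dx q.1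
    set y := dy q.1
    set t := dt q.1
    have cy : Commute y (q.2.1 : G) := commute_z_zpowers (S.hE.commute_z hy) q.2.1.2
    have ct1 : Commute t (q.2.1 : G) := commute_z_zpowers (S.hE.commute_z ht) q.2.1.2
    have ct2 : Commute t (q.2.2 : G) := commute_z_zpowers (S.hE.commute_z ht) q.2.2.2
    calc x * q.2.1 * (y * q.2.2) * (t * (q.2.1 : G)⁻¹ * (q.2.2 : G)⁻¹)
        = x * (q.2.1 * y) * (q.2.2 * t) * (q.2.1 : G)⁻¹ * (q.2.2 : G)⁻¹ := by group
      _ = x * (y * q.2.1) * (t * q.2.2) * (q.2.1 : G)⁻¹ * (q.2.2 : G)⁻¹ := by rw [cy.eq, ct2.eq]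
      _ = x * y * (q.2.1 * t) * (q.2.2 * (q.2.1 : G)⁻¹) * (q.2.2 : G)⁻¹ := by group
      _ = x * y * (t * q.2.1) * ((q.2.1 : G)⁻¹ * q.2.2) * (q.2.2 : G)⁻¹ := by
        rw [ct1.eq, (commute_z_zpowers (commute_z_zpowers (Commute.refl S.z) q.2.2.2).symm q.2.1.2).inv_right.eq]
      _ = _ := by group
  have hbij : Function.Bijective g := by
    constructor
    · intro q q' e
      have e1 : q.1 = q'.1 := by rw [← hfg q, ← hfg q', e]
      obtain ⟨q1, c, d⟩ := q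
      obtain ⟨q1', c', d'⟩ := q'
      obtain rfl : q1 = q1' := e1
      have ec : (c : G) = c' := mul_left_cancel (congrArg (fun r => ((r.1 : ↥(F.W 0)) : G)) e)
      have ed : (d : G) = d' := mul_left_cancel (congrArg (fun r => ((r.2.1 : ↥(F.W 1)) : G)) e)
      rw [Subtype.ext ec, Subtype.ext ed]
    · rintro ⟨⟨x, hx⟩, ⟨y, hy⟩, ⟨t, ht⟩⟩
      set e : ↥S.E := f (⟨x, hx⟩, ⟨y, hy⟩, ⟨t, ht⟩) with he
      obtain ⟨hc, hd⟩ := hfib _ _ _ x y t (hdx e) (hdy e) (hdt e) hx hy ht (hde e).symm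
      refine ⟨(e, ⟨_, hc⟩, ⟨_, hd⟩), ?_⟩
      have hg := hfg (e, ⟨_, hc⟩, ⟨_, hd⟩)
      have e0 : (g (e, ⟨_, hc⟩, ⟨_, hd⟩)).1 = ⟨x, hx⟩ := Subtype.ext (mul_inv_cancel_left _ x)
      have e1 : (g (e, ⟨_, hc⟩, ⟨_, hd⟩)).2.1 = ⟨y, hy⟩ := Subtype.ext (mul_inv_cancel_left _ y)
      refine Prod.ext e0 (Prod.ext e1 (Subtype.ext ?_))
      have hv : ((g (e, ⟨_, hc⟩, ⟨_, hd⟩)).1 : G) * (g (e, ⟨_, hc⟩, ⟨_, hd⟩)).2.1 *
          (g (e, ⟨_, hc⟩, ⟨_, hd⟩)).2.2 = x * y * t := congrArg Subtype.val hg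
      rw [e0, e1] at hv
      exact mul_left_cancel hv
  have hcardeq := Nat.card_congr (Equiv.ofBijective g hbij)
  simp only [Nat.card_prod, hzc, S.hcard, F.card_W 1, F.card_W 2] at hcardeq
  nlinarith [sq_nonneg ((Nat.card ↥(F.W 0) : ℤ) - 32)]

theorem card_W_all (i : ℕ) : Nat.card (F.W i) = 32 := (F.card_W i).trans F.card_W_zero

theorem W_extraspecial (i : ℕ) : IsExtraspecial 2 (F.W i) := by
  refine S.hE.isExtraspecial_sub inf_le_left ?_ fun y hy hc => F.center_W i hy hc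
  by_contra h
  simp only [not_exists, not_and, not_not] at h
  have hle : F.W i ≤ Subgroup.zpowers S.z := fun y hy => F.center_W i hy fun u hu => h u hu y hy
  have := Subgroup.card_le_of_le hle
  rw [F.card_W_all, Nat.card_zpowers, S.orderOf_z] at this
  omega

theorem W_center (i : ℕ) : (Subgroup.center (F.W i)).map (F.W i).subtype = Subgroup.zpowers S.z := by
  apply le_antisymm
  · rintro _ ⟨y, hy, rfl⟩
    exact F.center_W i y.2 fun u hu => congrArg Subtype.val (Subgroup.mem_center_iff.1 hy ⟨u, hu⟩)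
  · refine Subgroup.zpowers_le.2 (Subgroup.mem_map.2 ⟨⟨S.z, F.z_mem i⟩, Subgroup.mem_center_iff.2 fun u => ?_, rfl⟩)
    exact Subtype.ext (S.hE.commute_z (S.mem_fixE.1 u.2).1).eq

end Frame

end CfsgLib.JankoFour
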