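import Cfsg.Prelude.Def_JankoFourType
import Cfsg.Agent.Lib.JankoFour.M22Facts
import Cfsg.Agent.Lib.ThreeTrans.LargeExtra
import Cfsg.Agent.Lib.Core.Cores

/-!
# The centralizer of an involution of Janko-four type (owner: helper14)

From `Cfsg.IsOfJankoFourTypeWith z P` we produce the subgroup `H0 = E * C` of index two in `H = C(z)` with
its map onto the Mathieu group, and the first consequences.
-/

set_option autoImplicit false

namespace CfsgLib.JankoFour

open Cfsg CfsgLib.ThreeTrans CfsgLib.Sporadic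
open CfsgLib.JankoFour.M22 (Grp)
open scoped commutatorElement

variable (G : Type*) [Group G]

/-- The data of a centralizer of Janko-four type. -/
structure Setting where
  /-- the involution -/
  z : G
  /-- the subgroup of order three -/
  P : Subgroup G
  /-- the extraspecial subgroup -/
  E : Subgroup G
  /-- the subgroup of index two in the centralizer -/
  H0 : Subgroup G
  /-- the map onto the Mathieu group -/
  φ : ↥H0 →* Grp
  hE : LargeData z E
  hcard : Nat.card E = 2 ^ 13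
  hEH0 : E ≤ H0
  hH0 : H0 ≤ Subgroup.centralizer ({z} : Set G)
  hnorm : ∀ h : G, Commute h z → ∀ x ∈ H0, h * x * h⁻¹ ∈ H0
  hidx : ∀ h k : G, Commute h z → Commute k z → h ∉ H0 → k ∉ H0 → h * k ∈ H0
  hPH0 : P ≤ H0
  hPc : Nat.card P = 3
  hCP : E ⊓ Subgroup.centralizer (P : Set G) = Subgroup.zpowers z
  hφ : Function.Surjective φ
  hker : ∀ x : H0, φ x = 1 ↔ (x : G) ∈ E ⊔ P
  /-- the kernel is normalized -/
  hEPn : ∀ h : G, Commute h z → ∀ x ∈ E ⊔ P, h * x * h⁻¹ ∈ E ⊔ P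
  /-- only elements of `E P` act trivially on the Mathieu group -/
  hfaith : ∀ (h : G) (hh : Commute h z),
    (∀ x : H0, φ ⟨h * x * h⁻¹, hnorm h hh x x.2⟩ = φ x) → h ∈ E ⊔ P
  hder : P ≤ ⁅Subgroup.centralizer ({z} : Set G) ⊓ Subgroup.centralizer (P : Set G),
    Subgroup.centralizer ({z} : Set G) ⊓ Subgroup.centralizer (P : Set G)⁆
  hne : Subgroup.centralizer ({z} : Set G) ⊓ Subgroup.normalizer (P : Set G) ≠
    Subgroup.centralizer ({z} : Set G) ⊓ Subgroup.centralizer (P : Set G)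

variable {G}

theorem center_grp : Subgroup.center Grp = ⊥ := by
  haveI := sporM22_isSimple
  rcases (inferInstance : (Subgroup.center Grp).Normal).eq_bot_or_eq_top with h | h
  · exact h
  · obtain ⟨r, s, v, w, hC⟩ := M22.exists_config
    exfalso
    have hs : Commute s v := (Subgroup.mem_center_iff.1 (h ▸ Subgroup.mem_top v : v ∈ Subgroup.center Grp) s)
    exact hC.hne (by rw [← hC.hsv, hs.eq, mul_inv_cancel_right])

theorem conj_injective : Function.Injective (MulAut.conj : Grp →* MulAut Grp) := by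
  refine (injective_iff_map_eq_one _).2 fun g hg => ?_
  have : g ∈ Subgroup.center Grp := Subgroup.mem_center_iff.2 fun k => by
    have h1 : g * k * g⁻¹ = k := DFunLike.congr_fun hg k
    exact (mul_inv_eq_iff_eq_mul.1 h1).symm
  rwa [center_grp, Subgroup.mem_bot] at this

theorem conj_range_normal (ψ : MulAut Grp) (g : Grp) :
    ψ * MulAut.conj g * ψ⁻¹ = MulAut.conj (ψ g) := by
  refine MulEquiv.ext fun x => ?_
  show ψ (g * ψ⁻¹ x * g⁻¹) = ψ g * x * (ψ g)⁻¹
  rw [map_mul, map_mul, map_inv, show ψ (ψ⁻¹ x) = x from ψ.apply_symm_apply x]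

theorem index_conj_range : (MulAut.conj : Grp →* MulAut Grp).range.index = 2 :=
  M22Aut.card_out

/-- The setting from the definition. -/
theorem exists_setting [Finite G] {z : G} {P : Subgroup G} (hJ : IsOfJankoFourTypeWith z P) :
    ∃ S : Setting G, S.z = z ∧ S.P = P := by
  haveI : Fact (Nat.Prime 2) := ⟨Nat.prime_two⟩
  obtain ⟨hz, hE, hEc, hCE, ⟨N, hEN, hNH, hHN, hNc, ⟨hn, ⟨e⟩⟩, hPN⟩, hPc, hCP, hne, hder⟩ := hJ
  set E := twoCoreOfCentralizer z with hEdef
  set H := Subgroup.centralizer ({z} : Set G) with hHdef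
  have hEH : E ≤ H := Subgroup.map_subtype_le _
  have hzE : z ∈ E := (hCP ▸ Subgroup.mem_zpowers z : z ∈ E ⊓ _).1
  have hcz : ∀ x ∈ E, Commute x z := fun x hx => mem_centralizer_singleton_iff'.1 (hEH hx)
  have hcenter : (Subgroup.center E).map E.subtype = Subgroup.zpowers z := by
    have hzc : z ∈ (Subgroup.center E).map E.subtype := Subgroup.mem_map.2 ⟨⟨z, hzE⟩,
      Subgroup.mem_center_iff.2 fun x => Subtype.ext (hcz x x.2).eq, rfl⟩
    refine (Subgroup.eq_of_le_of_card_ge (Subgroup.zpowers_le.2 hzc) ?_).symm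
    rw [Subgroup.card_subtype, hE.2, Nat.card_zpowers, hz]
  have hcent : Subgroup.centralizer (E : Set G) = Subgroup.zpowers z := by
    refine le_antisymm (fun c hc => ?_) (Subgroup.zpowers_le.2 ?_)
    · have hcH : c ∈ H := mem_centralizer_singleton_iff'.2 (Subgroup.mem_centralizer_iff.1 hc z hzE).symm
      rw [← hcenter]
      exact ⟨⟨c, hCE ⟨hcH, hc⟩⟩, Subgroup.mem_center_iff.2 fun x =>
        Subtype.ext (Subgroup.mem_centralizer_iff.1 hc x x.2), rfl⟩
    · rw [Subgroup.mem_centralizer_iff]; exact fun x hx => (hcz x hx).eq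
  haveI hEn : (E.subgroupOf H).Normal := by
    rw [hEdef, twoCoreOfCentralizer, Subgroup.subgroupOf, Subgroup.comap_map_eq_self_of_injective
      H.subtype_injective]
    exact inferInstance
  have hnE : H ≤ Subgroup.normalizer (E : Set G) := Subgroup.normal_subgroupOf_iff_le_normalizer hEH |>.1 hEn
  have hL : LargeData z E := ⟨hz, hE, hcenter, hcent, hnE⟩
  -- the map to the automorphism group
  let N' := N.subgroupOf H
  haveI : N'.Normal := hn
  let ψ : ↥H →* MulAut Grp := e.toMonoidHom.comp (QuotientGroup.mk' N')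
  have hψ : Function.Surjective ψ := e.surjective.comp (QuotientGroup.mk'_surjective _)
  have hψker : ∀ x : H, ψ x = 1 ↔ (x : G) ∈ N := fun x => by
    show e (QuotientGroup.mk' N' x) = 1 ↔ _
    rw [MulEquiv.map_eq_one_iff, QuotientGroup.mk'_apply, QuotientGroup.eq_one_iff, Subgroup.mem_subgroupOf]
  have hEP : E ⊔ P = N := by
    refine Subgroup.eq_of_le_of_card_ge (sup_le hEN hPN) ?_
    have h1 : Nat.card E ∣ Nat.card ↥(E ⊔ P) := Subgroup.card_dvd_of_le le_sup_left
    have h2 : Nat.card P ∣ Nat.card ↥(E ⊔ P) := Subgroup.card_dvd_of_le le_sup_right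
    rw [hPc] at h2
    have h3 : 3 * Nat.card E ∣ Nat.card ↥(E ⊔ P) :=
      Nat.Coprime.mul_dvd_of_dvd_of_dvd (by rw [hEc]; decide) h2 h1
    rw [hNc]
    exact Nat.le_of_dvd Nat.card_pos h3
  let cj : Grp →* MulAut Grp := MulAut.conj
  let I : Subgroup H := cj.range.comap ψ
  let H0 : Subgroup G := I.map H.subtype
  have hH0H : H0 ≤ H := Subgroup.map_subtype_le _
  have hmem : ∀ {x : G} (hx : x ∈ H), x ∈ H0 ↔ ψ ⟨x, hx⟩ ∈ cj.range := by
    intro x hx
    constructor
    · rintro ⟨y, hy, hyx⟩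
      obtain rfl : y = ⟨x, hx⟩ := Subtype.ext hyx
      exact hy
    · exact fun h => ⟨⟨x, hx⟩, h, rfl⟩
  have hNH0 : N ≤ H0 := fun x hx => (hmem (hNH hx)).2 (by
    rw [(hψker ⟨x, hNH hx⟩).2 hx]; exact one_mem _)
  have hnorm : ∀ h : G, Commute h z → ∀ x ∈ H0, h * x * h⁻¹ ∈ H0 := by
    intro h hh x hx
    have hhH : h ∈ H := mem_centralizer_singleton_iff'.2 hh.eq
    rw [hmem (mul_mem (mul_mem hhH (hH0H hx)) (inv_mem hhH))]
    obtain ⟨g, hg⟩ := (hmem (hH0H hx)).1 hx
    refine ⟨ψ ⟨h, hhH⟩ g, ?_⟩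
    rw [show (⟨h * x * h⁻¹, _⟩ : H) = ⟨h, hhH⟩ * ⟨x, hH0H hx⟩ * ⟨h, hhH⟩⁻¹ from rfl, map_mul, map_mul,
      map_inv, ← hg]
    exact (conj_range_normal _ _).symm
  let cinv : cj.range ≃* Grp := (MonoidHom.ofInjective conj_injective).symm
  let φ : ↥H0 →* Grp := cinv.toMonoidHom.comp
    ((ψ.comp (Subgroup.inclusion hH0H)).codRestrict cj.range (fun x => (hmem (hH0H x.2)).1 x.2))
  have hφspec : ∀ x : H0, cj (φ x) = ψ ⟨x, hH0H x.2⟩ := fun x => by
    show ((MonoidHom.ofInjective conj_injective (cinv _)) : MulAut Grp) = _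
    rw [MulEquiv.apply_symm_apply]; rfl
  refine ⟨⟨z, P, E, H0, φ, hL, hEc, hEN.trans hNH0, hH0H, hnorm, ?_, hPN.trans hNH0, hPc, hCP, ?_, ?_, ?_, ?_,
    hder, hne⟩, rfl, rfl⟩
  · intro h k hh hk hh0 hk0
    have hhH : h ∈ H := mem_centralizer_singleton_iff'.2 hh.eq
    have hkH : k ∈ H := mem_centralizer_singleton_iff'.2 hk.eq
    rw [hmem hhH] at hh0
    rw [hmem hkH] at hk0
    rw [hmem (mul_mem hhH hkH), show (⟨h * k, _⟩ : H) = ⟨h, hhH⟩ * ⟨k, hkH⟩ from rfl, map_mul,
      Subgroup.mul_mem_iff_of_index_two index_conj_range]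
    exact ⟨fun a => absurd a hh0, fun a => absurd a hk0⟩
  · intro g
    obtain ⟨x, hx⟩ := hψ (cj g)
    refine ⟨⟨x, (hmem x.2).2 ⟨g, hx.symm⟩⟩, conj_injective ?_⟩
    rw [hφspec]; exact hx
  · intro x
    rw [hEP, ← hψker ⟨x, hH0H x.2⟩, ← hφspec]
    exact ⟨fun h => by rw [h, map_one], fun h => conj_injective (h.trans (map_one cj).symm)⟩
  · intro h hh x hx
    rw [hEP] at hx ⊢
    exact (Subgroup.mem_normalizer_iff.1 (hHN (mem_centralizer_singleton_iff'.2 hh.eq)) x).1 hx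
  · intro h hh hx
    have hhH : h ∈ H := mem_centralizer_singleton_iff'.2 hh.eq
    rw [hEP, ← hψker ⟨h, hhH⟩]
    refine MulEquiv.ext fun g => ?_
    obtain ⟨x, rfl⟩ : ∃ x : H0, φ x = g := by
      obtain ⟨x, hx⟩ := hψ (cj g)
      refine ⟨⟨x, (hmem x.2).2 ⟨g, hx.symm⟩⟩, conj_injective ?_⟩
      rw [hφspec]; exact hx
    have h1 : cj (φ x) = ψ ⟨h, hhH⟩ * cj (φ x) * (ψ ⟨h, hhH⟩)⁻¹ := by
      conv_lhs => rw [← hx x, hφspec]
      rw [hφspec x, ← map_inv, ← map_mul, ← map_mul]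
      rfl
    rw [conj_range_normal] at h1
    exact (conj_injective h1).symm

namespace Setting

variable (S : Setting G)

/-- The centralizer of `z`. -/
abbrev H : Subgroup G := Subgroup.centralizer ({S.z} : Set G)

/-- The centralizer of `P` in `H`. -/
abbrev C : Subgroup G := S.H ⊓ Subgroup.centralizer (S.P : Set G)

theorem mem_H {x : G} : x ∈ S.H ↔ Commute x S.z := mem_centralizer_singleton_iff'

theorem mem_C {x : G} : x ∈ S.C ↔ Commute x S.z ∧ ∀ p ∈ S.P, Commute x p := by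
  rw [Subgroup.mem_inf, mem_H, Subgroup.mem_centralizer_iff]
  exact and_congr_right fun _ => forall₂_congr fun p _ => ⟨fun h => h.symm, fun h => h.symm⟩

/-- Elements outside `H0` are called outer. -/
theorem inner_mul_iff {h k : G} (hh : Commute h S.z) (hk : Commute k S.z) :
    h * k ∈ S.H0 ↔ (h ∈ S.H0 ↔ k ∈ S.H0) := by
  constructor
  · intro hhk
    constructor
    · exact fun a => by simpa using mul_mem (inv_mem a) hhk
    · exact fun a => by simpa using mul_mem hhk (inv_mem a)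
  · intro iff
    by_cases a : h ∈ S.H0
    · exact mul_mem a (iff.1 a)
    · exact S.hidx h k hh hk a fun b => a (iff.2 b)

theorem sq_mem {h : G} (hh : Commute h S.z) : h * h ∈ S.H0 := (S.inner_mul_iff hh hh).2 Iff.rfl

/-- Elements of odd order in `H` are inner. -/
theorem mem_of_odd [Finite G] {h : G} (hh : Commute h S.z) (ho : Odd (orderOf h)) : h ∈ S.H0 := by
  obtain ⟨k, hk⟩ := ho
  have h1 : h ^ (2 * k + 2) = h := by rw [show 2 * k + 2 = orderOf h + 1 by omega, pow_succ, pow_orderOf_eq_one, one_mul]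
  rw [← h1, show 2 * k + 2 = 2 * (k + 1) by ring, pow_mul, pow_two]
  exact pow_mem (S.sq_mem hh) _

theorem commutator_mem {h k : G} (hh : Commute h S.z) (hk : Commute k S.z) :
    h * k * h⁻¹ * k⁻¹ ∈ S.H0 := by
  by_cases b : k ∈ S.H0
  · exact mul_mem (S.hnorm h hh k b) (inv_mem b)
  · refine S.hidx _ _ ((hh.mul_left hk).mul_left hh.inv_left) hk.inv_left (fun c => b ?_) fun c => b (by simpa using inv_mem c)
    have := S.hnorm h⁻¹ hh.inv_left _ c
    simpa [mul_assoc] using this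

theorem orderOf_z : orderOf S.z = 2 := S.hE.hz

theorem z_mem_H0 : S.z ∈ S.H0 := S.hEH0 S.hE.z_mem

theorem P_commute_z {p : G} (hp : p ∈ S.P) : Commute p S.z := mem_centralizer_singleton_iff'.1 (S.hH0 (S.hPH0 hp))

theorem exists_p : ∃ p ∈ S.P, orderOf p = 3 ∧ ∀ q ∈ S.P, q = 1 ∨ q = p ∨ q = p⁻¹ := by
  haveI : Finite S.P := Nat.finite_of_card_ne_zero (by rw [S.hPc]; norm_num)
  haveI : Fact (Nat.Prime 3) := ⟨Nat.prime_three⟩
  obtain ⟨g, hg⟩ := exists_prime_orderOf_dvd_card' (G := S.P) 3 S.hPc.symm.dvd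
  refine ⟨g, g.2, by rw [Subgroup.orderOf_coe, hg], fun q hq => ?_⟩
  obtain ⟨k, hk⟩ : (⟨q, hq⟩ : S.P) ∈ Subgroup.zpowers g := mem_zpowers_of_prime_card S.hPc (by
    intro e; rw [e, orderOf_one] at hg; norm_num at hg)
  have h3 : (g : G) ^ (3 : ℕ) = 1 := by
    have := congrArg Subtype.val (show g ^ 3 = 1 from hg ▸ pow_orderOf_eq_one g)
    simpa using this
  have hk' : q = (g : G) ^ k := (congrArg Subtype.val hk).symm
  rw [zpow_eq_zpow_emod' k h3] at hk'
  have h1 : k % 3 = 0 ∨ k % 3 = 1 ∨ k % 3 = 2 := by omega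
  rw [hk']
  rcases h1 with h | h | h <;> rw [show k % (3 : ℕ) = k % 3 from rfl, h]
  · exact Or.inl (zpow_zero _)
  · exact Or.inr (Or.inl (zpow_one _))
  · refine Or.inr (Or.inr (eq_inv_of_mul_eq_one_left ?_))
    rw [← zpow_add_one]
    exact_mod_cast h3

end Setting

end CfsgLib.JankoFour
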