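import Cfsg.Agent.Lib.JankoFour.Main
import Cfsg.Agent.Lib.PGroups.Extraspecial

/-!
# The Sylow 3-subgroup `⟨a, b, p⟩` and its normalizer (owner: helper14)

Order 27, exponent 3, normalizer in `C(z)` of order 864.
-/

set_option autoImplicit false

namespace CfsgLib.JankoFour

open Cfsg CfsgLib.ThreeTrans
open CfsgLib.JankoFour.M22 (Grp)

variable {G : Type*} [Group G] [Finite G]

/-- In the Mathieu group the normalizer of a Sylow 3-subgroup has order 72. -/
theorem M22.Config.normalizer_three {r s v w : Grp} (h : M22.Config r s v w) :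
    ∃ R : Subgroup Grp, (∀ x, x ∈ R ↔ ∃ i j : ℕ, x = r ^ i * s ^ j) ∧ Nat.card R = 9 ∧
      (∀ i i' j j' : ℕ, r ^ i * s ^ j = r ^ i' * s ^ j' → i % 3 = i' % 3 ∧ j % 3 = j' % 3) ∧
      Nat.card (Subgroup.normalizer (R : Set Grp)) = 72 := by
  classical
  haveI : Fact (Nat.Prime 3) := ⟨Nat.prime_three⟩
  have or' : orderOf r = 3 := orderOf_eq_prime h.hr h.hr1
  have hsv1 : s * v * s⁻¹ ≠ v := fun e => h.hne (e.symm.trans h.hsv)
  have hs1 : s ≠ 1 := fun e => hsv1 (by rw [e]; group)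
  have os : orderOf s = 3 := orderOf_eq_prime h.hs hs1
  have hinj : ∀ i i' j j' : ℕ, r ^ i * s ^ j = r ^ i' * s ^ j' → i % 3 = i' % 3 ∧ j % 3 = j' % 3 := by
    intro i i' j j' e
    have hj : j % 3 = j' % 3 := by
      by_contra hne
      have e1 : s ^ (j + 2 * j') = r ^ (i' + 2 * i) := by
        have h2 : s ^ (3 * j') = 1 := by rw [pow_mul, h.hs, one_pow]
        have h3 : r ^ (3 * i) = 1 := by rw [pow_mul, h.hr, one_pow]
        calc s ^ (j + 2 * j') = r ^ (2 * i) * (r ^ i * s ^ j) * s ^ (2 * j') := by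
              rw [← mul_assoc, ← pow_add, show 2 * i + i = 3 * i by ring, h3, one_mul, pow_add]
          _ = r ^ (2 * i) * (r ^ i' * s ^ j') * s ^ (2 * j') := by rw [e]
          _ = _ := by
              rw [← mul_assoc, ← pow_add, mul_assoc, ← pow_add, show j' + 2 * j' = 3 * j' by ring, h2, mul_one,
                add_comm]
      have hc : Commute s v := by
        have hk : Commute (s ^ (j + 2 * j')) v := e1 ▸ (h.hrv.pow_left _)
        have h2 : s = (s ^ (j + 2 * j')) ^ ((j + 2 * j') % 3) := by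
          rw [← pow_mul, pow_eq_pow_mod _ h.hs, Nat.mul_mod, Nat.mod_mod]
          rcases (show (j + 2 * j') % 3 = 1 ∨ (j + 2 * j') % 3 = 2 by omega) with q | q <;> simp [q]
        rw [h2]; exact hk.pow_left _
      exact hsv1 (by rw [hc.eq, mul_inv_cancel_right])
    refine ⟨?_, hj⟩
    rw [pow_eq_pow_mod j h.hs, hj, ← pow_eq_pow_mod j' h.hs] at e
    have := pow_eq_pow_iff_modEq.1 (mul_right_cancel e)
    rwa [or'] at this
  have hcomm : ∀ i j k l : ℕ, r ^ i * s ^ j * (r ^ k * s ^ l) = r ^ (i + k) * s ^ (j + l) := fun i j k l => by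
    rw [(h.hrs.symm.pow_pow j k).mul_mul_mul_comm, ← pow_add, ← pow_add]
  let R : Subgroup Grp :=
    { carrier := {x | ∃ i j : ℕ, x = r ^ i * s ^ j}
      one_mem' := ⟨0, 0, by simp⟩
      mul_mem' := by
        rintro _ _ ⟨i, j, rfl⟩ ⟨k, l, rfl⟩
        exact ⟨i + k, j + l, hcomm i j k l⟩
      inv_mem' := by
        rintro _ ⟨i, j, rfl⟩
        refine ⟨2 * i, 2 * j, inv_eq_of_mul_eq_one_right ?_⟩
        rw [hcomm, show i + 2 * i = 3 * i by ring, show j + 2 * j = 3 * j by ring, pow_mul, pow_mul, h.hr, h.hs,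
          one_pow, one_pow, one_mul] }
  let φ : Fin 3 × Fin 3 → ↥R := fun q => ⟨r ^ (q.1 : ℕ) * s ^ (q.2 : ℕ), q.1, q.2, rfl⟩
  have hφ : Function.Bijective φ := by
    refine ⟨fun a b e => ?_, fun ⟨x, i, j, e⟩ => ?_⟩
    · obtain ⟨e1, e2⟩ := hinj _ _ _ _ (congrArg Subtype.val e :)
      exact Prod.ext (Fin.ext (by have := a.1.2; have := b.1.2; omega)) (Fin.ext (by have := a.2.2; have := b.2.2; omega))
    · refine ⟨(⟨i % 3, by omega⟩, ⟨j % 3, by omega⟩), Subtype.ext ?_⟩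
      show r ^ (i % 3) * s ^ (j % 3) = x
      rw [← pow_eq_pow_mod i h.hr, ← pow_eq_pow_mod j h.hs, e]
  have hRc : Nat.card R = 9 := by
    rw [← Nat.card_congr (Equiv.ofBijective φ hφ)]; simp
  refine ⟨R, fun x => Iff.rfl, hRc, hinj, ?_⟩
  have hf : (Nat.card Grp).factorization 3 = 2 := by
    rw [show Nat.card Grp = 443520 from CfsgLib.Sporadic.card_sporM22,
      show (443520 : ℕ) = 49280 * 3 ^ 2 by norm_num, Nat.factorization_mul (by norm_num) (by norm_num),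
      Finsupp.add_apply, Nat.Prime.factorization_pow Nat.prime_three, Finsupp.single_eq_same,
      Nat.factorization_eq_zero_of_not_dvd (by norm_num)]
  let Q : Sylow 3 Grp := Sylow.ofCard R (by rw [hRc, hf]; norm_num)
  have hQ : (Q : Subgroup Grp) = R := Sylow.coe_ofCard _ _
  set N := Subgroup.normalizer (R : Set Grp) with hN
  have hNc : ∀ {n}, n ∈ N → ∀ {x}, x ∈ R → n * x * n⁻¹ ∈ R := fun {n} hn {x} hx =>
    (Subgroup.mem_normalizer_iff.1 hn x).1 hx
  have hrR : r ∈ R := ⟨1, 0, by simp⟩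
  have hRab : ∀ x ∈ R, ∀ y ∈ R, Commute x y := by
    rintro _ ⟨i, j, rfl⟩ _ ⟨k, l, rfl⟩
    show _ = _
    rw [hcomm, hcomm, add_comm i, add_comm j]
  -- conjugation in the normalizer
  have hmove : ∀ x : {x : ↥R // (x : Grp) ≠ 1}, ∃ n ∈ N, n * r * n⁻¹ = ((x : ↥R) : Grp) := by
    rintro ⟨⟨x, hx⟩, hx1⟩
    have hox : orderOf x = 3 := by
      refine orderOf_eq_prime ?_ hx1
      obtain ⟨i, j, e⟩ := hx
      rw [e, (h.hrs.pow_pow i j).mul_pow, ← pow_mul, ← pow_mul, mul_comm i, mul_comm j, pow_mul, pow_mul, h.hr,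
        h.hs, one_pow, one_pow, one_mul]
    obtain ⟨g, hg⟩ := isConj_iff.1 (h.hthree x hox)
    have hcm : ∀ y ∈ R, y ∈ Subgroup.centralizer (Q : Set Grp) := fun y hy =>
      Subgroup.mem_centralizer_iff.2 fun q hq => by
        have hq' : q ∈ R := hQ ▸ hq
        exact (hRab q hq' y hy).eq
    obtain ⟨n, hn, e⟩ := Q.conj_eq_normalizer_conj_of_mem_centralizer x g⁻¹ (hcm x hx)
      (by rw [inv_inv, hg]; exact hcm r hrR)
    rw [inv_inv, hg] at e
    refine ⟨n, ?_, by show n * r * n⁻¹ = x; rw [e]; group⟩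
    have hn' : n ∈ Subgroup.normalizer ((Q : Subgroup Grp) : Set Grp) := hn
    rwa [hQ] at hn'
  choose sec hsecN hsec using hmove
  have hstab : ∀ u ∈ N, Commute u r → u ∈ R := by
    intro u hu hur
    obtain ⟨i, j, k, l, e⟩ := h.hcent u hur
    have hskl : s ^ k * r ^ l ∈ R := ⟨l, k, (h.hrs.symm.pow_pow k l).eq⟩
    set q := v ^ i * w ^ j with hq
    have hqu : q = u * (s ^ k * r ^ l)⁻¹ := by rw [e, hq]; group
    have hqN : q ∈ N := hqu ▸ mul_mem hu (inv_mem (Subgroup.le_normalizer hskl))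
    have hqs := hNc hqN (show s ∈ R from ⟨0, 1, by simp⟩)
    have hqq : q = s * q * s⁻¹ := by
      have hm : q * (s * q⁻¹ * s⁻¹) ∈ R := by
        have := mul_mem hqs (inv_mem (show s ∈ R from ⟨0, 1, by simp⟩))
        rwa [show q * s * q⁻¹ * s⁻¹ = q * (s * q⁻¹ * s⁻¹) by group] at this
      obtain ⟨c, d, ecd⟩ := hm
      have hsq : (r ^ c * s ^ d) * (r ^ c * s ^ d) = 1 := by
        rw [← ecd]
        have c1 : Commute (s * v * s⁻¹) (v ^ i * w ^ j) := by
          rw [h.hsv]; exact (h.hvw.symm.pow_right i).mul_right ((Commute.refl w).pow_right j)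
        have c2 : Commute (s * w * s⁻¹) (v ^ i * w ^ j) := by
          rw [h.hsw]
          exact (((Commute.refl v).pow_right i).mul_right (h.hvw.pow_right j)).mul_left
            ((h.hvw.symm.pow_right i).mul_right ((Commute.refl w).pow_right j))
        have e' : s * q⁻¹ * s⁻¹ = ((s * v * s⁻¹) ^ i * (s * w * s⁻¹) ^ j)⁻¹ := by
          rw [conj_pow, conj_pow, hq]; group
        have hc : Commute q (s * q⁻¹ * s⁻¹) := by
          rw [e', hq]; exact ((c1.pow_left i).mul_left (c2.pow_left j)).symm.inv_right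
        have hq2 : q * q = 1 := by
          rw [hq, (h.hvw.pow_pow i j).symm.mul_mul_mul_comm, ← (Commute.refl v).mul_pow, h.hv, one_pow,
            ← (Commute.refl w).mul_pow, h.hw, one_pow, one_mul]
        rw [hc.symm.mul_mul_mul_comm, hq2, one_mul, conj_mul, ← mul_inv_rev, hq2, inv_one, mul_one, mul_inv_cancel]
      rw [hcomm] at hsq
      obtain ⟨e1, e2⟩ := hinj _ 0 _ 0 (hsq.trans (by simp))
      have : q * (s * q⁻¹ * s⁻¹) = 1 := by
        rw [ecd, pow_eq_pow_mod c h.hr, pow_eq_pow_mod d h.hs, show c % 3 = 0 by omega, show d % 3 = 0 by omega]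
        simp
      conv_lhs => rw [eq_inv_of_mul_eq_one_left this]
      group
    have hq1 : q = 1 := by
      rw [hq, pow_eq_pow_mod i (show v ^ 2 = 1 by rw [pow_two, h.hv]),
        pow_eq_pow_mod j (show w ^ 2 = 1 by rw [pow_two, h.hw])] at hqq ⊢
      rcases Nat.mod_two_eq_zero_or_one i with a | a <;> rcases Nat.mod_two_eq_zero_or_one j with b | b <;>
        rw [a, b] at hqq ⊢ <;> simp only [pow_zero, pow_one, one_mul, mul_one] at hqq ⊢
      · rw [h.hsw] at hqq; exact absurd (right_eq_mul.1 hqq) h.hv1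
      · rw [h.hsv] at hqq; exact absurd hqq h.hne
      · exfalso
        rw [show s * (v * w) * s⁻¹ = (s * v * s⁻¹) * (s * w * s⁻¹) by group, h.hsv, h.hsw,
          show w * (v * w) = w * v * w by group, ← h.hvw.eq, mul_assoc v w w, h.hw, mul_one] at hqq
        exact h.hw1 (mul_eq_left.1 hqq)
    rw [e, hq1, one_mul]
    exact hskl
  let Φ : {x : ↥R // (x : Grp) ≠ 1} × ↥R → ↥N := fun q =>
    ⟨sec q.1 * q.2, mul_mem (hsecN q.1) (Subgroup.le_normalizer q.2.2)⟩
  have hΦ : Function.Bijective Φ := by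
    constructor
    · rintro ⟨x, t⟩ ⟨x', t'⟩ e
      have e' : sec x * (t : Grp) = sec x' * t' := congrArg Subtype.val e
      have key : ∀ (y : {x : ↥R // (x : Grp) ≠ 1}) (u : ↥R),
          sec y * (u : Grp) * r * (sec y * (u : Grp))⁻¹ = ((y : ↥R) : Grp) := by
        intro y u
        rw [show sec y * (u : Grp) * r * (sec y * (u : Grp))⁻¹ = sec y * ((u : Grp) * r * (u : Grp)⁻¹) * (sec y)⁻¹
          by group, (hRab _ u.2 _ hrR).eq, mul_inv_cancel_right, hsec]
      have hxx : x = x' := Subtype.ext (Subtype.ext (by rw [← key x t, e', key x' t']))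
      subst hxx
      exact Prod.ext rfl (Subtype.ext (mul_left_cancel e'))
    · rintro ⟨n, hn⟩
      have hx1 : n * r * n⁻¹ ≠ 1 := fun e => h.hr1 (conj_eq_one_iff.1 e)
      set x : {x : ↥R // (x : Grp) ≠ 1} := ⟨⟨_, hNc hn hrR⟩, hx1⟩ with hx
      have ht : (sec x)⁻¹ * n ∈ R := by
        refine hstab _ (mul_mem (inv_mem (hsecN x)) hn) (mul_inv_eq_iff_eq_mul.1 ?_)
        have e := hsec x
        rw [show (sec x)⁻¹ * n * r * ((sec x)⁻¹ * n)⁻¹ = (sec x)⁻¹ * (n * r * n⁻¹) * sec x by group]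
        rw [show n * r * n⁻¹ = ((x : ↥R) : Grp) from rfl, ← e]
        group
      exact ⟨(x, ⟨_, ht⟩), Subtype.ext (mul_inv_cancel_left _ _)⟩
  have h8 : Nat.card {x : ↥R // (x : Grp) ≠ 1} = 8 := by
    haveI := Fintype.ofFinite ↥R
    have e : {x : ↥R // (x : Grp) ≠ 1} ≃ {x : ↥R // x ≠ (1 : ↥R)} :=
      Equiv.subtypeEquivRight fun x => not_congr ⟨fun h => Subtype.ext h, fun h => congrArg Subtype.val h⟩
    rw [Nat.card_congr e, Nat.card_eq_fintype_card, Fintype.card_subtype_compl, Fintype.card_subtype_eq,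
      ← Nat.card_eq_fintype_card, hRc]
  rw [← Nat.card_congr (Equiv.ofBijective Φ hΦ), Nat.card_prod, h8, hRc]

namespace Frame

variable {S : Setting G} (F : Frame S)
include F

theorem card_C : Nat.card ↥S.C = 6 * 443520 := by
  have h := S.toGrp.ker.card_mul_index
  rw [Subgroup.index_ker, MonoidHom.range_eq_top.2 F.toGrp_surjective, Subgroup.card_top, F.toGrp_ker,
    F.center_cyclic.2, show Nat.card Grp = 443520 from CfsgLib.Sporadic.card_sporM22] at h
  exact h.symm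

theorem card_H0 : Nat.card ↥S.H0 = 3 * 2 ^ 13 * 443520 := by
  have h := S.φ.ker.card_mul_index
  rw [Subgroup.index_ker, MonoidHom.range_eq_top.2 S.hφ, Subgroup.card_top,
    show Nat.card Grp = 443520 from CfsgLib.Sporadic.card_sporM22] at h
  have hk : Nat.card S.φ.ker = Nat.card ↥(S.E ⊔ S.P) := by
    refine Nat.card_congr (Equiv.ofBijective (fun x : ↥S.φ.ker =>
      (⟨((x : ↥S.H0) : G), (S.hker _).1 (MonoidHom.mem_ker.1 x.2)⟩ : ↥(S.E ⊔ S.P))) ⟨fun a b e =>
      Subtype.ext (Subtype.ext (congrArg (fun y : ↥(S.E ⊔ S.P) => (y : G)) e :)), fun y => ?_⟩)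
    have hy0 : (y : G) ∈ S.H0 := S.EP_le_H0 y.2
    exact ⟨⟨⟨y, hy0⟩, MonoidHom.mem_ker.2 ((S.hker _).2 y.2)⟩, rfl⟩
  rw [hk, S.EP_card] at h
  omega

theorem b_pow_a (j i : ℕ) : F.b ^ j * F.a ^ i = F.a ^ i * F.b ^ j * F.p ^ (j * i) := by
  have h := F.b_pow_el j 0
  rw [F.el_zero, zero_add, el] at h
  have hap : Commute F.a (F.p ^ j) := (F.commute_p F.haC).pow_right j
  have hbp : Commute (F.b ^ j) (F.p ^ (j * i)) := ((F.commute_p F.hbC).pow_right (j * i)).pow_left j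
  have e : F.b ^ j * F.a ^ i * (F.b ^ j)⁻¹ = F.a ^ i * F.p ^ (j * i) := by
    rw [← conj_pow, h, hap.mul_pow, ← pow_mul]
  rw [mul_inv_eq_iff_eq_mul.1 e, mul_assoc, ← hbp.eq, ← mul_assoc]

/-- The Sylow 3-subgroup. -/
theorem exists_three_sylow : ∃ T : Subgroup G, T ≤ S.C ∧ Nat.card T = 27 ∧ ¬ IsMulCommutative T ∧
    (∀ x ∈ T, x ^ 3 = 1) ∧ (∀ g : G, (∀ x ∈ T, g * x * g⁻¹ ∈ T) → ∀ q ∈ S.P, g * q * g⁻¹ ∈ S.P) ∧
    Nat.card ↥(S.C ⊓ Subgroup.normalizer (T : Set G)) = 432 := by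
  classical
  haveI : Fact (Nat.Prime 3) := ⟨Nat.prime_three⟩
  obtain ⟨R, hR, hRc, hinj, hRN⟩ := F.hcfg.normalizer_three
  have hpc : ∀ {x}, x ∈ S.C → ∀ k : ℕ, Commute x (F.p ^ k) := fun hx k => (F.commute_p hx).pow_right k
  have hmul : ∀ i j k i' j' k' : ℕ, F.a ^ i * F.b ^ j * F.p ^ k * (F.a ^ i' * F.b ^ j' * F.p ^ k') =
      F.a ^ (i + i') * F.b ^ (j + j') * F.p ^ (j * i' + k + k') := by
    intro i j k i' j' k'
    have c1 : Commute (F.a ^ i' * F.b ^ j') (F.p ^ k) := hpc (mul_mem (pow_mem F.haC _) (pow_mem F.hbC _)) k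
    have c2 : Commute (F.b ^ j') (F.p ^ (j * i')) := hpc (pow_mem F.hbC _) _
    calc F.a ^ i * F.b ^ j * F.p ^ k * (F.a ^ i' * F.b ^ j' * F.p ^ k')
        = F.a ^ i * F.b ^ j * (F.p ^ k * (F.a ^ i' * F.b ^ j')) * F.p ^ k' := by group
      _ = F.a ^ i * (F.b ^ j * F.a ^ i') * F.b ^ j' * (F.p ^ k * F.p ^ k') := by rw [← c1.eq]; group
      _ = F.a ^ i * (F.a ^ i' * F.b ^ j * F.p ^ (j * i')) * F.b ^ j' * (F.p ^ k * F.p ^ k') := by rw [F.b_pow_a]
      _ = (F.a ^ i * F.a ^ i') * F.b ^ j * (F.p ^ (j * i') * F.b ^ j') * (F.p ^ k * F.p ^ k') := by group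
      _ = (F.a ^ i * F.a ^ i') * F.b ^ j * (F.b ^ j' * F.p ^ (j * i')) * (F.p ^ k * F.p ^ k') := by rw [← c2.eq]
      _ = (F.a ^ i * F.a ^ i') * (F.b ^ j * F.b ^ j') * (F.p ^ (j * i') * F.p ^ k * F.p ^ k') := by group
      _ = _ := by simp only [← pow_add]
  have hC : ∀ i j k : ℕ, F.a ^ i * F.b ^ j * F.p ^ k ∈ S.C := fun i j k =>
    mul_mem (mul_mem (pow_mem F.haC _) (pow_mem F.hbC _)) (pow_mem F.hpC _)
  let T : Subgroup G :=
    { carrier := {x | ∃ i j k : ℕ, x = F.a ^ i * F.b ^ j * F.p ^ k}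
      one_mem' := ⟨0, 0, 0, by simp⟩
      mul_mem' := by
        rintro _ _ ⟨i, j, k, rfl⟩ ⟨i', j', k', rfl⟩
        exact ⟨_, _, _, hmul i j k i' j' k'⟩
      inv_mem' := by
        rintro _ ⟨i, j, k, rfl⟩
        refine ⟨2 * i, 2 * j, 2 * (j * (2 * i) + k), inv_eq_of_mul_eq_one_right ?_⟩
        rw [hmul, show i + 2 * i = 3 * i by ring, show j + 2 * j = 3 * j by ring,
          show j * (2 * i) + k + 2 * (j * (2 * i) + k) = 3 * (j * (2 * i) + k) by ring, pow_mul, pow_mul, pow_mul,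
          F.ha, F.hb, F.p_pow, one_pow, one_pow, one_pow, one_mul, one_mul] }
  have hTm : ∀ x, x ∈ T ↔ ∃ i j k : ℕ, x = F.a ^ i * F.b ^ j * F.p ^ k := fun x => Iff.rfl
  have hTC : T ≤ S.C := by
    rintro _ ⟨i, j, k, rfl⟩; exact hC i j k
  have hfp : ∀ k : ℕ, S.f (F.p ^ k) = 1 := fun k =>
    (S.f_eq_one_iff (S.C_le_H0 (pow_mem F.hpC k))).2 (Subgroup.mem_sup_right (pow_mem F.hpP k))
  have hf : ∀ i j k : ℕ, S.f (F.a ^ i * F.b ^ j * F.p ^ k) = S.f F.a ^ i * S.f F.b ^ j := fun i j k => by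
    rw [S.f_mul_C (mul_mem (pow_mem F.haC _) (pow_mem F.hbC _)) (pow_mem F.hpC _),
      S.f_mul_C (pow_mem F.haC _) (pow_mem F.hbC _), hfp, mul_one, S.f_pow_C F.haC, S.f_pow_C F.hbC]
  have hTi : ∀ i j k i' j' k' : ℕ, F.a ^ i * F.b ^ j * F.p ^ k = F.a ^ i' * F.b ^ j' * F.p ^ k' →
      i % 3 = i' % 3 ∧ j % 3 = j' % 3 ∧ k % 3 = k' % 3 := by
    intro i j k i' j' k' e
    have e' := congrArg S.f e
    rw [hf, hf] at e'
    obtain ⟨e1, e2⟩ := hinj _ _ _ _ e'
    rw [pow_eq_pow_mod i F.ha, pow_eq_pow_mod j F.hb, e1, e2, ← pow_eq_pow_mod i' F.ha, ← pow_eq_pow_mod j' F.hb] at e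
    have := pow_eq_pow_iff_modEq.1 (mul_left_cancel e)
    rw [F.hp3] at this
    exact ⟨e1, e2, this⟩
  have hT27 : Nat.card T = 27 := by
    let φ : Fin 3 × Fin 3 × Fin 3 → ↥T := fun q =>
      ⟨F.a ^ (q.1 : ℕ) * F.b ^ (q.2.1 : ℕ) * F.p ^ (q.2.2 : ℕ), q.1, q.2.1, q.2.2, rfl⟩
    have hφ : Function.Bijective φ := by
      refine ⟨fun a b e => ?_, fun ⟨x, i, j, k, e⟩ => ?_⟩
      · obtain ⟨e1, e2, e3⟩ := hTi _ _ _ _ _ _ (congrArg Subtype.val e :)
        have := a.1.2; have := b.1.2; have := a.2.1.2; have := b.2.1.2; have := a.2.2.2; have := b.2.2.2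
        exact Prod.ext (Fin.ext (by omega)) (Prod.ext (Fin.ext (by omega)) (Fin.ext (by omega)))
      · refine ⟨(⟨i % 3, by omega⟩, ⟨j % 3, by omega⟩, ⟨k % 3, by omega⟩), Subtype.ext ?_⟩
        show F.a ^ (i % 3) * F.b ^ (j % 3) * F.p ^ (k % 3) = x
        rw [← pow_eq_pow_mod i F.ha, ← pow_eq_pow_mod j F.hb, ← pow_eq_pow_mod k F.p_pow, e]
    rw [← Nat.card_congr (Equiv.ofBijective φ hφ)]; simp
  have haT : F.a ∈ T := ⟨1, 0, 0, by simp⟩
  have hbT : F.b ∈ T := ⟨0, 1, 0, by simp⟩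
  have hpT : ∀ q ∈ S.P, q ∈ T := fun q hq => by
    obtain ⟨k, rfl⟩ := F.P_eq hq
    exact ⟨0, 0, k, by simp⟩
  have hexp : ∀ x ∈ T, x ^ 3 = 1 := fun x hx => F.three_exp (commute_z (hTC hx)) (n := 3) (by
    have := Subgroup.orderOf_dvd_natCard T hx
    rw [hT27] at this
    exact orderOf_dvd_iff_pow_eq_one.1 (by simpa using this))
  refine ⟨T, hTC, hT27, fun hc => F.p_ne ?_, hexp, fun g hg q hq => ?_, ?_⟩
  · have e := congrArg Subtype.val (hc.1.1 (⟨_, hbT⟩ : T) ⟨_, haT⟩)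
    have h2 := F.hba
    change F.b * F.a = F.a * F.b at e
    rw [e, mul_inv_cancel_right] at h2
    exact left_eq_mul.1 h2
  · -- `P` is the centre
    have hsurj : ∀ y ∈ T, ∃ x ∈ T, g * x * g⁻¹ = y := fun y hy => by
      have hinj : Function.Injective (fun x : ↥T => (⟨g * x * g⁻¹, hg x x.2⟩ : ↥T)) := fun a b e =>
        Subtype.ext (mul_left_cancel (mul_right_cancel (congrArg Subtype.val e)))
      obtain ⟨x, hx⟩ := Finite.surjective_of_injective hinj ⟨y, hy⟩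
      exact ⟨x, x.2, congrArg Subtype.val hx⟩
    have hzq : ∀ y ∈ T, Commute (g * q * g⁻¹) y := fun y hy => by
      obtain ⟨x, hx, rfl⟩ := hsurj y hy
      exact LargeData.commute_conj_iff'.2 ((S.mem_C.1 (hTC hx)).2 q hq).symm
    obtain ⟨i, j, k, e⟩ := hg q (hpT q hq)
    rw [e] at hzq
    have ea := (hzq _ haT).eq
    have eb := (hzq _ hbT).eq
    have ha' : F.a ^ i * F.b ^ j * F.p ^ k * (F.a ^ 1 * F.b ^ 0 * F.p ^ 0) =
        F.a ^ 1 * F.b ^ 0 * F.p ^ 0 * (F.a ^ i * F.b ^ j * F.p ^ k) := by simpa using ea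
    have hb' : F.a ^ i * F.b ^ j * F.p ^ k * (F.a ^ 0 * F.b ^ 1 * F.p ^ 0) =
        F.a ^ 0 * F.b ^ 1 * F.p ^ 0 * (F.a ^ i * F.b ^ j * F.p ^ k) := by simpa using eb
    rw [hmul, hmul] at ha' hb'
    have h1 := (hTi _ _ _ _ _ _ ha').2.2
    have h2 := (hTi _ _ _ _ _ _ hb').2.2
    rw [e, pow_eq_pow_mod i F.ha, pow_eq_pow_mod j F.hb, show i % 3 = 0 by omega, show j % 3 = 0 by omega]
    simpa using pow_mem F.hpP k
  · -- the normalizer in `C`
    set L := S.C ⊓ Subgroup.normalizer (T : Set G) with hL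
    set X := (Subgroup.normalizer (R : Set Grp)).comap S.toGrp with hX
    have hT2 : ∀ x ∈ S.C, S.f x ∈ R → x ^ 3 = 1 → x ∈ T := by
      intro x hx hfx hx3
      obtain ⟨i, j, e⟩ := (hR _).1 hfx
      set t := F.a ^ i * F.b ^ j * F.p ^ 0 with ht
      have htC := hC i j 0
      have hk1 : S.f (t⁻¹ * x) = 1 := by
        rw [S.f_mul_C (inv_mem htC) hx, S.f_inv_C htC, hf, e, inv_mul_cancel]
      have hkC := mul_mem (inv_mem htC) hx
      have hk3 : (t⁻¹ * x) ^ 3 = 1 := by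
        have hc := S.ker_central hkC hk1 htC
        have : (t * (t⁻¹ * x)) ^ 3 = 1 := by rw [mul_inv_cancel_left]; exact hx3
        rwa [hc.symm.mul_pow, hexp t ⟨i, j, 0, ht⟩, one_mul] at this
      have := mul_mem (show t ∈ T from ⟨i, j, 0, ht⟩) (hpT _ (S.ker_three hkC hk1 (n := 1) (by rw [pow_one]; exact hk3)))
      rwa [mul_inv_cancel_left] at this
    have hLX : ∀ c : ↥S.C, c ∈ X ↔ (c : G) ∈ L := by
      intro c
      rw [hX, Subgroup.mem_comap]
      show S.f (c : G) ∈ _ ↔ _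
      constructor
      · intro hn
        refine ⟨c.2, Subgroup.mem_normalizer_iff.2 fun x => ⟨fun hx => ?_, fun hx => ?_⟩⟩
        · obtain ⟨i, j, k, rfl⟩ := hx
          refine hT2 _ (mul_mem (mul_mem c.2 (hC i j k)) (inv_mem c.2)) ?_ ?_
          · rw [S.f_conj_C c.2 (hC i j k), hf]
            exact (Subgroup.mem_normalizer_iff.1 hn _).1 ((hR _).2 ⟨i, j, rfl⟩)
          · rw [conj_pow, hexp _ ⟨i, j, k, rfl⟩, mul_one, mul_inv_cancel]
        · obtain ⟨i, j, k, e⟩ := hx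
          have hxC : x ∈ S.C := by
            rw [show x = (c : G)⁻¹ * ((c : G) * x * (c : G)⁻¹) * c by group, e]
            exact mul_mem (mul_mem (inv_mem c.2) (hC i j k)) c.2
          refine hT2 _ hxC ((Subgroup.mem_normalizer_iff.1 hn _).2 ?_) ?_
          · rw [← S.f_conj_C c.2 hxC, e, hf]; exact (hR _).2 ⟨i, j, rfl⟩
          · have h3 := hexp _ (e ▸ (⟨i, j, k, rfl⟩ : F.a ^ i * F.b ^ j * F.p ^ k ∈ T))
            rw [conj_pow, conj_eq_one_iff] at h3
            exact h3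
      · rintro ⟨-, hn⟩
        have hto : ∀ y ∈ R, S.f (c : G) * y * (S.f (c : G))⁻¹ ∈ R := by
          intro y hy
          obtain ⟨i, j, rfl⟩ := (hR _).1 hy
          obtain ⟨i', j', k', e⟩ := (Subgroup.mem_normalizer_iff.1 hn (F.a ^ i * F.b ^ j * F.p ^ 0)).1 ⟨i, j, 0, rfl⟩
          rw [← hf i j 0, ← S.f_conj_C c.2 (hC i j 0), e, hf]
          exact (hR _).2 ⟨i', j', rfl⟩
        refine Subgroup.mem_normalizer_iff.2 fun y => ⟨hto y, fun hy => ?_⟩
        obtain ⟨x, hx⟩ := Finite.surjective_of_injective (f := fun y : ↥R => (⟨_, hto y y.2⟩ : ↥R))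
          (fun a b e => Subtype.ext (mul_left_cancel (mul_right_cancel (congrArg Subtype.val e)))) ⟨_, hy⟩
        have := mul_left_cancel (mul_right_cancel (congrArg Subtype.val hx))
        exact this ▸ x.2
    have e1 : Nat.card X = Nat.card L := Nat.card_congr
      { toFun := fun c => ⟨((c : ↥S.C) : G), (hLX _).1 c.2⟩
        invFun := fun l => ⟨⟨(l : G), l.2.1⟩, (hLX ⟨(l : G), l.2.1⟩).2 l.2⟩
        left_inv := fun c => rfl
        right_inv := fun l => rfl }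
    have h1 := X.card_mul_index
    rw [hX, Subgroup.index_comap_of_surjective _ F.toGrp_surjective, ← hX, F.card_C] at h1
    have h2 := (Subgroup.normalizer (R : Set Grp)).card_mul_index
    rw [hRN, show Nat.card Grp = 443520 from CfsgLib.Sporadic.card_sporM22] at h2
    rw [← e1]
    have hi : (Subgroup.normalizer (R : Set Grp)).index = 6160 := by omega
    rw [hi] at h1
    omega

/-- **The Sylow 3-subgroups inside `C(z)`.** -/
theorem sylow_three [IsSimpleGroup G] (hG : ¬ IsMulCommutative G) (R : Sylow 3 G)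
    (hR : (R : Subgroup G) ≤ Subgroup.centralizer ({S.z} : Set G)) :
    IsExtraspecial 3 ↥(R : Subgroup G) ∧ Nat.card ↥(R : Subgroup G) = 27 ∧
      Monoid.exponent ↥(R : Subgroup G) = 3 ∧
      Subgroup.normalizer ((R : Subgroup G) : Set G) ≤ Subgroup.centralizer ({S.z} : Set G) ∧
      Nat.card ↥(Subgroup.normalizer ((R : Subgroup G) : Set G)) = 864 := by
  classical
  haveI : Fact (Nat.Prime 3) := ⟨Nat.prime_three⟩
  obtain ⟨T, hTC, hT27, hna, hexp, hTP, hTN⟩ := F.exists_three_sylow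
  have hT0 : T ≤ S.H0 := hTC.trans S.C_le_H0
  have hR0 : (R : Subgroup G) ≤ S.H0 := fun x hx => S.mem_of_odd (S.mem_H.1 (hR hx)) (by
    obtain ⟨n, hn⟩ := IsPGroup.iff_card.1 R.isPGroup'
    exact Odd.of_dvd_nat (by rw [hn]; exact Odd.pow (by decide)) (Subgroup.orderOf_dvd_natCard _ hx))
  have hf0 : (Nat.card ↥S.H0).factorization 3 = 3 := by
    rw [F.card_H0, show 3 * 2 ^ 13 * 443520 = (2 ^ 13 * 49280) * 3 ^ 3 by norm_num,
      Nat.factorization_mul (by norm_num) (by norm_num), Finsupp.add_apply,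
      Nat.Prime.factorization_pow Nat.prime_three, Finsupp.single_eq_same,
      Nat.factorization_eq_zero_of_not_dvd (by norm_num)]
  have hR27 : Nat.card (R : Subgroup G) = 27 := by
    have h27 : 27 ∣ Nat.card (R : Subgroup G) := by
      have h1 : 3 ^ 3 ∣ Nat.card G := by
        rw [show (3 : ℕ) ^ 3 = 27 by norm_num, ← hT27]; exact Subgroup.card_subgroup_dvd_card T
      exact R.pow_dvd_card_of_pow_dvd_card h1
    obtain ⟨n, hn⟩ := IsPGroup.iff_card.1 R.isPGroup'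
    have h2 : Nat.card (R : Subgroup G) ∣ Nat.card ↥S.H0 := Subgroup.card_dvd_of_le hR0
    rw [hn] at h2 h27 ⊢
    have h3 : n ≤ 3 := hf0 ▸ (Nat.Prime.pow_dvd_iff_le_factorization Nat.prime_three Nat.card_pos.ne').1 h2
    interval_cases n <;> first | rfl | (norm_num at h27)
  let P₀ : Sylow 3 ↥S.H0 := Sylow.ofCard (T.subgroupOf S.H0) (by
    rw [Nat.card_congr (Subgroup.subgroupOfEquivOfLe hT0).toEquiv, hT27, hf0]; norm_num)
  obtain ⟨k, hk, hkT⟩ := CfsgLib.Core.exists_conj_of_card_eq P₀ (Q := (R : Subgroup G)) hR0 (by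
    rw [hR27, Sylow.coe_ofCard, Subgroup.map_subgroupOf_eq_of_le hT0, hT27])
  rw [Sylow.coe_ofCard, Subgroup.map_subgroupOf_eq_of_le hT0, CfsgLib.Core.conj_smul_eq_map] at hkT
  have hkz : Commute k S.z := mem_centralizer_singleton_iff'.1 (S.hH0 hk)
  have hRm : ∀ {x}, x ∈ (R : Subgroup G) ↔ k⁻¹ * x * k ∈ T := fun {x} => by
    rw [← hkT, Subgroup.mem_map]
    constructor
    · rintro ⟨t, ht, rfl⟩
      show k⁻¹ * (k * t * k⁻¹) * k ∈ T
      rwa [show k⁻¹ * (k * t * k⁻¹) * k = t by group]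
    · intro hx
      exact ⟨_, hx, show k * (k⁻¹ * x * k) * k⁻¹ = x by group⟩
  -- the normalizer of `T`
  set NT := Subgroup.normalizer (T : Set G) with hNT
  have hNle : ∀ g ∈ NT, S.Norm g := fun g hg => by
    have hgP := hTP g fun x hx => (Subgroup.mem_normalizer_iff.1 hg x).1 hx
    have hinj : Function.Injective (fun q : S.P => (⟨g * q * g⁻¹, hgP q q.2⟩ : S.P)) := fun a b e =>
      Subtype.ext (mul_left_cancel (mul_right_cancel (congrArg Subtype.val e)))
    have hgN : g ∈ Subgroup.normalizer (S.P : Set G) := by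
      refine Subgroup.mem_normalizer_iff.2 fun q => ⟨hgP q, fun hq => ?_⟩
      obtain ⟨x, hx⟩ := Finite.surjective_of_injective hinj ⟨_, hq⟩
      exact mul_left_cancel (mul_right_cancel (congrArg Subtype.val hx)) ▸ x.2
    exact ⟨S.mem_H.1 (F.normalizer_le hG hgN), hgP⟩
  obtain ⟨o, hoN, ho0⟩ : ∃ o ∈ NT, o ∉ S.H0 := by
    obtain ⟨n, hn, hn0⟩ := S.exists_outer
    have hfC : (Nat.card ↥S.C).factorization 3 = 3 := by
      rw [F.card_C, show 6 * 443520 = (2 * 49280) * 3 ^ 3 by norm_num,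
        Nat.factorization_mul (by norm_num) (by norm_num), Finsupp.add_apply,
        Nat.Prime.factorization_pow Nat.prime_three, Finsupp.single_eq_same,
        Nat.factorization_eq_zero_of_not_dvd (by norm_num)]
    let P₁ : Sylow 3 ↥S.C := Sylow.ofCard (T.subgroupOf S.C) (by
      rw [Nat.card_congr (Subgroup.subgroupOfEquivOfLe hTC).toEquiv, hT27, hfC]; norm_num)
    have hQ : T.map (MulAut.conj n).toMonoidHom ≤ S.C := by
      rintro _ ⟨t, ht, rfl⟩; exact S.conj_C hn (hTC ht)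
    obtain ⟨c, hc, hcT⟩ := CfsgLib.Core.exists_conj_of_card_eq P₁ hQ (by
      rw [Subgroup.card_map_of_injective (MulAut.conj n).injective, Sylow.coe_ofCard,
        Subgroup.map_subgroupOf_eq_of_le hTC])
    rw [Sylow.coe_ofCard, Subgroup.map_subgroupOf_eq_of_le hTC, CfsgLib.Core.conj_smul_eq_map] at hcT
    refine ⟨c⁻¹ * n, Subgroup.mem_normalizer_iff.2 fun x => ?_, fun h => hn0 ?_⟩
    · have e : (c⁻¹ * n * x * (c⁻¹ * n)⁻¹ ∈ T) ↔ n * x * n⁻¹ ∈ T.map (MulAut.conj c).toMonoidHom := by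
        rw [Subgroup.mem_map]
        constructor
        · intro h
          exact ⟨_, h, show c * (c⁻¹ * n * x * (c⁻¹ * n)⁻¹) * c⁻¹ = n * x * n⁻¹ by group⟩
        · rintro ⟨t, ht, e⟩
          rwa [show c⁻¹ * n * x * (c⁻¹ * n)⁻¹ = c⁻¹ * (n * x * n⁻¹) * c by group,
            show n * x * n⁻¹ = c * t * c⁻¹ from e.symm, show c⁻¹ * (c * t * c⁻¹) * c = t by group]
      rw [e, hcT, Subgroup.mem_map]
      exact ⟨fun hx => ⟨x, hx, rfl⟩, fun ⟨t, ht, e'⟩ => (mul_left_cancel (mul_right_cancel e') : t = x) ▸ ht⟩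
    · have := mul_mem (S.C_le_H0 hc) h
      rwa [mul_inv_cancel_left] at this
  set L := S.C ⊓ NT with hL
  have hinner : ∀ g ∈ NT, g ∈ S.H0 → g ∈ L := fun g hg h0 => ⟨S.norm_inner_mem_C (hNle g hg) h0, hg⟩
  have hNTc : Nat.card NT = 864 := by
    let Φ : ↥L ⊕ ↥L → ↥NT := Sum.elim (fun l => ⟨l, l.2.2⟩) fun l => ⟨o * l, mul_mem hoN l.2.2⟩
    have hΦ : Function.Bijective Φ := by
      constructor
      · rintro (a | a) (b | b) e
        · exact congrArg Sum.inl (Subtype.ext (congrArg Subtype.val e :))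
        · exfalso
          have e' : (a : G) = o * b := congrArg Subtype.val e
          exact ho0 (by
            have := mul_mem (S.C_le_H0 a.2.1) (inv_mem (S.C_le_H0 b.2.1))
            rwa [e', mul_inv_cancel_right] at this)
        · exfalso
          have e' : o * (a : G) = b := congrArg Subtype.val e
          exact ho0 (by
            have := mul_mem (S.C_le_H0 b.2.1) (inv_mem (S.C_le_H0 a.2.1))
            rwa [← e', mul_inv_cancel_right] at this)
        · exact congrArg Sum.inr (Subtype.ext (mul_left_cancel (congrArg Subtype.val e :)))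
      · rintro ⟨g, hg⟩
        by_cases h0 : g ∈ S.H0
        · exact ⟨Sum.inl ⟨g, hinner g hg h0⟩, rfl⟩
        · refine ⟨Sum.inr ⟨o⁻¹ * g, hinner _ (mul_mem (inv_mem hoN) hg) ?_⟩, Subtype.ext (mul_inv_cancel_left o g)⟩
          exact S.hidx _ _ ((hNle o hoN).1.inv_left) (hNle g hg).1 (fun h => ho0 (inv_mem_iff.1 h)) h0
    rw [← Nat.card_congr (Equiv.ofBijective Φ hΦ), Nat.card_sum, hTN]
  -- transport
  have hN : ∀ {g}, g ∈ Subgroup.normalizer ((R : Subgroup G) : Set G) ↔ k⁻¹ * g * k ∈ NT := fun {g} => by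
    rw [Subgroup.mem_normalizer_iff, hNT, Subgroup.mem_normalizer_iff]
    constructor
    · intro h x
      have := h (k * x * k⁻¹)
      rwa [hRm, hRm, show k⁻¹ * (k * x * k⁻¹) * k = x by group,
        show k⁻¹ * (g * (k * x * k⁻¹) * g⁻¹) * k = k⁻¹ * g * k * x * (k⁻¹ * g * k)⁻¹ by group] at this
    · intro h x
      have := h (k⁻¹ * x * k)
      rw [hRm, hRm]
      rwa [show k⁻¹ * g * k * (k⁻¹ * x * k) * (k⁻¹ * g * k)⁻¹ = k⁻¹ * (g * x * g⁻¹) * k by group] at this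
  refine ⟨?_, hR27, ?_, fun g hg => ?_, ?_⟩
  · refine CfsgLib.PGroups.isExtraspecial_of_card_cube (fun hc => hna ⟨⟨fun x y => Subtype.ext ?_⟩⟩)
      (by rw [hR27]; norm_num)
    have hm : ∀ t : ↥T, k * (t : G) * k⁻¹ ∈ (R : Subgroup G) := fun t => hRm.2 (by
      rw [show k⁻¹ * (k * (t : G) * k⁻¹) * k = t by group]; exact t.2)
    have e := congrArg Subtype.val (hc.1.1 (⟨_, hm x⟩ : (R : Subgroup G)) ⟨_, hm y⟩)
    exact (LargeData.commute_conj_iff' (g := k)).1 e
  · refine ((Nat.dvd_prime Nat.prime_three).1 (Monoid.exponent_dvd_of_forall_pow_eq_one fun x => ?_)).resolve_left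
      fun h1 => ?_
    · have := hexp _ (hRm.1 x.2)
      rw [show k⁻¹ * (x : G) * k = k⁻¹ * (x : G) * k⁻¹⁻¹ by group, conj_pow, conj_eq_one_iff] at this
      exact Subtype.ext (by simpa using this)
    · haveI := Monoid.exp_eq_one_iff.1 h1
      rw [Nat.card_unique] at hR27
      omega
  · have h1 := (hNle _ (hN.1 hg)).1
    refine S.mem_H.2 ?_
    have := (hkz.mul_left h1).mul_left hkz.inv_left
    rwa [show k * (k⁻¹ * g * k) * k⁻¹ = g by group] at this
  · rw [← hNTc]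
    refine Nat.card_congr
      { toFun := fun g => ⟨k⁻¹ * (g : G) * k, hN.1 g.2⟩
        invFun := fun g => ⟨k * (g : G) * k⁻¹, hN.2 (by
          rw [show k⁻¹ * (k * (g : G) * k⁻¹) * k = g by group]; exact g.2)⟩
        left_inv := fun g => Subtype.ext (show k * (k⁻¹ * (g : G) * k) * k⁻¹ = g by group)
        right_inv := fun g => Subtype.ext (show k⁻¹ * (k * (g : G) * k⁻¹) * k = g by group) }

end Frame

end CfsgLib.JankoFour
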