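import Cfsg.Agent.Lib.JankoFour.Embed

/-!
# If `z` is weakly closed in `E`, no conjugate of `z` is inner outside `E` (owner: helper14)
-/

set_option autoImplicit false

namespace CfsgLib.JankoFour

open Cfsg CfsgLib.ThreeTrans
open CfsgLib.JankoFour.M22 (Grp)

variable {G : Type*} [Group G] [Finite G]

/-- `z` has no other conjugate in `E`. -/
def Setting.Closed (S : Setting G) : Prop := ∀ g, g * S.z * g⁻¹ ∈ S.E → g * S.z * g⁻¹ = S.z

namespace Setting

variable {S : Setting G} (hW : S.Closed)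
include hW

theorem closed_isZ {t : G} (h : S.IsZ t) (ht : t ∈ S.E) : t = S.z := by
  obtain ⟨g, rfl⟩ := h; exact hW g ht

/-- A product with an element of both large subgroups is not a conjugate. -/
theorem no_td {g d : G} (hd : g⁻¹ * d * g ∈ S.E) (hZ : S.IsZ (g * S.z * g⁻¹ * d)) : d = 1 := by
  have h1 : S.IsZ (S.z * (g⁻¹ * d * g)) := by
    have := S.isZ_conj hZ g⁻¹
    rwa [show g⁻¹ * (g * S.z * g⁻¹ * d) * g⁻¹⁻¹ = S.z * (g⁻¹ * d * g) by group] at this
  have h2 := closed_isZ hW h1 (mul_mem S.hE.z_mem hd)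
  rw [mul_eq_left] at h2
  rw [show d = g * (g⁻¹ * d * g) * g⁻¹ by group, h2]; group

theorem z_not_mem {g : G} (hne : g * S.z * g⁻¹ ≠ S.z) : g⁻¹ * S.z * g ∉ S.E := by
  intro h
  have := hW g⁻¹ (by rwa [inv_inv])
  rw [inv_inv] at this
  refine hne ?_
  conv_lhs => rw [← this]
  group

end Setting

namespace Frame

variable {S : Setting G} (F : Frame S)
include F

theorem fix_group (i : ℕ) {x : G} :
    x ∈ F.W i ⊓ Subgroup.centralizer ({F.t0} : Set G) ↔ x ∈ F.W i ∧ Commute F.t0 x := by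
  rw [Subgroup.mem_inf, mem_centralizer_singleton_iff']
  exact and_congr_right fun _ => ⟨Commute.symm, Commute.symm⟩

/-- The two fixed eights generate an elementary abelian group of order 32 consisting of commutators of `t0`. -/
theorem exists_L : ∃ L : Subgroup G, 32 ≤ Nat.card L ∧ (∀ l ∈ L, l * l = 1) ∧
    (∀ l ∈ L, ∀ l' ∈ L, Commute l l') ∧
    ∀ l ∈ L, ∃ l1 ∈ F.W 1, ∃ l2 ∈ F.W 2, Commute F.t0 l1 ∧ Commute F.t0 l2 ∧ l = l1 * l2 := by
  set A := F.W 1 ⊓ Subgroup.centralizer ({F.t0} : Set G) with hA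
  set B := F.W 2 ⊓ Subgroup.centralizer ({F.t0} : Set G) with hB
  have h1 := F.t0_moves (i := 1) (Or.inl rfl)
  have h2 := F.t0_moves (i := 2) (Or.inr rfl)
  have cAB : ∀ x ∈ A, ∀ y ∈ B, Commute x y := fun x hx y hy =>
    F.commute_W (by decide) ((F.fix_group 1).1 hx).1 ((F.fix_group 2).1 hy).1
  let φ : ↥A × ↥B →* G := MonoidHom.mk' (fun q => (q.1 : G) * q.2) fun q r => by
    show (q.1 : G) * r.1 * ((q.2 : G) * r.2) = q.1 * q.2 * (r.1 * r.2)
    rw [mul_assoc, ← mul_assoc (r.1 : G), (cAB _ r.1.2 _ q.2.2).eq]; group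
  refine ⟨φ.range, ?_, ?_, ?_, ?_⟩
  · have hk : Nat.card φ.ker ≤ 2 := by
      let ψ : φ.ker → ↥(Subgroup.zpowers S.z) := fun q => ⟨(q : ↥A × ↥B).1, by
        have e : ((q : ↥A × ↥B).1 : G) = ((q : ↥A × ↥B).2 : G)⁻¹ := eq_inv_of_mul_eq_one_left (MonoidHom.mem_ker.1 q.2)
        refine F.fixed_two (i := 1) (j := 2) (by decide) ((F.fix_group 1).1 (q : ↥A × ↥B).1.2).1 ?_
        rw [e]; exact inv_mem ((F.fix_group 2).1 (q : ↥A × ↥B).2.2).1⟩
      have hψ : Function.Injective ψ := fun q r e => by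
        have e1 : ((q : ↥A × ↥B).1 : G) = ((r : ↥A × ↥B).1 : G) := congrArg (fun y : ↥(Subgroup.zpowers S.z) => (y : G)) e
        have eq' : ((q : ↥A × ↥B).1 : G) * (q : ↥A × ↥B).2 = 1 := MonoidHom.mem_ker.1 q.2
        have er' : ((r : ↥A × ↥B).1 : G) * (r : ↥A × ↥B).2 = 1 := MonoidHom.mem_ker.1 r.2
        rw [e1, ← er'] at eq'
        exact Subtype.ext (Prod.ext (Subtype.ext e1) (Subtype.ext (mul_left_cancel eq')))
      refine (Nat.card_le_card_of_injective ψ hψ).trans ?_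
      rw [Nat.card_zpowers, S.orderOf_z]
    have hc := φ.ker.card_mul_index
    rw [Subgroup.index_ker, Nat.card_prod, (F.plane 1).card_fix (F.q_op F.t0_q 1) h1,
      (F.plane 2).card_fix (F.q_op F.t0_q 2) h2] at hc
    nlinarith
  · rintro _ ⟨⟨x, y⟩, rfl⟩
    have hx := (F.fix_group 1).1 x.2
    have hy := (F.fix_group 2).1 y.2
    rw [← map_mul, show ((x, y) : ↥A × ↥B) * (x, y) = 1 from ?_, map_one]
    exact Prod.ext (Subtype.ext ((F.plane 1).fix_sq (F.q_op F.t0_q 1) h1 hx.1 hx.2))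
      (Subtype.ext ((F.plane 2).fix_sq (F.q_op F.t0_q 2) h2 hy.1 hy.2))
  · rintro _ ⟨q, rfl⟩ _ ⟨r, rfl⟩
    show φ q * φ r = φ r * φ q
    rw [← map_mul, ← map_mul, show q * r = r * q from ?_]
    refine Prod.ext (Subtype.ext ?_) (Subtype.ext ?_)
    · have hx := (F.fix_group 1).1 q.1.2
      have hy := (F.fix_group 1).1 r.1.2
      exact ((F.plane 1).fix_comm (F.q_op F.t0_q 1) h1 hx.1 hx.2 hy.1 hy.2).eq
    · have hx := (F.fix_group 2).1 q.2.2
      have hy := (F.fix_group 2).1 r.2.2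
      exact ((F.plane 2).fix_comm (F.q_op F.t0_q 2) h2 hx.1 hx.2 hy.1 hy.2).eq
  · rintro _ ⟨⟨x, y⟩, rfl⟩
    exact ⟨x, ((F.fix_group 1).1 x.2).1, y, ((F.fix_group 2).1 y.2).1, ((F.fix_group 1).1 x.2).2,
      ((F.fix_group 2).1 y.2).2, rfl⟩

/-- Elements of the planes `1`, `2` are commutators with `a` up to the centre. -/
theorem comm_a {i : ℕ} (hi : i % 3 ≠ 0) {l : G} (hl : l ∈ F.W i) :
    ∃ r ∈ F.W i, ∃ c ∈ Subgroup.zpowers S.z, l = F.a * r * F.a⁻¹ * r⁻¹ * c ∧ r = F.a * l * F.a⁻¹ := by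
  have hlE := (S.mem_fixE.1 hl).1
  have haC := F.haC
  have hae : Commute F.a (F.el i) := (Commute.refl F.a).mul_right ((F.commute_p haC).pow_right i)
  have h1 : F.a * l * F.a⁻¹ ∈ F.W i := S.commute_fixE hae (commute_z haC) hl
  have h2 : F.a * (F.a * l * F.a⁻¹) * F.a⁻¹ ∈ F.W i := S.commute_fixE hae (commute_z haC) h1
  have hc := orbit_mem haC F.ha hlE fun c hcE hca hc => by
    refine F.fixed_two hi ?_ (F.mem_W0.2 ⟨hcE, hca⟩)
    rcases hc with rfl | rfl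
    exacts [mul_mem (mul_mem hl h1) h2, mul_mem (mul_mem (mul_mem hl h1) h2) (F.z_mem i)]
  set r := F.a * l * F.a⁻¹ with hr
  set r2 := F.a * r * F.a⁻¹ with hr2
  set c := l * r * r2 with hcdef
  refine ⟨r, h1, (r2 * r2)⁻¹ * c, mul_mem (inv_mem (S.hE.sq_mem (S.mem_fixE.1 h2).1)) hc, ?_, rfl⟩
  have hcl : Commute (l * r * r2) r := by
    rcases S.hE.eq_or hc with e | e <;> rw [← hcdef, e]
    · exact Commute.one_left r
    · exact (S.hE.commute_z (S.mem_fixE.1 h1).1).symm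
  have hsq : Commute (r2 * r2) r := by
    rcases S.hE.eq_or (S.hE.sq_mem (S.mem_fixE.1 h2).1) with e | e <;> rw [e]
    · exact Commute.one_left r
    · exact (S.hE.commute_z (S.mem_fixE.1 h1).1).symm
  have hlc : Commute (r2 * r2)⁻¹ (l * r * r2) := by
    rcases S.hE.eq_or hc with e | e <;> rw [← hcdef, e]
    · exact Commute.one_right _
    · exact (S.hE.commute_z (mul_mem (S.mem_fixE.1 h2).1 (S.mem_fixE.1 h2).1)).inv_left
  calc l = (l * r * r2) * r2⁻¹ * r⁻¹ := by group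
    _ = r2 * ((r2 * r2)⁻¹ * (l * r * r2)) * r⁻¹ := by
        have hc2 : Commute (l * r * r2) r2 := by
          rcases S.hE.eq_or hc with e | e <;> rw [← hcdef, e]
          · exact Commute.one_left r2
          · exact (S.hE.commute_z (S.mem_fixE.1 h2).1).symm
        rw [hc2.inv_right.eq]; group
    _ = r2 * (r⁻¹ * ((r2 * r2)⁻¹ * c)) := by
        rw [mul_assoc, (hsq.inv_left.mul_left hcl).inv_right.eq, hcdef]
    _ = _ := by rw [hr2]; group

/-- No conjugate has the form `x * t0` with `x` outside `<z>`. -/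
theorem no_inner_one (hW : S.Closed) {g x : G} (hx : x ∈ F.W 0) (hxz : x ∉ Subgroup.zpowers S.z)
    (he : g * S.z * g⁻¹ = x * F.t0) : False := by
  set t := g * S.z * g⁻¹ with ht
  have hx1 : x ≠ 1 := fun e => hxz (e ▸ one_mem _)
  have hxz' : x ≠ S.z := fun e => hxz (e ▸ Subgroup.mem_zpowers _)
  have hxE := (F.mem_W0.1 hx).1
  have hta : Commute F.a t := he ▸ (F.mem_W0.1 hx).2.symm.mul_right F.t0_q.2.1.symm
  obtain ⟨u, hu, v, hv, hux, hvx, huv⟩ := (F.plane 0).centralizer_nonabelian hx hx1 hxz'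
  have hW0t : ∀ {u}, u ∈ F.W 0 → Commute u x → Commute u t := fun hu hux => he ▸ hux.mul_right (F.t0_W hu).symm
  have hzin : g⁻¹ * S.z * g ∈ S.H0 := huv ▸ S.comm_inner (hW0t hu hux) (hW0t hv hvx)
  obtain ⟨L, hcard, hsq, hab, hL⟩ := F.exists_L
  have hLt : ∀ {l1 : G} {i : ℕ}, i % 3 ≠ 0 → l1 ∈ F.W i → Commute F.t0 l1 → Commute l1 t := fun hi hl hc =>
    he ▸ ((F.commute_W (fun e => hi (e.trans (Nat.zero_mod 3))) hl hx).mul_right hc.symm)
  have hin1 : ∀ {l1 : G} {i : ℕ}, i % 3 ≠ 0 → l1 ∈ F.W i → Commute F.t0 l1 → g⁻¹ * l1 * g ∈ S.H0 := by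
    intro l i hi hl hc
    obtain ⟨r, hrW, c, hcz, e, hr⟩ := F.comm_a hi hl
    have hrc : Commute F.t0 r := by
      rw [hr]
      exact ((F.t0_q.2.1.mul_right hc).mul_right F.t0_q.2.1.inv_right)
    rw [e, back_mul]
    refine mul_mem (S.comm_inner hta (hLt hi hrW hrc)) ?_
    rcases S.hE.eq_or hcz with rfl | rfl
    · simp
    · exact hzin
  have hle := S.embed (g := g) L hab hsq ?_ ?_
  · omega
  · intro l hl
    obtain ⟨l1, h1, l2, h2, c1, c2, rfl⟩ := hL l hl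
    rw [back_mul]
    exact mul_mem (hin1 (by decide) h1 c1) (hin1 (by decide) h2 c2)
  intro l hl hlE
  obtain ⟨l1, h1, l2, h2, c1, c2, hl12⟩ := hL l hl
  refine Setting.no_td hW hlE ?_
  rw [← ht]
  -- conjugate `t` by preimages
  obtain ⟨r1, hr1, e1⟩ := (F.plane 1).fix_image (F.q_op F.t0_q 1) (F.t0_moves (Or.inl rfl)) h1 c1
  obtain ⟨r2, hr2, e2⟩ := (F.plane 2).fix_image (F.q_op F.t0_q 2) (F.t0_moves (Or.inr rfl)) h2 c2
  have hstep : ∀ {i : ℕ} {r y : G}, i % 3 ≠ 0 → r ∈ F.W i →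
      (y = r * (F.t0 * r * F.t0⁻¹) ∨ y = S.z * (r * (F.t0 * r * F.t0⁻¹))) →
      ∃ c ∈ Subgroup.zpowers S.z, r * (F.t0 * r⁻¹ * F.t0⁻¹) = y * c := by
    intro i r y hi hr hy
    set r' := F.t0 * r * F.t0⁻¹ with hr'
    have hr'W : r' ∈ F.W i := F.q_W F.t0_q hr
    have hsq := inv_mem (S.hE.sq_mem (S.mem_fixE.1 hr'W).1)
    rcases hy with rfl | rfl
    · exact ⟨(r' * r')⁻¹, hsq, by rw [hr']; group⟩
    · refine ⟨(r' * r')⁻¹ * S.z, mul_mem hsq (Subgroup.mem_zpowers _), ?_⟩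
      have hz : Commute (r * r' * (r' * r')⁻¹) S.z := (S.hE.commute_z (mul_mem (S.mem_fixE.1 hr).1
        (S.mem_fixE.1 hr'W).1)).mul_left (S.hE.commute_z (mul_mem (S.mem_fixE.1 hr'W).1 (S.mem_fixE.1 hr'W).1)).inv_left
      rw [show S.z * (r * r') * ((r' * r')⁻¹ * S.z) = S.z * (r * r' * (r' * r')⁻¹ * S.z) by group, hz.eq,
        ← mul_assoc S.z S.z, S.hE.mul_self_z, one_mul, hr']
      group
  obtain ⟨k1, hk1, f1⟩ := hstep (i := 1) (by decide) hr1 e1
  obtain ⟨k2, hk2, f2⟩ := hstep (i := 2) (by decide) hr2 e2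
  have hr12 : Commute (r1 * r2) x := (F.commute_W (by decide) hr1 hx).mul_left (F.commute_W (by decide) hr2 hx)
  have hconj : (r1 * r2) * t * (r1 * r2)⁻¹ = x * ((l1 * k1) * (l2 * k2)) * F.t0 := by
    rw [he, ← f1, ← f2]
    have cc : Commute (r2 * (F.t0 * r2⁻¹ * F.t0⁻¹)) (F.t0 * r1⁻¹ * F.t0⁻¹) :=
      F.commute_W (i := 2) (j := 1) (by decide) (mul_mem hr2 (F.q_W F.t0_q (inv_mem hr2)))
        (F.q_W F.t0_q (inv_mem hr1))
    calc r1 * r2 * (x * F.t0) * (r1 * r2)⁻¹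
        = ((r1 * r2) * x) * (F.t0 * r2⁻¹ * F.t0⁻¹) * (F.t0 * r1⁻¹ * F.t0⁻¹) * F.t0 := by group
      _ = x * r1 * ((r2 * (F.t0 * r2⁻¹ * F.t0⁻¹)) * (F.t0 * r1⁻¹ * F.t0⁻¹)) * F.t0 := by
          rw [hr12.eq]; group
      _ = x * r1 * ((F.t0 * r1⁻¹ * F.t0⁻¹) * (r2 * (F.t0 * r2⁻¹ * F.t0⁻¹))) * F.t0 := by rw [cc.eq]
      _ = _ := by group
  have hk12 : k1 * k2 ∈ Subgroup.zpowers S.z := mul_mem hk1 hk2
  have hcz' : ∀ {k}, k ∈ Subgroup.zpowers S.z → Commute l2 k := fun hk =>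
    commute_z_zpowers (S.hE.commute_z (S.mem_fixE.1 h2).1) hk
  have e3 : (l1 * k1) * (l2 * k2) = l * (k1 * k2) := by
    rw [hl12, show l1 * k1 * (l2 * k2) = l1 * (k1 * l2) * k2 by group, ← (hcz' hk1).eq]; group
  rw [e3] at hconj
  have hlt0 : Commute F.t0 l := hl12 ▸ c1.mul_right c2
  have htl : ∀ k ∈ Subgroup.zpowers S.z, x * (l * k) * F.t0 = t * (l * k) := fun k hk => by
    rw [he, mul_assoc x, ← (hlt0.mul_right (commute_z_zpowers (F.q_z F.t0_q) hk)).eq, ← mul_assoc]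
  rcases S.hE.eq_or hk12 with r | r
  · rw [r, mul_one, show x * l * F.t0 = x * (l * 1) * F.t0 by rw [mul_one], htl 1 (one_mem _), mul_one] at hconj
    exact hconj ▸ S.isZ_conj ⟨g, ht.symm⟩ _
  · obtain ⟨f, hf, hfx⟩ : ∃ f ∈ F.W 0, ¬ Commute f x := by
      by_contra hno
      simp only [not_exists, not_and, not_not] at hno
      exact hxz (F.center_W 0 hx hno)
    have ef : f * x * f⁻¹ = S.z * x :=
      ((F.plane 0).hcomm f hf x hx).resolve_left fun e => hfx (mul_inv_eq_iff_eq_mul.1 e)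
    have hflk : Commute f (l * S.z) := by
      rw [hl12]
      exact ((F.commute_W (by decide) hf h1).mul_right (F.commute_W (by decide) hf h2)).mul_right
        (S.hE.commute_z (S.mem_fixE.1 hf).1)
    have := S.isZ_conj (hconj ▸ S.isZ_conj ⟨g, ht.symm⟩ (r1 * r2)) f
    rw [r, show f * (x * (l * S.z) * F.t0) * f⁻¹ = (f * x * f⁻¹) * (f * (l * S.z) * f⁻¹) * (f * F.t0 * f⁻¹) by group,
      ef, hflk.eq, (F.t0_W hf).symm.eq, mul_inv_cancel_right, mul_inv_cancel_right] at this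
    have hzl : Commute S.z (x * l) := ((S.hE.commute_z hxE).mul_left (S.hE.commute_z
      (hl12 ▸ mul_mem (S.mem_fixE.1 h1).1 (S.mem_fixE.1 h2).1))).symm
    rw [show S.z * x * (l * S.z) * F.t0 = S.z * ((x * l) * S.z) * F.t0 by group, ← hzl.eq, ← mul_assoc S.z,
      S.hE.mul_self_z, one_mul, show x * l * F.t0 = x * (l * 1) * F.t0 by rw [mul_one], htl 1 (one_mem _),
      mul_one] at this
    exact this

/-- No conjugate is `t0` or `t0 * z`. -/
theorem no_inner_zero (hW : S.Closed) {g x : G} (hx : x ∈ Subgroup.zpowers S.z)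
    (he : g * S.z * g⁻¹ = x * F.t0) : False := by
  haveI : Fact (Nat.Prime 2) := ⟨Nat.prime_two⟩
  haveI : Fact (Nat.Prime 3) := ⟨Nat.prime_three⟩
  set t := g * S.z * g⁻¹ with ht
  have hxC : x ∈ S.C := Subgroup.zpowers_le.2 S.z_mem_C hx
  have htC : t ∈ S.C := he ▸ mul_mem hxC F.t0_q.1
  have htE : t ∉ S.E := fun h => by
    have hxE := S.mem_E_of_zpowers hx
    refine F.t0_ne ((S.f_eq_one_iff (S.C_le_H0 F.t0_q.1)).2 (Subgroup.mem_sup_left ?_))
    have := mul_mem (inv_mem hxE) (he ▸ h)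
    rwa [inv_mul_cancel_left] at this
  have hne : t ≠ S.z := fun e => htE (e ▸ S.hE.z_mem)
  have hzE := Setting.z_not_mem hW (g := g) hne
  have hxW : x ∈ F.W 0 := Subgroup.zpowers_le.2 (F.z_mem 0) hx
  have hW0 : ∀ u ∈ F.W 0, Commute u t := fun u hu =>
    he ▸ (commute_z_zpowers (S.hE.commute_z (F.mem_W0.1 hu).1) hx).mul_right (F.t0_W hu).symm
  have htriv : ∀ u ∈ F.W 0, g⁻¹ * u * g ∈ S.E → u = 1 := by
    intro u hu huE
    by_cases hcen : ∀ v ∈ F.W 0, Commute v u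
    · rcases (F.plane 0).hcenter u hu hcen with e | e
      · exact e
      · exact absurd (e ▸ huE) hzE
    simp only [not_forall] at hcen
    obtain ⟨v, hv, hvu⟩ := hcen
    have e : v * u * v⁻¹ = S.z * u :=
      ((F.plane 0).hcomm v hv u hu).resolve_left fun e => hvu (mul_inv_eq_iff_eq_mul.1 e)
    exfalso
    refine hzE ?_
    have h1 := S.hE.conj_mem (S.back_z (hW0 v hv)) huE
    have h2 := mul_mem h1 (inv_mem huE)
    rwa [show g⁻¹ * v * g * (g⁻¹ * u * g) * (g⁻¹ * v * g)⁻¹ * (g⁻¹ * u * g)⁻¹ = g⁻¹ * (v * u * v⁻¹ * u⁻¹) * g by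
      group, e, mul_inv_cancel_right] at h2
  have hta : Commute F.a t := he ▸ (commute_z_zpowers (commute_z F.haC) hx).mul_right F.t0_q.2.1.symm
  set a' := g⁻¹ * F.a * g with ha'
  have ha'z : Commute a' S.z := S.back_z hta
  have ha'3 : a' ^ 3 = 1 := by rw [ha', show g⁻¹ * F.a * g = g⁻¹ * F.a * g⁻¹⁻¹ by group, conj_pow, F.ha]; simp
  have ha'1 : a' ≠ 1 := fun e => F.hab (by
    rw [show F.a = g * a' * g⁻¹ by rw [ha']; group, e]; simp [S.f_one])
  by_cases hEP : a' ∈ S.E ⊔ S.P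
  · -- `(t, a)` looks like `(z, P)`
    obtain ⟨e, hee, heq⟩ := S.three_conj hEP ha'3
    set k := g * e⁻¹ with hk
    have hkz : k * S.z * k⁻¹ = t := by
      rw [hk, show g * e⁻¹ * S.z * (g * e⁻¹)⁻¹ = g * (e⁻¹ * S.z * e) * g⁻¹ by group, mul_assoc e⁻¹,
        ← (S.hE.commute_z hee).eq, inv_mul_cancel_left]
    have hC : ∀ u, Commute u t → Commute u F.a → k⁻¹ * u * k ∈ S.C := by
      intro u hu hua
      refine S.mem_C_of_comm (S.back_z (g := k) (hkz.symm ▸ hu)) heq (fun r => ha'1 (conj_eq_one_iff.1 r)) ?_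
      have := (LargeData.commute_conj_iff' (g := k⁻¹)).2 hua
      rwa [inv_inv, show k⁻¹ * F.a * k = e * a' * e⁻¹ by rw [hk, ha']; group] at this
    obtain ⟨w, hw, hw2, hw1, hwz⟩ := (F.plane 0).exists_sing
    set z1 := k⁻¹ * S.z * k with hz1
    set w1 := k⁻¹ * w * k with hw1'
    have hz1C : z1 ∈ S.C := hC _ (S.mem_C.1 htC).1.symm (commute_z F.haC).symm
    have hw1C : w1 ∈ S.C := hC _ (hW0 w hw) (F.mem_W0.1 hw).2
    have hz12 : z1 * z1 = 1 := by
      rw [hz1, show k⁻¹ * S.z * k * (k⁻¹ * S.z * k) = k⁻¹ * (S.z * S.z) * k by group, S.hE.mul_self_z]; group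
    have hw12 : w1 * w1 = 1 := by
      rw [hw1', show k⁻¹ * w * k * (k⁻¹ * w * k) = k⁻¹ * (w * w) * k by group, hw2]; group
    have hne1 : ∀ u, k⁻¹ * u * k ∈ S.C → k⁻¹ * u * k * (k⁻¹ * u * k) = 1 → u ≠ 1 → u ≠ t → S.f (k⁻¹ * u * k) ≠ 1 := by
      intro u huC hu2 h1 h2 hf
      rcases S.ker_two huC hf (n := 1) (by rw [pow_one, pow_two, hu2]) with r | r
      · exact h1 (by rw [show u = k * (k⁻¹ * u * k) * k⁻¹ by group, r]; group)
      · exact h2 (by rw [show u = k * (k⁻¹ * u * k) * k⁻¹ by group, r, hkz])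
    have hwE := (F.mem_W0.1 hw).1
    have n1 := hne1 _ hz1C hz12 S.hE.z_ne_one hne.symm
    have n2 := hne1 _ hw1C hw12 hw1 fun r => htE (r ▸ hwE)
    obtain ⟨c1, hc1, e1⟩ := F.inv_C hz1C hz12 n1
    obtain ⟨c2, hc2, e2⟩ := F.inv_C hw1C hw12 n2
    have hcz : ∀ {c}, c ∈ S.C → Commute c S.z := fun hc => (S.mem_C.1 hc).1
    have hrel : ∃ j ∈ Subgroup.zpowers S.z, c2 * w1 * c2⁻¹ = c1 * z1 * c1⁻¹ * j := by
      rcases e1 with r | r <;> rcases e2 with r' | r' <;> rw [r, r']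
      · exact ⟨1, one_mem _, (mul_one _).symm⟩
      · exact ⟨S.z, Subgroup.mem_zpowers _, rfl⟩
      · exact ⟨S.z, Subgroup.mem_zpowers _, by rw [mul_assoc, S.hE.mul_self_z, mul_one]⟩
      · exact ⟨1, one_mem _, (mul_one _).symm⟩
    obtain ⟨j, hj, hrel⟩ := hrel
    set d := k * c2⁻¹ * c1 * k⁻¹ with hd
    have hdw : w = d * S.z * d⁻¹ * (k * j * k⁻¹) := by
      have hc2j : c2 * j * c2⁻¹ = j := by
        rw [(commute_z_zpowers (hcz hc2) hj).eq, mul_inv_cancel_right]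
      calc w = k * (c2⁻¹ * (c2 * w1 * c2⁻¹) * c2) * k⁻¹ := by rw [hw1']; group
        _ = k * (c2⁻¹ * (c1 * z1 * c1⁻¹ * (c2 * j * c2⁻¹)) * c2) * k⁻¹ := by rw [hrel, hc2j]
        _ = _ := by rw [hd, hz1]; group
    rcases S.hE.eq_or hj with rfl | rfl
    · rw [show k * 1 * k⁻¹ = 1 by group, mul_one] at hdw
      exact hwz (Setting.closed_isZ hW ⟨d, hdw.symm⟩ hwE)
    · rw [hkz] at hdw
      have e : d * S.z * d⁻¹ = w * x * F.t0 := by
        rw [mul_assoc w, ← he, hdw, mul_assoc (d * S.z * d⁻¹), conj_sq S.hE.mul_self_z, mul_one]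
      refine F.no_inner_one hW (mul_mem hw hxW) (fun hm => ?_) e
      have := mul_mem hm (inv_mem hx)
      rw [mul_inv_cancel_right] at this
      rcases S.hE.eq_or this with r | r
      exacts [hw1 r, hwz r]
  · -- the plane maps into the centralizer of an element of order three
    obtain ⟨h, hh, eh⟩ := F.three_classify_H ha'z ha'3 hEP
    obtain ⟨u0, hu0, v0, hv0, -, -, huv⟩ : ∃ u ∈ F.W 0, ∃ v ∈ F.W 0, True ∧ True ∧ u * v * u⁻¹ * v⁻¹ = S.z := by
      obtain ⟨y, hy, -, hy1, hyz⟩ := (F.plane 0).exists_sing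
      obtain ⟨u, hu, v, hv, -, -, e⟩ := (F.plane 0).centralizer_nonabelian hy hy1 hyz
      exact ⟨u, hu, v, hv, trivial, trivial, e⟩
    have hzin : g⁻¹ * S.z * g ∈ S.H0 := huv ▸ S.comm_inner (hW0 u0 hu0) (hW0 v0 hv0)
    have hzk : ∀ {c}, c ∈ Subgroup.zpowers S.z → g⁻¹ * c * g ∈ S.H0 := by
      intro c hc
      rcases S.hE.eq_or hc with rfl | rfl
      · simp
      · exact hzin
    have hin : ∀ u ∈ F.W 0, g⁻¹ * u * g ∈ S.H0 := by
      intro u hu
      have hP := F.plane 0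
      set r := pc F.p u with hr
      have hrW : r ∈ F.W 0 := hP.hpW u hu
      have hpt : Commute F.p t := (F.commute_p htC).symm
      have hk1 : u * r * pc F.p r ∈ Subgroup.zpowers S.z := by
        rcases hP.orbit_fix hu with e | e <;> rw [hr, e]
        exacts [one_mem _, Subgroup.mem_zpowers _]
      have hk2 : pc F.p r * pc F.p r ∈ Subgroup.zpowers S.z := S.hE.sq_mem (S.mem_fixE.1 (hP.hpW r hrW)).1
      -- `u` is a commutator up to the centre
      have e : u = (u * r * pc F.p r) * (pc F.p r * pc F.p r)⁻¹ * (F.p * r * F.p⁻¹ * r⁻¹) := by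
        simp only [pc]; group
      rw [e, back_mul, back_mul]
      exact mul_mem (mul_mem (hzk hk1) (hzk (inv_mem hk2))) (S.comm_inner hpt (hW0 r hrW))
    let M : Subgroup Grp := Subgroup.centralizer ({S.f F.a} : Set Grp)
    have hu0 : ∀ u : ↥(F.W 0), h * (g⁻¹ * u * g) * h⁻¹ ∈ S.H0 := fun u => S.hnorm h hh _ (hin u u.2)
    let φ : ↥(F.W 0) →* ↥M := MonoidHom.mk' (fun u => ⟨S.f (h * (g⁻¹ * u * g) * h⁻¹), by
        refine mem_centralizer_singleton_iff'.2 ?_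
        show _ = _
        have hua : Commute (h * (g⁻¹ * u * g) * h⁻¹) F.a := by
          rw [← eh, LargeData.commute_conj_iff', ha']
          have := (LargeData.commute_conj_iff' (g := g⁻¹)).2 (F.mem_W0.1 u.2).2
          rwa [inv_inv] at this
        rw [← S.f_mul (hu0 u) (S.C_le_H0 F.haC), ← S.f_mul (S.C_le_H0 F.haC) (hu0 u), hua.eq]⟩)
      fun u v => Subtype.ext (by
        show S.f _ = S.f _ * S.f _
        rw [← S.f_mul (hu0 u) (hu0 v)]
        exact congrArg S.f (show h * (g⁻¹ * (↑(u * v)) * g) * h⁻¹ = _ by push_cast; group))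
    have hinj : Function.Injective φ := (injective_iff_map_eq_one φ).2 fun u hu => Subtype.ext (by
      have h1 : S.f (h * (g⁻¹ * u * g) * h⁻¹) = 1 := congrArg Subtype.val hu
      have h4 : (h * (g⁻¹ * u * g) * h⁻¹) ^ 2 ^ 2 = 1 := by
        have h4' : (u : G) ^ 4 = 1 := by
          rw [show (4 : ℕ) = 2 * 2 from rfl, pow_mul, pow_two (u : G), pow_two]
          rcases (F.plane 0).hsq _ u.2 with r | r <;> rw [r]
          exacts [one_mul 1, S.hE.mul_self_z]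
        rw [conj_pow, show g⁻¹ * (u : G) * g = g⁻¹ * u * g⁻¹⁻¹ by group, conj_pow,
          show (2 : ℕ) ^ 2 = 4 from rfl, h4']
        simp
      have h2 := S.hE.conj_mem hh.inv_left (S.two_mem_E ((S.f_eq_one_iff (hu0 u)).1 h1) h4)
      rw [show h⁻¹ * (h * (g⁻¹ * u * g) * h⁻¹) * h⁻¹⁻¹ = g⁻¹ * u * g by group] at h2
      exact htriv _ u.2 h2)
    have h32 : 32 ∣ Nat.card M := by
      have := φ.range.card_subgroup_dvd_card
      rwa [← Nat.card_congr (MonoidHom.ofInjective hinj).toEquiv, F.card_W_all] at this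
    have h3 : 3 ∣ Nat.card M := by
      have h1 : Subgroup.zpowers (S.f F.a) ≤ M :=
        Subgroup.zpowers_le.2 (mem_centralizer_singleton_iff'.2 (Commute.refl _))
      have := Subgroup.card_dvd_of_le h1
      rwa [Nat.card_zpowers, orderOf_eq_prime F.hcfg.hr F.hcfg.hr1] at this
    have h36 : Nat.card M ≤ 36 := by
      classical
      have := F.cent_a_card_le (Finset.univ.filter fun q : Grp => q ∈ M)
        (fun q hq => mem_centralizer_singleton_iff'.1 (Finset.mem_filter.1 hq).2)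
      refine le_trans (le_of_eq ?_) this
      rw [← Nat.card_eq_finsetCard]
      exact Nat.card_congr (Equiv.subtypeEquivRight fun q => by simp [M])
    have h96 : 96 ∣ Nat.card M := Nat.Coprime.mul_dvd_of_dvd_of_dvd (by norm_num : Nat.Coprime 32 3) h32 h3
    have := Nat.le_of_dvd Nat.card_pos h96
    omega

/-- **No inner conjugate outside `E`.** -/
theorem no_inner (hW : S.Closed) {g : G} (h0 : g * S.z * g⁻¹ ∈ S.H0) : g * S.z * g⁻¹ = S.z := by
  by_cases hE : g * S.z * g⁻¹ ∈ S.E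
  · exact hW g hE
  exfalso
  obtain ⟨h, -, x, hx, e⟩ := F.inner_involution h0 (conj_sq S.hE.mul_self_z) hE
  have e' : h * g * S.z * (h * g)⁻¹ = x * F.t0 := by rw [← e]; group
  by_cases hxz : x ∈ Subgroup.zpowers S.z
  · exact F.no_inner_zero hW hxz e'
  · exact F.no_inner_one hW hx hxz e'

end Frame

end CfsgLib.JankoFour
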