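import Cfsg.Agent.Lib.JankoFour.WeakInner
import Cfsg.Agent.Lib.JankoFour.Halve
import Cfsg.Agent.Lib.ZStar.Main

/-!
# `z` is not weakly closed in `E` (owner: helper14)

An outer conjugate `t` of `z` commuting with `z` gives five conjugates `z`, `t`, `t z d` in an elementary group
of order 16 and an element of order three permuting the last three, which is impossible.
-/

set_option autoImplicit false

namespace CfsgLib.JankoFour

open Cfsg CfsgLib.ThreeTrans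
open CfsgLib.JankoFour.M22 (Grp)

variable {G : Type*} [Group G] [Finite G]

/-- `y` interchanges `a` and `b`. -/
def Sw (y a b : G) : Prop := y * a * y⁻¹ = b ∧ y * b * y⁻¹ = a

/-- `y` conjugates `a` to `b`. -/
def Mp (y a b : G) : Prop := y * a * y⁻¹ = b

omit [Finite G] in
theorem Mp.mul {y y' a b c : G} (h' : Mp y' a b) (h : Mp y b c) : Mp (y * y') a c := by
  show y * y' * a * (y * y')⁻¹ = c
  rw [← h, ← h']; group

omit [Finite G] in
theorem Sw.inv {y a b : G} (h : Sw y a b) : Mp y⁻¹ a b := by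
  show y⁻¹ * a * y⁻¹⁻¹ = b
  rw [← h.2]; group

omit [Finite G] in
theorem Sw.inv' {y a b : G} (h : Sw y a b) : Mp y⁻¹ b a := Sw.inv (a := b) (b := a) ⟨h.2, h.1⟩

theorem card_two_pow {H K : Subgroup G} (h : H ≤ K) {n m : ℕ} (hK : Nat.card K = 2 ^ n) (hlt : 2 ^ m < Nat.card H) :
    2 ^ (m + 1) ≤ Nat.card H := by
  obtain ⟨k, -, hk⟩ := (Nat.dvd_prime_pow Nat.prime_two).1 (hK ▸ Subgroup.card_dvd_of_le h)
  rw [hk] at hlt ⊢
  exact Nat.pow_le_pow_right (by norm_num) ((Nat.pow_lt_pow_iff_right (by norm_num)).1 hlt)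

namespace Frame

variable {S : Setting G} (F : Frame S) (hW : S.Closed)
include F hW

theorem back_outer {g : G} (htz : Commute (g * S.z * g⁻¹) S.z) (hto : g * S.z * g⁻¹ ∉ S.H0) :
    Commute (g⁻¹ * S.z * g) S.z ∧ g⁻¹ * S.z * g ∉ S.H0 := by
  refine ⟨S.back_z htz.symm, fun h => hto ?_⟩
  have e := F.no_inner hW (g := g⁻¹) (by rwa [inv_inv])
  rw [inv_inv] at e
  have : g * S.z * g⁻¹ = S.z := by
    conv_lhs => rw [← e]
    group
  rw [this]; exact S.z_mem_H0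

/-- The centralizer of `t` in `E` is elementary abelian. -/
theorem cent_elem {g x y : G} (hzo : g⁻¹ * S.z * g ∉ S.H0) (hx : x ∈ S.E) (hy : y ∈ S.E)
    (hxt : Commute x (g * S.z * g⁻¹)) (hyt : Commute y (g * S.z * g⁻¹)) : Commute x y ∧ x * x = 1 := by
  constructor
  · rcases S.hE.conj_eq_or hx hy with e | e
    · exact mul_inv_eq_iff_eq_mul.1 e
    · exfalso
      refine hzo ?_
      have := S.comm_inner hxt hyt
      rwa [e, mul_inv_cancel_right] at this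
  · rcases S.hE.eq_or (S.hE.sq_mem hx) with e | e
    · exact e
    · exfalso
      refine hzo ?_
      have := S.sq_mem (S.back_z hxt)
      rwa [← back_mul, e] at this

/-- Modulo `<z>` centralizing implies centralizing. -/
theorem exact_cent {g : G} (htz : Commute (g * S.z * g⁻¹) S.z) (hto : g * S.z * g⁻¹ ∉ S.H0) {x : G}
    (hx : x ∈ S.E) (hxt : g * S.z * g⁻¹ * x * (g * S.z * g⁻¹)⁻¹ * x⁻¹ ∈ Subgroup.zpowers S.z) :
    Commute (g * S.z * g⁻¹) x := by
  set t := g * S.z * g⁻¹ with ht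
  by_contra hc
  have ht2 : t * t = 1 := conj_sq S.hE.mul_self_z
  have hzo := (F.back_outer hW htz hto).2
  obtain ⟨U, hUE, hUiff, hcard, hU⟩ := F.halve htz ht2 hto S.E le_rfl S.hE.z_mem
    (fun _ hy => S.hE.conj_mem htz hy) (fun _ hy => S.hE.conj_mem (S.P_commute_z F.hpP) hy)
  have hxU : x ∈ U := (hUiff x).2 ⟨hx, hxt⟩
  have hmove : ∀ u ∈ U, Commute u t ∨ t * u * t⁻¹ = S.z * u := by
    intro u hu
    rcases S.hE.eq_or ((hUiff u).1 hu).2 with e | e
    · exact Or.inl (mul_inv_eq_iff_eq_mul.1 (mul_inv_eq_one.1 e)).symm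
    · exact Or.inr (mul_inv_eq_iff_eq_mul.1 e)
  have hx' : t * x * t⁻¹ = S.z * x := (hmove x hxU).resolve_left fun e => hc e.symm
  set K := U ⊓ Subgroup.centralizer ({t} : Set G) with hK
  have hKm : ∀ {u}, u ∈ K ↔ u ∈ U ∧ Commute u t := fun {u} => by
    rw [hK, Subgroup.mem_inf, mem_centralizer_singleton_iff']; rfl
  have hcardK : Nat.card U ≤ 2 * Nat.card K := by
    classical
    let Φ : ↥U → ↥K ⊕ ↥K := fun u =>
      if h : Commute (u : G) t then Sum.inl ⟨u, hKm.2 ⟨u.2, h⟩⟩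
      else Sum.inr ⟨x * u, hKm.2 ⟨mul_mem hxU u.2, by
        have e := (hmove u u.2).resolve_left h
        refine (mul_inv_eq_iff_eq_mul.1 (?_ : t * (x * u) * t⁻¹ = x * u)).symm
        rw [show t * (x * (u : G)) * t⁻¹ = (t * x * t⁻¹) * (t * u * t⁻¹) by group, hx', e,
          show S.z * x * (S.z * (u : G)) = S.z * (x * S.z) * u by group, (S.hE.commute_z hx).eq, ← mul_assoc S.z,
          S.hE.mul_self_z, one_mul]⟩⟩
    have hΦ : Function.Injective Φ := fun a b e => by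
      simp only [Φ] at e
      split_ifs at e
      · simpa using e
      · simpa using e
    have := Nat.card_le_card_of_injective Φ hΦ
    rw [Nat.card_sum] at this
    omega
  have h64 : 64 < 2 * Nat.card K := by
    rw [S.hcard] at hcard
    nlinarith
  have hK' : ∀ {u}, u ∈ K → u ∈ S.E ∧ Commute u t := fun hu => ⟨hUE (hKm.1 hu).1, (hKm.1 hu).2⟩
  have hle := S.embed_outer (g := g) K
    (fun u hu v hv => (F.cent_elem hW hzo (hK' hu).1 (hK' hv).1 (hK' hu).2 (hK' hv).2).1)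
    (fun u hu => (F.cent_elem hW hzo (hK' hu).1 (hK' hu).1 (hK' hu).2 (hK' hu).2).2)
    (fun u hu => (hK' hu).2) (fun d hd hdE => ?_)
  · omega
  obtain ⟨k, hk, ek⟩ := hU d (hKm.1 hd).1
  obtain ⟨hdEE, hdt⟩ := hK' hd
  set y := pc F.p d with hy
  have hkt : Commute (d * k) t := hdt.mul_left (commute_z_zpowers htz hk).symm
  have e1 : y * t * y⁻¹ = t * (d * k) := by
    rw [← hkt.eq, ← ek]; group
  refine Setting.no_td hW hdE ?_
  rw [← ht]
  have hZ : S.IsZ (t * (d * k)) := e1 ▸ S.isZ_conj ⟨g, ht.symm⟩ y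
  rcases S.hE.eq_or hk with r | r
  · rwa [r, mul_one] at hZ
  · have e2 : x * t * x⁻¹ = t * S.z := by
      rw [show x * t * x⁻¹ = (t⁻¹ * (t * x * t⁻¹ * x⁻¹))⁻¹ by group, hx', mul_inv_cancel_right, mul_inv_rev,
        inv_inv, S.hE.inv_z, htz.eq]
    have hyE : y ∈ S.E := S.hE.conj_mem (S.P_commute_z F.hpP) hdEE
    have e3 : y * (t * S.z) * y⁻¹ = t * d := by
      rw [show y * (t * S.z) * y⁻¹ = (y * t * y⁻¹) * (y * S.z * y⁻¹) by group, e1, (S.hE.commute_z hyE).eq,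
        mul_inv_cancel_right, r, show t * (d * S.z) * S.z = t * d * (S.z * S.z) by group, S.hE.mul_self_z, mul_one]
    rw [← e3, ← e2]
    exact S.isZ_conj (S.isZ_conj ⟨g, ht.symm⟩ x) y

/-- The common elements of the two large subgroups centralizing `t`. -/
def InD (g d : G) : Prop := d ∈ S.E ∧ Commute d (g * S.z * g⁻¹) ∧ g⁻¹ * d * g ∈ S.E

omit F hW in
theorem inD_back {g d : G} (h : InD (S := S) g d) : InD (S := S) g⁻¹ (g⁻¹ * d * g) := by
  refine ⟨h.2.2, ?_, ?_⟩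
  · rw [inv_inv]
    have := (LargeData.commute_conj_iff' (g := g⁻¹)).2 (S.hE.commute_z h.1)
    rwa [inv_inv] at this
  · rw [inv_inv, show g * (g⁻¹ * d * g) * g⁻¹ = d by group]; exact h.1

/-- Action of the half of an element of both large subgroups. -/
theorem alpha {g d : G} (htz : Commute (g * S.z * g⁻¹) S.z) (hto : g * S.z * g⁻¹ ∉ S.H0)
    (hd : InD (S := S) g d) (hd1 : d ≠ 1) :
    pc F.p d * (g * S.z * g⁻¹) * (pc F.p d)⁻¹ = g * S.z * g⁻¹ * (S.z * d) ∧ pc F.p d * S.z * (pc F.p d)⁻¹ = S.z ∧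
    pc F.p d * d * (pc F.p d)⁻¹ = d ∧
    ∀ d', InD (S := S) g d' → d' ≠ 1 → d' ≠ d → pc F.p d * d' * (pc F.p d)⁻¹ = d' * S.z := by
  set t := g * S.z * g⁻¹ with ht
  have ht2 : t * t = 1 := conj_sq S.hE.mul_self_z
  have hzo := (F.back_outer hW htz hto).2
  obtain ⟨U, hUE, hUiff, -, hU⟩ := F.halve htz ht2 hto S.E le_rfl S.hE.z_mem
    (fun _ hy => S.hE.conj_mem htz hy) (fun _ hy => S.hE.conj_mem (S.P_commute_z F.hpP) hy)
  -- the twist of an element
  have key : ∀ e, InD (S := S) g e → e ≠ 1 → pc F.p e * t * (pc F.p e)⁻¹ = t * (S.z * e) := by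
    intro e he he1
    have heU : e ∈ U := (hUiff e).2 ⟨he.1, by
      rw [show t * e * t⁻¹ = e from mul_inv_eq_iff_eq_mul.2 he.2.1.eq.symm, mul_inv_cancel]; exact one_mem _⟩
    obtain ⟨k, hk, ek⟩ := hU e heU
    have hkt : Commute (e * k) t := he.2.1.mul_left (commute_z_zpowers htz hk).symm
    have e1 : pc F.p e * t * (pc F.p e)⁻¹ = t * (e * k) := by rw [← hkt.eq, ← ek]; group
    rcases S.hE.eq_or hk with r | r
    · exfalso
      rw [r, mul_one] at e1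
      exact he1 (Setting.no_td hW he.2.2 (by rw [← ht, ← e1]; exact S.isZ_conj ⟨g, ht.symm⟩ _))
    · rw [e1, r, (S.hE.commute_z he.1).eq]
  have hyE : pc F.p d ∈ S.E := S.hE.conj_mem (S.P_commute_z F.hpP) hd.1
  have hyz : pc F.p d * S.z * (pc F.p d)⁻¹ = S.z := by rw [(S.hE.commute_z hyE).eq, mul_inv_cancel_right]
  have ez : ∀ {e}, e ∈ S.E → Commute e S.z := fun he => S.hE.commute_z he
  refine ⟨key d hd hd1, hyz, ?_, fun d' hd' h1 h2 => ?_⟩
  · rcases S.hE.conj_eq_or hyE hd.1 with e | e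
    · exact e
    exfalso
    have hdd : d * d = 1 := (F.cent_elem hW hzo hd.1 hd.1 hd.2.1 hd.2.1).2
    have e2 : pc F.p d * (t * (S.z * d)) * (pc F.p d)⁻¹ = t := by
      rw [← key d hd hd1, show pc F.p d * (pc F.p d * t * (pc F.p d)⁻¹) * (pc F.p d)⁻¹ =
        (pc F.p d * pc F.p d) * t * (pc F.p d * pc F.p d)⁻¹ by group, ← pc_mul, hdd]
      simp [pc]
    rw [show pc F.p d * (t * (S.z * d)) * (pc F.p d)⁻¹ = (pc F.p d * t * (pc F.p d)⁻¹) *
      ((pc F.p d * S.z * (pc F.p d)⁻¹) * (pc F.p d * d * (pc F.p d)⁻¹)) by group, key d hd hd1, hyz, e,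
      ← mul_assoc S.z S.z, S.hE.mul_self_z, one_mul, show t * (S.z * d) * d = t * S.z * (d * d) by group, hdd,
      mul_one, mul_eq_left] at e2
    exact S.hE.z_ne_one e2
  · rcases S.hE.conj_eq_or hyE hd'.1 with e | e
    swap
    · rw [e, (ez hd'.1).eq]
    exfalso
    have hdd : InD (S := S) g (d * d') :=
      ⟨mul_mem hd.1 hd'.1, hd.2.1.mul_left hd'.2.1, by rw [back_mul]; exact mul_mem hd.2.2 hd'.2.2⟩
    have hne : d * d' ≠ 1 := fun r => h2 (by
      rw [eq_inv_of_mul_eq_one_right r]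
      exact inv_eq_of_mul_eq_one_left (F.cent_elem hW hzo hd.1 hd.1 hd.2.1 hd.2.1).2)
    have e3 := key _ hdd hne
    rw [pc_mul, show pc F.p d * pc F.p d' * t * (pc F.p d * pc F.p d')⁻¹ =
      pc F.p d * (pc F.p d' * t * (pc F.p d')⁻¹) * (pc F.p d)⁻¹ by group, key d' hd' h1,
      show pc F.p d * (t * (S.z * d')) * (pc F.p d)⁻¹ = (pc F.p d * t * (pc F.p d)⁻¹) *
      ((pc F.p d * S.z * (pc F.p d)⁻¹) * (pc F.p d * d' * (pc F.p d)⁻¹)) by group, key d hd hd1, hyz, e,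
      show t * (S.z * d) * (S.z * d') = t * S.z * (d * S.z) * d' by group, (ez hd.1).eq,
      show t * S.z * (S.z * d) * d' = t * (S.z * S.z) * (d * d') by group, S.hE.mul_self_z, mul_one] at e3
    have e4 := mul_left_cancel e3
    exact S.hE.z_ne_one (mul_eq_right.1 e4.symm)

/-- The final contradiction for an involution centralizing `a`. -/
theorem finish {g : G} (htz : Commute (g * S.z * g⁻¹) S.z) (hto : g * S.z * g⁻¹ ∉ S.H0)
    (hta : Commute (g * S.z * g⁻¹) F.a)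
    (hfree : ∀ d, InD (S := S) g d → Commute d F.a → d = 1) : False := by
  set t := g * S.z * g⁻¹ with ht
  have ht2 : t * t = 1 := conj_sq S.hE.mul_self_z
  obtain ⟨hz'z, hzo⟩ := F.back_outer hW htz hto
  obtain ⟨U, hUW, hUiff, hcard, -⟩ := F.halve htz ht2 hto (F.W 0) (fun x hx => (F.mem_W0.1 hx).1) (F.z_mem 0)
    (fun x hx => S.commute_fixE (F.el_zero.symm ▸ hta) htz hx) (F.plane 0).hpW
  rw [F.card_W_all] at hcard
  have h8 : 8 ≤ Nat.card U := by
    refine card_two_pow (m := 2) (n := 5) hUW (F.card_W_all 0) ?_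
    nlinarith
  have hUt : ∀ {u}, u ∈ U → u ∈ F.W 0 ∧ Commute u t := fun {u} hu =>
    ⟨hUW hu, (F.exact_cent hW htz hto (F.mem_W0.1 (hUW hu)).1 ((hUiff u).1 hu).2).symm⟩
  have hUsq : ∀ {u}, u ∈ U → u * u = 1 := fun hu => by
    obtain ⟨h1, h2⟩ := hUt hu
    exact (F.cent_elem hW hzo (F.mem_W0.1 h1).1 (F.mem_W0.1 h1).1 h2 h2).2
  set a' := g⁻¹ * F.a * g with ha'
  have ha'z : Commute a' S.z := S.back_z hta.symm
  have ha'3 : a' ^ 3 = 1 := by rw [ha', show g⁻¹ * F.a * g = g⁻¹ * F.a * g⁻¹⁻¹ by group, conj_pow, F.ha]; simp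
  have ha'1 : a' ≠ 1 := fun e => F.hab (by
    rw [show F.a = g * a' * g⁻¹ by rw [ha']; group, e]; simp [S.f_one])
  set z' := g⁻¹ * S.z * g with hz'
  have hz'a : Commute z' a' := by
    have := (LargeData.commute_conj_iff' (g := g⁻¹)).2 (commute_z F.haC).symm
    rwa [inv_inv] at this
  have hEP : a' ∉ S.E ⊔ S.P := by
    intro hm
    obtain ⟨e, he, heq⟩ := S.three_conj hm ha'3
    have hC : e * z' * e⁻¹ ∈ S.C := S.mem_C_of_comm
      (((S.hE.commute_z he).mul_left hz'z).mul_left (S.hE.commute_z he).inv_left) heq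
      (fun r => ha'1 (conj_eq_one_iff.1 r)) ((LargeData.commute_conj_iff' (g := e)).2 hz'a)
    refine hzo ?_
    have := mul_mem (mul_mem (inv_mem (S.hEH0 he)) (S.C_le_H0 hC)) (S.hEH0 he)
    rwa [show e⁻¹ * (e * z' * e⁻¹) * e = z' by group] at this
  obtain ⟨h, hh, eh⟩ := F.three_classify_H ha'z ha'3 hEP
  set n0 := h * z' * h⁻¹ with hn0
  have hn0z : Commute n0 S.z := (hh.mul_left hz'z).mul_left hh.inv_left
  have hn0o : n0 ∉ S.H0 := fun hm => hzo (by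
    have := S.hnorm h⁻¹ hh.inv_left _ hm
    rwa [show h⁻¹ * n0 * h⁻¹⁻¹ = z' by rw [hn0]; group] at this)
  have hn0a : Commute n0 F.a := by rw [← eh, hn0]; exact LargeData.commute_conj_iff'.2 hz'a
  obtain ⟨L, hLU, hLcard, hLin⟩ := S.inner_part (g := g) (L := U) fun u hu => (hUt hu).2
  let φ : ↥L →* Grp := MonoidHom.mk' (fun u => S.f (h * (g⁻¹ * u * g) * h⁻¹)) fun u v => by
    show S.f _ = S.f _ * S.f _
    rw [← S.f_mul (S.hnorm h hh _ (hLin _ u.2)) (S.hnorm h hh _ (hLin _ v.2))]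
    exact congrArg S.f (show h * (g⁻¹ * (↑(u * v)) * g) * h⁻¹ = _ by push_cast; group)
  have himg : ∀ u : ↥L, φ u = 1 ∨ φ u = S.f F.t0 := by
    intro u
    obtain ⟨hu1, hu2⟩ := hUt (hLU u.2)
    refine F.image_outer (S.hnorm h hh _ (hLin _ u.2)) ?_ ?_ hn0z hn0o hn0a ?_
    · rw [← eh, LargeData.commute_conj_iff']
      have := (LargeData.commute_conj_iff' (g := g⁻¹)).2 (F.mem_W0.1 hu1).2
      rwa [inv_inv] at this
    · rw [conj_pow, show g⁻¹ * (u : G) * g = g⁻¹ * u * g⁻¹⁻¹ by group, conj_pow, show (4 : ℕ) = 2 * 2 from rfl,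
        pow_mul, pow_two (u : G), hUsq (hLU u.2)]
      simp
    · rw [hn0, LargeData.commute_conj_iff']
      have := (LargeData.commute_conj_iff' (g := g⁻¹)).2 (S.hE.commute_z (F.mem_W0.1 hu1).1).symm
      rwa [inv_inv] at this
  have hinj : Function.Injective φ := (injective_iff_map_eq_one φ).2 fun u hu => Subtype.ext (by
    obtain ⟨hu1, hu2⟩ := hUt (hLU u.2)
    refine hfree _ ⟨(F.mem_W0.1 hu1).1, hu2, ?_⟩ (F.mem_W0.1 hu1).2
    have h2' : g⁻¹ * (u : G) * g * (g⁻¹ * u * g) = 1 := by rw [← back_mul, hUsq (hLU u.2)]; group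
    have hm := S.hnorm h hh _ (hLin _ u.2)
    have hE2 := S.two_mem_E ((S.f_eq_one_iff hm).1 hu) (n := 1) (by
      rw [pow_one, pow_two, conj_mul, h2']; simp)
    have := S.hE.conj_mem hh.inv_left hE2
    rwa [show h⁻¹ * (h * (g⁻¹ * (u : G) * g) * h⁻¹) * h⁻¹⁻¹ = g⁻¹ * u * g by group] at this)
  have : Nat.card L ≤ 2 := by
    classical
    let ψ : ↥L → Bool := fun u => decide (φ u = 1)
    have hψ : Function.Injective ψ := fun u v e => hinj (by
      simp only [ψ, decide_eq_decide] at e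
      rcases himg u with r | r <;> rcases himg v with r' | r'
      · rw [r, r']
      · exact absurd (r'.symm.trans (e.1 r)) F.t0_ne
      · exact absurd (r.symm.trans (e.2 r')) F.t0_ne
      · rw [r, r'])
    refine (Nat.card_le_card_of_injective ψ hψ).trans ?_
    simp
  omega

/-- Three common elements give an element permuting them, hence a contradiction. -/
theorem five_points {g d1 d2 : G} (htz : Commute (g * S.z * g⁻¹) S.z) (hto : g * S.z * g⁻¹ ∉ S.H0)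
    (h1 : InD (S := S) g d1) (h2 : InD (S := S) g d2) (n1 : d1 ≠ 1) (n2 : d2 ≠ 1) (n12 : d2 ≠ d1)
    (hall : ∀ d, InD (S := S) g d → d = 1 ∨ d = d1 ∨ d = d2 ∨ d = d1 * d2) : False := by
  set t := g * S.z * g⁻¹ with ht
  have ht2 : t * t = 1 := conj_sq S.hE.mul_self_z
  obtain ⟨hz'z, hzo⟩ := F.back_outer hW htz hto
  have sq : ∀ {d}, InD (S := S) g d → d * d = 1 := fun hd =>
    (F.cent_elem hW hzo hd.1 hd.1 hd.2.1 hd.2.1).2
  have cm : ∀ {d e}, InD (S := S) g d → InD (S := S) g e → Commute d e := fun hd he =>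
    (F.cent_elem hW hzo hd.1 he.1 hd.2.1 he.2.1).1
  set d3 := d1 * d2 with hd3
  have h3 : InD (S := S) g d3 := ⟨mul_mem h1.1 h2.1, h1.2.1.mul_left h2.2.1, by
    rw [hd3, back_mul]; exact mul_mem h1.2.2 h2.2.2⟩
  have n3 : d3 ≠ 1 := fun e => n12 (by
    rw [eq_inv_of_mul_eq_one_right (hd3.symm.trans e)]; exact inv_eq_of_mul_eq_one_left (sq h1))
  have n13 : d3 ≠ d1 := fun e => n2 (mul_eq_left.1 e)
  have n23 : d3 ≠ d2 := fun e => n1 (mul_eq_right.1 e)
  let P : G → G := fun d => t * (S.z * d)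
  -- the first four-group
  have hA : ∀ d e f, InD (S := S) g d → InD (S := S) g e → d ≠ 1 → e ≠ 1 → e ≠ d → f = d * e →
      Sw (pc F.p d) t (P d) ∧ Mp (pc F.p d) S.z S.z ∧ Mp (pc F.p d) (P e) (P f) := by
    intro d e f hd he hd1 he1 hne hf
    obtain ⟨a1, a2, a3, a4⟩ := F.alpha hW htz hto hd hd1
    rw [← ht] at a1
    refine ⟨⟨a1, ?_⟩, a2, ?_⟩
    · show pc F.p d * (t * (S.z * d)) * (pc F.p d)⁻¹ = t
      rw [show pc F.p d * (t * (S.z * d)) * (pc F.p d)⁻¹ = (pc F.p d * t * (pc F.p d)⁻¹) *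
        ((pc F.p d * S.z * (pc F.p d)⁻¹) * (pc F.p d * d * (pc F.p d)⁻¹)) by group, a1, a2, a3,
        show t * (S.z * d) * (S.z * d) = t * (S.z * (d * S.z)) * d by group, (S.hE.commute_z hd.1).eq,
        ← mul_assoc S.z, S.hE.mul_self_z, one_mul, mul_assoc, sq hd, mul_one]
    · show pc F.p d * (t * (S.z * e)) * (pc F.p d)⁻¹ = t * (S.z * f)
      rw [show pc F.p d * (t * (S.z * e)) * (pc F.p d)⁻¹ = (pc F.p d * t * (pc F.p d)⁻¹) *
        ((pc F.p d * S.z * (pc F.p d)⁻¹) * (pc F.p d * e * (pc F.p d)⁻¹)) by group, a1, a2, a4 e he he1 hne,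
        (S.hE.commute_z he.1).eq, ← mul_assoc S.z, S.hE.mul_self_z, one_mul, hf]
      group
  -- the second one
  have hB : ∀ d e f, InD (S := S) g d → InD (S := S) g e → d ≠ 1 → e ≠ 1 → e ≠ d → f = d * e →
      Sw (g * pc F.p (g⁻¹ * d * g) * g⁻¹) S.z (P d) ∧ Mp (g * pc F.p (g⁻¹ * d * g) * g⁻¹) t t ∧
        Mp (g * pc F.p (g⁻¹ * d * g) * g⁻¹) (P e) (P f) := by
    intro d e f hd he hd1 he1 hne hf
    have c1 : g⁻¹ * d * g ≠ 1 := fun r => hd1 (by rw [show d = g * (g⁻¹ * d * g) * g⁻¹ by group, r]; group)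
    have c2 : g⁻¹ * e * g ≠ 1 := fun r => he1 (by rw [show e = g * (g⁻¹ * e * g) * g⁻¹ by group, r]; group)
    have c3 : g⁻¹ * e * g ≠ g⁻¹ * d * g := fun r => hne (mul_left_cancel (mul_right_cancel r))
    have hz'o : g⁻¹ * S.z * g⁻¹⁻¹ ∉ S.H0 := by rw [inv_inv]; exact hzo
    have hz'c : Commute (g⁻¹ * S.z * g⁻¹⁻¹) S.z := by rw [inv_inv]; exact hz'z
    obtain ⟨a1, a2, a3, a4⟩ := F.alpha hW hz'c hz'o (inD_back hd) c1
    have a4' := a4 _ (inD_back he) c2 c3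
    set y := pc F.p (g⁻¹ * d * g) with hy
    have b1 : g * y * g⁻¹ * S.z * (g * y * g⁻¹)⁻¹ = S.z * (t * d) := by
      rw [show g * y * g⁻¹ * S.z * (g * y * g⁻¹)⁻¹ = g * (y * (g⁻¹ * S.z * g⁻¹⁻¹) * y⁻¹) * g⁻¹ by group, a1, ht]
      group
    have b2 : g * y * g⁻¹ * t * (g * y * g⁻¹)⁻¹ = t := by
      rw [ht, show g * y * g⁻¹ * (g * S.z * g⁻¹) * (g * y * g⁻¹)⁻¹ = g * (y * S.z * y⁻¹) * g⁻¹ by group, a2]
    have b3 : g * y * g⁻¹ * d * (g * y * g⁻¹)⁻¹ = d := by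
      rw [show g * y * g⁻¹ * d * (g * y * g⁻¹)⁻¹ = g * (y * (g⁻¹ * d * g) * y⁻¹) * g⁻¹ by group, a3]; group
    have b4 : g * y * g⁻¹ * e * (g * y * g⁻¹)⁻¹ = e * t := by
      rw [show g * y * g⁻¹ * e * (g * y * g⁻¹)⁻¹ = g * (y * (g⁻¹ * e * g) * y⁻¹) * g⁻¹ by group, a4', ht]; group
    have ztd : S.z * (t * d) = t * (S.z * d) := by rw [← mul_assoc, ← htz.eq, mul_assoc]
    refine ⟨⟨b1.trans ztd, ?_⟩, b2, ?_⟩
    · show g * y * g⁻¹ * (t * (S.z * d)) * (g * y * g⁻¹)⁻¹ = S.z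
      rw [show g * y * g⁻¹ * (t * (S.z * d)) * (g * y * g⁻¹)⁻¹ = (g * y * g⁻¹ * t * (g * y * g⁻¹)⁻¹) *
        ((g * y * g⁻¹ * S.z * (g * y * g⁻¹)⁻¹) * (g * y * g⁻¹ * d * (g * y * g⁻¹)⁻¹)) by group, b2, b1, b3,
        ztd, show t * (t * (S.z * d) * d) = (t * t) * S.z * (d * d) by group, ht2, sq hd, one_mul, mul_one]
    · show g * y * g⁻¹ * (t * (S.z * e)) * (g * y * g⁻¹)⁻¹ = t * (S.z * f)
      rw [show g * y * g⁻¹ * (t * (S.z * e)) * (g * y * g⁻¹)⁻¹ = (g * y * g⁻¹ * t * (g * y * g⁻¹)⁻¹) *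
        ((g * y * g⁻¹ * S.z * (g * y * g⁻¹)⁻¹) * (g * y * g⁻¹ * e * (g * y * g⁻¹)⁻¹)) by group, b2, b1, b4, hf,
        he.2.1.eq, show t * (S.z * (t * d) * (t * e)) = t * (S.z * (t * (d * t) * e)) by group, hd.2.1.eq,
        ← mul_assoc t t, ht2, one_mul]
  have e1 : d3 = d1 * d2 := hd3
  have e2 : d1 = d2 * d3 := by rw [hd3, (cm h1 h2).eq, ← mul_assoc, sq h2, one_mul]
  have e3 : d2 = d3 * d1 := by rw [hd3, (cm h1 h2).eq, mul_assoc, sq h1, mul_one]
  have f1 : d2 = d1 * d3 := by rw [hd3, ← mul_assoc, sq h1, one_mul]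
  have f2 : d3 = d2 * d1 := by rw [hd3, (cm h1 h2).eq]
  have f3 : d1 = d3 * d2 := by rw [hd3, mul_assoc, sq h2, mul_one]
  obtain ⟨A1t, A1z, A1_2⟩ := hA d1 d2 d3 h1 h2 n1 n2 n12 e1
  obtain ⟨-, -, A1_3⟩ := hA d1 d3 d2 h1 h3 n1 n3 n13 f1
  obtain ⟨A2t, A2z, A2_1⟩ := hA d2 d1 d3 h2 h1 n2 n1 n12.symm f2
  obtain ⟨-, -, A2_3⟩ := hA d2 d3 d1 h2 h3 n2 n3 n23 e2
  obtain ⟨B1z, B1t, B1_2⟩ := hB d1 d2 d3 h1 h2 n1 n2 n12 e1
  obtain ⟨-, -, B1_3⟩ := hB d1 d3 d2 h1 h3 n1 n3 n13 f1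
  obtain ⟨B2z, B2t, B2_1⟩ := hB d2 d1 d3 h2 h1 n2 n1 n12.symm f2
  obtain ⟨-, -, B2_3⟩ := hB d2 d3 d1 h2 h3 n2 n3 n23 e2
  obtain ⟨B3z, B3t, B3_1⟩ := hB d3 d1 d2 h3 h1 n3 n1 n13.symm e3
  obtain ⟨-, -, B3_2⟩ := hB d3 d2 d1 h3 h2 n3 n2 n23.symm f3
  set α1 := pc F.p d1
  set α2 := pc F.p d2
  set β1 := g * pc F.p (g⁻¹ * d1 * g) * g⁻¹
  set β2 := g * pc F.p (g⁻¹ * d2 * g) * g⁻¹
  set β3 := g * pc F.p (g⁻¹ * d3 * g) * g⁻¹
  set x := β3 * (α1 * (β1 * (β2⁻¹ * (α2⁻¹ * β3⁻¹)))) with hx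
  have inv_fix : ∀ {y a : G}, Mp y a a → Mp y⁻¹ a a := fun {y a} h => (Sw.inv ⟨h, h⟩)
  have xz : Mp x S.z S.z :=
    (((((B3z.inv).mul (Sw.inv' ⟨A2_1, A2_3⟩)).mul (Sw.inv ⟨B2_1, B2_3⟩)).mul B1_3).mul A1_2).mul B3z.2
  have xt : Mp x t t :=
    ((((inv_fix B3t).mul A2t.inv).mul B2z.inv').mul B1z.1).mul A1t.2 |>.mul B3t
  have x1 : Mp x (P d1) (P d2) :=
    (((((Sw.inv ⟨B3_1, B3_2⟩).mul A2t.inv').mul (inv_fix B2t)).mul B1t).mul A1t.1).mul B3_1
  have x2 : Mp x (P d2) (P d3) :=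
    (((((Sw.inv' ⟨B3_1, B3_2⟩).mul (Sw.inv ⟨A2_1, A2_3⟩)).mul (Sw.inv' ⟨B2_1, B2_3⟩)).mul B1z.2).mul A1z).mul B3z.1
  have x3 : Mp x (P d3) (P d1) :=
    (((((B3z.inv').mul (inv_fix A2z)).mul B2z.inv).mul B1_2).mul A1_3).mul B3_2
  -- back to the elements
  have dP : ∀ d, d = S.z * t * P d := fun d => by
    show d = S.z * t * (t * (S.z * d))
    rw [show S.z * t * (t * (S.z * d)) = S.z * (t * t) * S.z * d by group, ht2, mul_one, S.hE.mul_self_z, one_mul]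
  have back : ∀ {d e}, Mp x (P d) (P e) → x * d * x⁻¹ = e := fun {d e} h => by
    conv_lhs => rw [dP d]
    rw [show x * (S.z * t * P d) * x⁻¹ = (x * S.z * x⁻¹) * (x * t * x⁻¹) * (x * P d * x⁻¹) by group, xz, xt, h, ← dP]
  have c1 := back x1
  have c2 := back x2
  have c3 := back x3
  have hxz : Commute x S.z := mul_inv_eq_iff_eq_mul.1 xz
  -- the 3-part
  obtain ⟨a, m, hm, hord⟩ := Nat.exists_eq_pow_mul_and_not_dvd (orderOf_pos x).ne' 3 (by norm_num)
  set x' := x ^ m with hx'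
  have hx'3 : x' ^ 3 ^ a = 1 := by rw [hx', ← pow_mul, mul_comm, ← hord, pow_orderOf_eq_one]
  have hx'z : Commute x' S.z := hxz.pow_left m
  have hx't : Commute x' t := (show Commute x t from mul_inv_eq_iff_eq_mul.1 xt).pow_left m
  have hcube : ∀ d, d = d1 ∨ d = d2 ∨ d = d3 → Commute (x ^ 3) d := by
    intro d hd
    refine mul_inv_eq_iff_eq_mul.1 ?_
    rw [show x ^ 3 * d * (x ^ 3)⁻¹ = x * (x * (x * d * x⁻¹) * x⁻¹) * x⁻¹ by simp [pow_succ, mul_assoc]]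
    rcases hd with rfl | rfl | rfl
    · rw [c1, c2, c3]
    · rw [c2, c3, c1]
    · rw [c3, c1, c2]
  have hmove : ∀ d, d = d1 ∨ d = d2 ∨ d = d3 → ¬ Commute x' d := by
    intro d hd hc
    have hx'' : x' = x ^ (m % 3) * (x ^ 3) ^ (m / 3) := by rw [hx', ← pow_mul, ← pow_add, Nat.mod_add_div]
    have hc2 : Commute (x ^ (m % 3)) d := by
      have := hc.mul_left ((hcube d hd).pow_left (m / 3)).inv_left
      rwa [hx'', mul_inv_cancel_right] at this
    rcases (show m % 3 = 1 ∨ m % 3 = 2 by omega) with r | r <;> rw [r] at hc2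
    · rw [pow_one] at hc2
      have e := mul_inv_eq_iff_eq_mul.2 hc2.eq
      rcases hd with rfl | rfl | rfl
      · exact n12 (c1.symm.trans e)
      · exact n23 (c2.symm.trans e)
      · exact n13 (c3.symm.trans e).symm
    · have e := mul_inv_eq_iff_eq_mul.2 hc2.eq
      rw [show x ^ 2 * d * (x ^ 2)⁻¹ = x * (x * d * x⁻¹) * x⁻¹ by simp [pow_succ, mul_assoc]] at e
      rcases hd with rfl | rfl | rfl
      · rw [c1, c2] at e; exact n13 e
      · rw [c2, c3] at e; exact n12 e.symm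
      · rw [c3, c1] at e; exact n23 e.symm
  have hx'1 : x' ≠ 1 := fun e => hmove d1 (Or.inl rfl) (e ▸ Commute.one_left d1)
  have h33 := F.three_exp hx'z hx'3
  have hEP : x' ∉ S.E ⊔ S.P := by
    intro hm'
    obtain ⟨e, he, heq⟩ := S.three_conj hm' h33
    have hC : e * t * e⁻¹ ∈ S.C := S.mem_C_of_comm
      (((S.hE.commute_z he).mul_left htz).mul_left (S.hE.commute_z he).inv_left) heq
      (fun r => hx'1 (conj_eq_one_iff.1 r)) ((LargeData.commute_conj_iff' (g := e)).2 hx't.symm)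
    refine hto ?_
    have := mul_mem (mul_mem (inv_mem (S.hEH0 he)) (S.C_le_H0 hC)) (S.hEH0 he)
    rwa [show e⁻¹ * (e * t * e⁻¹) * e = t by group] at this
  obtain ⟨h, hh, eh⟩ := F.three_classify_H hx'z h33 hEP
  have et : h * g * S.z * (h * g)⁻¹ = h * t * h⁻¹ := by rw [ht]; group
  refine F.finish hW (g := h * g) ?_ ?_ ?_ ?_
  · rw [et]; exact (hh.mul_left htz).mul_left hh.inv_left
  · rw [et]
    intro hm'
    have := S.hnorm h⁻¹ hh.inv_left _ hm'
    rw [show h⁻¹ * (h * t * h⁻¹) * h⁻¹⁻¹ = t by group] at this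
    exact hto this
  · rw [et, ← eh]; exact LargeData.commute_conj_iff'.2 hx't.symm
  · intro d hd hda
    set d0 := h⁻¹ * d * h with hd0
    have hd0' : InD (S := S) g d0 := by
      refine ⟨?_, ?_, ?_⟩
      · have := S.hE.conj_mem hh.inv_left hd.1
        rwa [inv_inv] at this
      · have := (LargeData.commute_conj_iff' (g := h⁻¹)).2 hd.2.1
        rwa [et, inv_inv, show h⁻¹ * (h * t * h⁻¹) * h = t by group] at this
      · have := hd.2.2
        rwa [show (h * g)⁻¹ * d * (h * g) = g⁻¹ * d0 * g by rw [hd0]; group] at this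
    have hd0x : Commute d0 x' := by
      have := (LargeData.commute_conj_iff' (g := h⁻¹)).2 hda
      rwa [inv_inv, ← eh, show h⁻¹ * (h * x' * h⁻¹) * h = x' by group] at this
    rcases hall d0 hd0' with r | r | r | r
    · rw [show d = h * d0 * h⁻¹ by rw [hd0]; group, r]; group
    all_goals exfalso
    · exact hmove d0 (Or.inl r) hd0x.symm
    · exact hmove d0 (Or.inr (Or.inl r)) hd0x.symm
    · exact hmove d0 (Or.inr (Or.inr r)) hd0x.symm

/-- No outer conjugate. -/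
theorem no_outer {g : G} (htz : Commute (g * S.z * g⁻¹) S.z) (hto : g * S.z * g⁻¹ ∉ S.H0) : False := by
  classical
  set t := g * S.z * g⁻¹ with ht
  have ht2 : t * t = 1 := conj_sq S.hE.mul_self_z
  obtain ⟨hz'z, hzo⟩ := F.back_outer hW htz hto
  obtain ⟨U, hUE, hUiff, hcard, -⟩ := F.halve htz ht2 hto S.E le_rfl S.hE.z_mem
    (fun _ hy => S.hE.conj_mem htz hy) (fun _ hy => S.hE.conj_mem (S.P_commute_z F.hpP) hy)
  have h128 : 128 ≤ Nat.card U := by
    refine card_two_pow (m := 6) (n := 13) hUE S.hcard ?_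
    rw [S.hcard] at hcard
    nlinarith
  have hUt : ∀ {u}, u ∈ U → Commute u t := fun {u} hu =>
    (F.exact_cent hW htz hto (hUE hu) ((hUiff u).1 hu).2).symm
  obtain ⟨L, hLU, hLcard, hLin⟩ := S.inner_part (g := g) (L := U) fun u hu => hUt hu
  let φ : ↥L →* Grp := MonoidHom.mk' (fun u => S.f (g⁻¹ * u * g)) fun a b => by
    rw [← S.f_mul (hLin _ a.2) (hLin _ b.2)]
    exact congrArg S.f (back_mul g a b)
  have hcomm : ∀ {u v}, u ∈ L → v ∈ L → Commute u v ∧ u * u = 1 := fun hu hv =>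
    F.cent_elem hW hzo (hUE (hLU hu)) (hUE (hLU hv)) (hUt (hLU hu)) (hUt (hLU hv))
  have hker : ∀ u : ↥L, φ u = 1 → InD (S := S) g u := fun u hu =>
    ⟨hUE (hLU u.2), hUt (hLU u.2), S.two_mem_E ((S.f_eq_one_iff (hLin _ u.2)).1 hu) (n := 1) (by
      rw [pow_one, pow_two, ← back_mul, (hcomm u.2 u.2).2]; group)⟩
  have hrange : Nat.card φ.range ≤ 16 := by
    refine M22.elementary_le_sixteen ?_ ?_
    · rintro _ ⟨a, rfl⟩ _ ⟨b, rfl⟩
      rw [← map_mul, ← map_mul, show a * b = b * a from Subtype.ext (hcomm a.2 b.2).1.eq]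
    · rintro _ ⟨a, rfl⟩
      rw [← map_mul, show a * a = 1 from Subtype.ext (hcomm a.2 a.2).2, map_one]
  have hk4 : 4 ≤ Nat.card φ.ker := by
    have := φ.ker.card_mul_index
    rw [Subgroup.index_ker] at this
    nlinarith
  obtain ⟨d1, hd1, hd1'⟩ : ∃ d : φ.ker, (d : ↥L) ≠ 1 ∧ True := by
    by_contra hno
    simp only [not_exists, and_true, not_not] at hno
    have : Nat.card φ.ker ≤ 1 := Finite.card_le_one_iff_subsingleton.2 ⟨fun a b => Subtype.ext ((hno a).trans (hno b).symm)⟩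
    omega
  obtain ⟨d2, hd2, hd21⟩ : ∃ d : φ.ker, (d : ↥L) ≠ 1 ∧ d ≠ d1 := by
    by_contra hno
    simp only [not_exists, not_and, not_not] at hno
    have : Nat.card φ.ker ≤ Nat.card Bool := Nat.card_le_card_of_injective (fun a : φ.ker => decide ((a : ↥L) = 1))
      fun a b e => by
        rw [decide_eq_decide] at e
        by_cases ha : (a : ↥L) = 1
        · exact Subtype.ext (ha.trans (e.1 ha).symm)
        · rw [hno a ha, hno b fun hb => ha (e.2 hb)]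
    rw [show Nat.card Bool = 2 by simp] at this
    omega
  have D1 : InD (S := S) g (d1 : ↥L) := hker _ (MonoidHom.mem_ker.1 d1.2)
  have D2 : InD (S := S) g (d2 : ↥L) := hker _ (MonoidHom.mem_ker.1 d2.2)
  have m1 : ((d1 : ↥L) : G) ≠ 1 := fun e => hd1 (Subtype.ext e)
  have m2 : ((d2 : ↥L) : G) ≠ 1 := fun e => hd2 (Subtype.ext e)
  have m12 : ((d2 : ↥L) : G) ≠ (d1 : ↥L) := fun e => hd21 (Subtype.ext (Subtype.ext e))
  refine F.five_points hW htz hto D1 D2 m1 m2 m12 ?_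
  intro d hd
  by_contra hcon
  simp only [not_or] at hcon
  obtain ⟨c1, c2, c3, c4⟩ := hcon
  set e1 := ((d1 : ↥L) : G)
  set e2 := ((d2 : ↥L) : G)
  have hp : InD (S := S) g (e2 * d) := ⟨mul_mem D2.1 hd.1, D2.2.1.mul_left hd.2.1, by
    rw [back_mul]; exact mul_mem D2.2.2 hd.2.2⟩
  have hi : e2⁻¹ = e2 := inv_eq_of_mul_eq_one_left (F.cent_elem hW hzo D2.1 D2.1 D2.2.1 D2.2.1).2
  have hne : e2 * d ≠ 1 := fun e => c3 ((eq_inv_of_mul_eq_one_right e).trans hi)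
  have hne1 : e2 * d ≠ e1 := fun e => c4 (by
    rw [← e, (F.cent_elem hW hzo D2.1 hd.1 D2.2.1 hd.2.1).1.eq, mul_assoc,
      (F.cent_elem hW hzo D2.1 D2.1 D2.2.1 D2.2.1).2, mul_one])
  obtain ⟨-, -, -, a4⟩ := F.alpha hW htz hto D1 m1
  have q1 := a4 e2 D2 m2 m12
  have q2 := a4 d hd c1 c2
  have q3 := a4 _ hp hne hne1
  rw [show pc F.p e1 * (e2 * d) * (pc F.p e1)⁻¹ = (pc F.p e1 * e2 * (pc F.p e1)⁻¹) * (pc F.p e1 * d * (pc F.p e1)⁻¹) by group,
    q1, q2, show e2 * S.z * (d * S.z) = e2 * (S.z * d) * S.z by group, ← (S.hE.commute_z hd.1).eq,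
    show e2 * (d * S.z) * S.z = e2 * d * (S.z * S.z) by group, S.hE.mul_self_z, mul_one, left_eq_mul] at q3
  exact S.hE.z_ne_one q3

omit hW in
/-- **`z` has another conjugate in `E`.** -/
theorem not_closed [IsSimpleGroup G] (hG : ¬ IsMulCommutative G) : ¬ S.Closed := by
  intro hW
  have hiso : IsIsolatedInvolution S.z := by
    refine ⟨S.orderOf_z, fun g hc => ?_⟩
    by_cases h0 : g * S.z * g⁻¹ ∈ S.H0
    · exact F.no_inner hW h0
    · exact (F.no_outer hW hc.symm h0).elim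
  have hcore : oddCore G = ⊥ := by
    rcases (inferInstance : (oddCore G).Normal).eq_bot_or_eq_top with h | h
    · exact h
    · exfalso
      have h1 := CfsgLib.ZStar.odd_card_oddCore G
      rw [h, Subgroup.card_top] at h1
      have := orderOf_dvd_natCard S.z
      rw [S.orderOf_z] at this
      exact (Nat.not_even_iff_odd.2 h1) (even_iff_two_dvd.2 this)
  have hcen : S.z ∈ Subgroup.center G := Subgroup.mem_center_iff.2 fun g => by
    have := CfsgLib.ZStar.mem_oddCore_of_isolated hiso g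
    rw [hcore, Subgroup.mem_bot] at this
    exact (mul_inv_eq_iff_eq_mul.1 (mul_inv_eq_one.1 this)).symm
  rcases (inferInstance : (Subgroup.center G).Normal).eq_bot_or_eq_top with h | h
  · rw [h, Subgroup.mem_bot] at hcen; exact S.hE.z_ne_one hcen
  · exact hG ⟨⟨fun a b => (Subgroup.mem_center_iff.1 (h ▸ Subgroup.mem_top b) a)⟩⟩

end Frame

end CfsgLib.JankoFour
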